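import Groth.Agent.Lambda.SplitPrinciple

/-!
# Identities for the universal product and composition series
-/

noncomputable section

open Finset
open PowerSeries (coeff rescale)

namespace Groth.Agent.Lambda

universe u v

variable {R : Type u} [CommRing R] {S : Type v} [CommRing S]

theorem map_rescale' (φ : R →+* S) (c : R) (f : PowerSeries R) :
    PowerSeries.map φ (rescale c f) = rescale (φ c) (PowerSeries.map φ f) := by
  ext n
  simp [PowerSeries.coeff_rescale]

theorem cc_rescale' {f : PowerSeries R} (hf : CC f) (c : R) : CC (rescale c f) := by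
  show PowerSeries.constantCoeff _ = 1
  rw [← PowerSeries.coeff_zero_eq_constantCoeff_apply, PowerSeries.coeff_rescale, pow_zero, one_mul, hf.coeff_zero]

theorem rescale_lin (c a : R) : rescale c (lin a) = lin (c * a) := by
  ext n
  rw [PowerSeries.coeff_rescale]
  cases n with
  | zero => rw [(cc_lin a).coeff_zero, (cc_lin _).coeff_zero, pow_zero, one_mul]
  | succ n =>
    rw [coeff_lin_succ, coeff_lin_succ]
    rcases Nat.eq_zero_or_pos n with rfl | hn
    · simp
    · simp [hn.ne']

theorem rescale_prodLin (c : R) (s : Multiset R) : rescale c (prodLin s) = prodLin (s.map (c * ·)) := by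
  induction s using Multiset.induction with
  | empty => simp [prodLin]
  | cons a s ih => rw [prodLin_cons, map_mul, rescale_lin, ih, Multiset.map_cons, prodLin_cons]

theorem rescale_inv1 {f : PowerSeries R} (hf : CC f) (c : R) : rescale c (inv1 f) = inv1 (rescale c f) := by
  refine (inv1_eq_of_mul_eq_one (cc_rescale' hf c) ?_).symm
  rw [← map_mul, mul_inv1 hf, map_one]

theorem psi_rescale {f : PowerSeries R} (hf : CC f) (c : R) (k : ℕ) :
    psi (rescale c f) k = c ^ k * psi f k := by
  cases k with
  | zero => simp [psi_zero]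
  | succ k =>
    have h : dlog (rescale c f) = PowerSeries.C c * rescale c (dlog f) := by
      apply dlog_eq_of_mul_eq (cc_rescale' hf c)
      rw [mul_left_comm, ← map_mul, mul_dlog hf]
      ext n
      rw [PowerSeries.coeff_C_mul, PowerSeries.coeff_rescale, PowerSeries.coeff_derivative,
        PowerSeries.coeff_derivative, PowerSeries.coeff_rescale, pow_succ]
      ring
    rw [psi_succ, psi_succ, h, PowerSeries.coeff_C_mul, PowerSeries.coeff_rescale, pow_succ]
    ring

theorem Pser_mul_left {f f' g : PowerSeries R} (hf : CC f) (hf' : CC f') (hg : CC g) :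
    Pser (f * f') g = Pser f g * Pser f' g := by
  obtain ⟨F, hF, rfl, -⟩ := exists_cc_lift (coverMap R) coverMap_surjective hf
  obtain ⟨F', hF', rfl, -⟩ := exists_cc_lift (coverMap R) coverMap_surjective hf'
  obtain ⟨G, hG, rfl, -⟩ := exists_cc_lift (coverMap R) coverMap_surjective hg
  rw [← map_mul, ← map_Pser, ← map_Pser, ← map_Pser, ← map_mul]
  congr 1
  refine eq_of_psi natTorsionFree_cover (cc_Pser _ _) ((cc_Pser _ _).mul (cc_Pser _ _)) fun k _ => ?_
  rw [psi_mul (cc_Pser _ _) (cc_Pser _ _), psi_Pser (hF.mul hF') hG, psi_Pser hF hG, psi_Pser hF' hG,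
    psi_mul hF hF', add_mul]

theorem Pser_comm {f g : PowerSeries R} (hf : CC f) (hg : CC g) : Pser f g = Pser g f := by
  obtain ⟨F, hF, rfl, -⟩ := exists_cc_lift (coverMap R) coverMap_surjective hf
  obtain ⟨G, hG, rfl, -⟩ := exists_cc_lift (coverMap R) coverMap_surjective hg
  rw [← map_Pser, ← map_Pser]
  congr 1
  refine eq_of_psi natTorsionFree_cover (cc_Pser _ _) (cc_Pser _ _) fun k _ => ?_
  rw [psi_Pser hF hG, psi_Pser hG hF, mul_comm]

theorem Pser_rescale {f g : PowerSeries R} (hf : CC f) (hg : CC g) (a b : R) :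
    Pser (rescale a f) (rescale b g) = rescale (a * b) (Pser f g) := by
  obtain ⟨F, hF, rfl, -⟩ := exists_cc_lift (coverMap R) coverMap_surjective hf
  obtain ⟨G, hG, rfl, -⟩ := exists_cc_lift (coverMap R) coverMap_surjective hg
  obtain ⟨A, rfl⟩ := coverMap_surjective a
  obtain ⟨B, rfl⟩ := coverMap_surjective b
  rw [← map_rescale', ← map_rescale', ← map_Pser, ← map_Pser, ← map_mul, ← map_rescale']
  congr 1
  refine eq_of_psi natTorsionFree_cover (cc_Pser _ _) (cc_rescale' (cc_Pser _ _) _) fun k _ => ?_
  rw [psi_Pser (cc_rescale' hF A) (cc_rescale' hG B), psi_rescale hF, psi_rescale hG,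
    psi_rescale (cc_Pser F G), psi_Pser hF hG]
  ring

theorem Pser_one_left {g : PowerSeries R} (hg : CC g) : Pser 1 g = 1 := by
  obtain ⟨G, hG, rfl, -⟩ := exists_cc_lift (coverMap R) coverMap_surjective hg
  rw [← map_one (PowerSeries.map (coverMap R)), ← map_Pser]
  congr 1
  refine eq_of_psi natTorsionFree_cover (cc_Pser _ _) CC.one fun k _ => ?_
  rw [psi_Pser CC.one hG, psi_one_series, zero_mul]

theorem Pser_one_right {f : PowerSeries R} (hf : CC f) : Pser f 1 = 1 := by
  rw [Pser_comm hf CC.one, Pser_one_left hf]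

/-- the bound and the top coefficient of a product, one factor split -/
theorem Pser_rank_aux (a : Multiset R) (n' : ℕ) (g : PowerSeries R) (hg : CC g)
    (hb : ∀ i, n' < i → coeff i g = 0) :
    (∀ i, Multiset.card a * n' < i → coeff i (Pser (prodLin a) g) = 0) ∧
      coeff (Multiset.card a * n') (Pser (prodLin a) g) = a.prod ^ n' * coeff n' g ^ Multiset.card a := by
  obtain ⟨U, _, L, _, φ, θ, G, b, hφ, hθ, hG, rfl, hθG, hb', hT⟩ := split_principle n' g hg hb
  obtain ⟨a', rfl⟩ : ∃ a' : Multiset U, a'.map φ = a :=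
    ⟨a.map (Function.surjInv hφ), by simp [Multiset.map_map, Function.surjInv_eq hφ]⟩
  have key : PowerSeries.map θ (Pser (prodLin a') G) = prodLin (prodsMS (a'.map θ) b) := by
    rw [map_Pser, map_prodLin, hθG, Pser_prodLin]
  have hcard : Multiset.card (prodsMS (a'.map θ) b) = Multiset.card a' * n' := by
    simp [prodsMS, hb']
  have hprod : ∀ (s t : Multiset L), (prodsMS s t).prod = s.prod ^ Multiset.card t * t.prod ^ Multiset.card s := by
    intro s t
    induction s using Multiset.induction with
    | empty => simp [prodsMS]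
    | cons x s ih =>
      rw [prodsMS_cons_left, Multiset.prod_add, ih, Multiset.prod_cons, Multiset.card_cons, mul_pow,
        pow_succ, Multiset.prod_map_mul, Multiset.map_const', Multiset.prod_replicate, Multiset.map_id']
      ring
  have htop : ∀ (t : Multiset L), t.esymm (Multiset.card t) = t.prod := fun t => by
    simp [Multiset.esymm, Multiset.powersetCard_self]
  have e : Pser (prodLin (a'.map φ)) (PowerSeries.map φ G) = PowerSeries.map φ (Pser (prodLin a') G) := by
    rw [map_Pser, map_prodLin]
  rw [e, Multiset.card_map]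
  constructor
  · intro i hi
    rw [PowerSeries.coeff_map]
    have : coeff i (Pser (prodLin a') G) = 0 := hθ <| by
      rw [← PowerSeries.coeff_map, key, coeff_prodLin, esymm_of_card_lt _ i (by rw [hcard]; exact hi), map_zero]
    rw [this, map_zero]
  · rw [PowerSeries.coeff_map, PowerSeries.coeff_map, ← map_pow φ, Multiset.prod_hom, ← map_pow φ, ← map_mul φ]
    congr 1
    apply hθ
    rw [← PowerSeries.coeff_map, key, coeff_prodLin, ← hcard, htop, hprod, hb', Multiset.card_map, map_mul,
      map_pow, map_pow, map_multiset_prod, ← PowerSeries.coeff_map, hθG, coeff_prodLin, ← hb', htop]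

/-- the bound and the top coefficient of a product -/
theorem Pser_rank (n n' : ℕ) (f g : PowerSeries R) (hf : CC f) (hg : CC g)
    (hfb : ∀ i, n < i → coeff i f = 0) (hgb : ∀ i, n' < i → coeff i g = 0) :
    (∀ i, n * n' < i → coeff i (Pser f g) = 0) ∧
      coeff (n * n') (Pser f g) = coeff n f ^ n' * coeff n' g ^ n := by
  obtain ⟨U, _, L, _, φ, θ, F, a, hφ, hθ, hF, rfl, hθF, ha, hT⟩ := split_principle n f hf hfb
  obtain ⟨G, hG, rfl, hG0⟩ := exists_cc_lift φ hφ hg
  have hGb : ∀ i, n' < i → coeff i G = 0 := fun i hi => hG0 i (by omega) (hgb i hi)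
  obtain ⟨h1, h2⟩ := Pser_rank_aux a n' (PowerSeries.map θ G) (hG.map θ)
    fun i hi => by rw [PowerSeries.coeff_map, hGb i hi, map_zero]
  rw [ha, ← hθF, ← map_Pser] at h1 h2
  have h1' : ∀ i, n * n' < i → coeff i (Pser F G) = 0 := fun i hi => hθ <| by
    rw [← PowerSeries.coeff_map, h1 i hi, map_zero]
  have hn : a.prod = θ (coeff n F) := by
    rw [← PowerSeries.coeff_map, hθF, coeff_prodLin, ← ha]
    simp [Multiset.esymm, Multiset.powersetCard_self]
  rw [hn, PowerSeries.coeff_map, PowerSeries.coeff_map, ← map_pow θ, ← map_pow θ, ← map_mul θ] at h2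
  rw [← map_Pser]
  refine ⟨fun i hi => by rw [PowerSeries.coeff_map, h1' i hi, map_zero], ?_⟩
  rw [PowerSeries.coeff_map, hθ h2, PowerSeries.coeff_map, PowerSeries.coeff_map, map_mul, map_pow, map_pow]

theorem powMS_eq_zero_of_card_lt (s : Multiset R) (i : ℕ) (h : Multiset.card s < i) : powMS s i = 0 := by
  simp [powMS, Multiset.powersetCard_eq_empty i h]

theorem powMS_cons (a : R) (s : Multiset R) (i : ℕ) :
    powMS (a ::ₘ s) (i + 1) = powMS s (i + 1) + (powMS s i).map (a * ·) := by
  simp [powMS, Multiset.powersetCard_cons, Multiset.map_map, Function.comp_def]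

/-- `λ_t(λ^i)` of a line plus a bounded element -/
theorem Qser_lin_mul (n : ℕ) (l : R) (g : PowerSeries R) (hg : CC g) (hb : ∀ i, n < i → coeff i g = 0) :
    (∀ i, Qser (i + 1) (lin l * g) = rescale l (Qser i g) * Qser (i + 1) g) ∧
      ∀ i, n < i → Qser i g = 1 := by
  obtain ⟨U, _, L, _, φ, θ, G, b, hφ, hθ, hG, rfl, hθG, hb', hT⟩ := split_principle n g hg hb
  obtain ⟨l', rfl⟩ := hφ l
  have hinj : Function.Injective (PowerSeries.map θ) := PowerSeries.map_injective θ hθ
  refine ⟨fun i => ?_, fun i hi => ?_⟩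
  · rw [← map_lin, ← map_mul, ← map_Qser, ← map_Qser, ← map_Qser, ← map_rescale', ← map_mul]
    congr 1
    apply hinj
    rw [map_Qser, map_mul, map_mul, map_rescale', map_Qser, map_Qser, map_lin, hθG, ← prodLin_cons,
      Qser_prodLin, Qser_prodLin, Qser_prodLin, powMS_cons, prodLin_add, rescale_prodLin, mul_comm]
  · rw [← map_Qser, ← map_one (PowerSeries.map φ)]
    congr 1
    apply hinj
    rw [map_Qser, map_one, hθG, Qser_prodLin, powMS_eq_zero_of_card_lt b i (by omega), prodLin_zero]

end Groth.Agent.Lambda
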