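import Groth.Agent.Lambda.GammaFil

/-!
# λ-rings with positive structure and the splitting property
-/

noncomputable section

set_option linter.style.haveILetI false
set_option linter.unusedSectionVars false
set_option linter.unusedSimpArgs false

open Finset LambdaRing

namespace Groth.Agent.Lambda

universe u

variable {K : Type u} [CommRing K] [LambdaOps K]

theorem line_lam {P : PosStructure K} {u : K} (hu : P.IsLine u) (i : ℕ) (hi : 2 ≤ i) :
    LambdaOps.lam i u = 0 :=
  P.lam_eq_zero u hu.1 i (by rw [hu.2]; exact_mod_cast hi)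

theorem line_one (P : PosStructure K) : P.IsLine (1 : K) :=
  ⟨by simpa using P.natCast_mem 1 one_pos, map_one _⟩

theorem pos_lam_one (P : PosStructure K) (i : ℕ) (hi : 2 ≤ i) : LambdaOps.lam i (1 : K) = 0 :=
  line_lam (line_one P) i hi

theorem line_mul {P : PosStructure K} {u v : K} (hu : P.IsLine u) (hv : P.IsLine v) : P.IsLine (u * v) :=
  ⟨P.mul_mem u v hu.1 hv.1, by rw [map_mul, hu.2, hv.2, mul_one]⟩

theorem closure_pos (P : PosStructure K) : AddSubgroup.closure P.pos = ⊤ := by
  rw [eq_top_iff]
  intro x _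
  obtain ⟨e, f, he, hf, rfl⟩ := P.exists_sub x
  exact sub_mem (AddSubgroup.subset_closure he) (AddSubgroup.subset_closure hf)

theorem aug_sum_lines {P : PosStructure K} (s : Multiset K) (hs : ∀ v ∈ s, P.IsLine v) :
    P.aug s.sum = (Multiset.card s : ℤ) := by
  induction s using Multiset.induction with
  | empty => simp
  | cons a s ih =>
    rw [Multiset.sum_cons, map_add, (hs a (Multiset.mem_cons_self a s)).2,
      ih fun v hv => hs v (Multiset.mem_cons_of_mem hv), Multiset.card_cons]
    push_cast; ring

theorem IsExtension.lHom {L : Type u} [CommRing L] [LambdaOps L] {P : PosStructure K}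
    {P' : PosStructure L} {f : K →+* L} (h : IsExtension P P' f) : LHom f :=
  (lHom_iff f).2 fun i x => h.isLambdaHom i x

theorem IsExtension.line {L : Type u} [CommRing L] [LambdaOps L] {P : PosStructure K}
    {P' : PosStructure L} {f : K →+* L} (h : IsExtension P P' f) {u : K} (hu : P.IsLine u) :
    P'.IsLine (f u) :=
  ⟨h.pos_subset u hu.1, by rw [h.aug_comp]; exact hu.2⟩

theorem IsExtension.comp {L M : Type u} [CommRing L] [LambdaOps L] [CommRing M] [LambdaOps M]
    {P : PosStructure K} {P' : PosStructure L} {P'' : PosStructure M} {f : K →+* L} {g : L →+* M}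
    (hg : IsExtension P' P'' g) (hf : IsExtension P P' f) : IsExtension P P'' (g.comp f) where
  isLambdaHom i x := by
    show g (f _) = LambdaOps.lam i (g (f x))
    rw [hf.isLambdaHom i x, hg.isLambdaHom i (f x)]
  injective := hg.injective.comp hf.injective
  aug_comp x := by rw [RingHom.comp_apply, hg.aug_comp, hf.aug_comp]
  pos_subset e he := hg.pos_subset _ (hf.pos_subset e he)

theorem IsExtension.refl (P : PosStructure K) : IsExtension P P (RingHom.id K) where
  isLambdaHom _ _ := rfl
  injective := Function.injective_id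
  aug_comp _ := rfl
  pos_subset _ he := he

/-- finitely many positive elements split simultaneously -/
theorem split_list {P : PosStructure K} (hK : HasSplitting K P) (es : List K) (hes : ∀ e ∈ es, e ∈ P.pos) :
    ∃ (L : PosLambdaRing.{u}) (f : K →+* L.carrier), IsExtension P L.posStr f ∧
      HasSplitting L.carrier L.posStr ∧
      ∀ e ∈ es, ∃ s : Multiset L.carrier, (∀ v ∈ s, L.posStr.IsLine v) ∧ s.sum = f e := by
  obtain ⟨C, hKC, hC⟩ := hK
  suffices H : ∃ L ∈ C, ∃ f : K →+* L.carrier, IsExtension P L.posStr f ∧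
      ∀ e ∈ es, ∃ s : Multiset L.carrier, (∀ v ∈ s, L.posStr.IsLine v) ∧ s.sum = f e by
    obtain ⟨L, hL, f, hf, h⟩ := H
    exact ⟨L, f, hf, ⟨C, hL, hC⟩, h⟩
  induction es with
  | nil => exact ⟨_, hKC, RingHom.id K, IsExtension.refl P, by simp⟩
  | cons e es ih =>
    obtain ⟨L, hL, f, hf, h⟩ := ih fun x hx => hes x (List.mem_cons_of_mem _ hx)
    obtain ⟨M, hM, g, hg, s, hs, hsum⟩ := hC L hL (f e) (hf.pos_subset e (hes e List.mem_cons_self))
    refine ⟨M, hM, g.comp f, IsExtension.comp hg hf, fun x hx => ?_⟩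
    rcases List.mem_cons.1 hx with rfl | hx
    · exact ⟨s, hs, hsum⟩
    · obtain ⟨t, ht, hts⟩ := h x hx
      refine ⟨t.map g, fun v hv => ?_, ?_⟩
      · obtain ⟨w, hw, rfl⟩ := Multiset.mem_map.1 hv
        exact IsExtension.line hg (ht w hw)
      · rw [← map_multiset_sum, hts, RingHom.comp_apply]

/-- the lines of a positive structure -/
abbrev LineIdx (P : PosStructure K) : Type u := {v : K // P.IsLine v}

/-- evaluation of the model at all line elements -/
def lineEval (P : PosStructure K) : Mod (LineIdx P) →ₐ[ℤ] K :=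
  MvPolynomial.aeval fun i => i.idx.1 - 1

theorem lineEval_basis (P : PosStructure K) (d : MVar (LineIdx P) →₀ ℕ) :
    P.IsLine (lineEval P (lineBasis d)) := by
  rw [lineBasis_apply, map_finsuppProd]
  let S : Submonoid K :=
    { carrier := {v | P.IsLine v}, mul_mem' := line_mul, one_mem' := line_one P }
  show _ ∈ S
  refine Submonoid.prod_mem S fun i _ => ?_
  dsimp only
  rw [map_pow, map_add, map_one, lineEval, MvPolynomial.aeval_X, sub_add_cancel]
  exact Submonoid.pow_mem S i.idx.2 _

theorem lHom_lineEval (P : PosStructure K) : LHom (lineEval P).toRingHom := by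
  refine lHom_of_closure _ (Set.range lineBasis) ?_ ?_
  · rw [← Submodule.span_int_eq_addSubgroupClosure, Module.Basis.span_eq, Submodule.top_toAddSubgroup]
  · rintro _ ⟨d, rfl⟩
    rw [lamSeries_eq_lin (isLine_basis d), map_lin]
    exact (lamSeries_eq_lin (line_lam (lineEval_basis P d))).symm

theorem exists_lineEval (P : PosStructure K) (s : Multiset K) (hs : ∀ v ∈ s, P.IsLine v) :
    ∃ p, lineEval P p = s.sum := by
  induction s using Multiset.induction with
  | empty => exact ⟨0, by simp⟩
  | cons a s ih =>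
    obtain ⟨p, hp⟩ := ih fun v hv => hs v (Multiset.mem_cons_of_mem hv)
    refine ⟨MvPolynomial.X ⟨⟨a, hs a (Multiset.mem_cons_self a s)⟩⟩ + 1 + p, ?_⟩
    rw [map_add, map_add, map_one, hp, lineEval, MvPolynomial.aeval_X, sub_add_cancel, Multiset.sum_cons]

/-- finitely many elements lie, in an extension, in the image of a model -/
theorem split_model {P : PosStructure K} (hK : HasSplitting K P) (xs : List K) :
    ∃ (L : PosLambdaRing.{u}) (f : K →+* L.carrier), IsExtension P L.posStr f ∧
      ∀ x ∈ xs, ∃ p, lineEval L.posStr p = f x := by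
  choose e g he hg hx using fun x : K => P.exists_sub x
  obtain ⟨L, f, hf, -, h⟩ := split_list hK (xs.map e ++ xs.map g) (by
    intro y hy
    rcases List.mem_append.1 hy with hy | hy <;> obtain ⟨x, -, rfl⟩ := List.mem_map.1 hy
    exacts [he x, hg x])
  refine ⟨L, f, hf, fun x hxs => ?_⟩
  obtain ⟨s, hs, hse⟩ := h (e x) (List.mem_append_left _ (List.mem_map_of_mem hxs))
  obtain ⟨t, ht, htg⟩ := h (g x) (List.mem_append_right _ (List.mem_map_of_mem hxs))
  obtain ⟨p, hp⟩ := exists_lineEval _ s hs
  obtain ⟨q, hq⟩ := exists_lineEval _ t ht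
  exact ⟨p - q, by rw [map_sub, hp, hq, hse, htg, ← map_sub, ← hx x]⟩

/-- the splitting property implies specialness -/
theorem isSpecial_of_splitting {P : PosStructure K} (hK : HasSplitting K P) : IsSpecial K := by
  refine isSpecial_of_series (fun n hn => pos_lam_one P n hn) (fun x y => ?_) (fun i x => ?_)
  · obtain ⟨L, f, hf, h⟩ := split_model hK [x, y]
    obtain ⟨p, hp⟩ := h x (by simp)
    obtain ⟨q, hq⟩ := h y (by simp)
    apply PowerSeries.map_injective f hf.injective
    rw [map_Pser, IsExtension.lHom hf, IsExtension.lHom hf, IsExtension.lHom hf, map_mul, ← hp, ← hq, ← map_mul]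
    show lamSeries ((lineEval L.posStr).toRingHom (p * q)) =
      Pser (lamSeries ((lineEval L.posStr).toRingHom p)) (lamSeries ((lineEval L.posStr).toRingHom q))
    rw [← lHom_lineEval, ← lHom_lineEval, ← lHom_lineEval, Special.lamSeries_mul isSpecial_model, map_Pser]
  · obtain ⟨L, f, hf, h⟩ := split_model hK [x]
    obtain ⟨p, hp⟩ := h x (by simp)
    apply PowerSeries.map_injective f hf.injective
    rw [map_Qser, IsExtension.lHom hf, IsExtension.lHom hf, (IsExtension.lHom hf).map_lam, ← hp]
    show lamSeries (LambdaOps.lam i ((lineEval L.posStr).toRingHom p)) =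
      Qser i (lamSeries ((lineEval L.posStr).toRingHom p))
    rw [← (lHom_lineEval L.posStr).map_lam, ← lHom_lineEval, ← lHom_lineEval,
      Special.lamSeries_lam isSpecial_model, map_Qser]

/-- the λ-structure of ℤ -/
@[reducible] def intOps : LambdaOps ℤ := binomialLambdaOps ℤ

section Int

attribute [local instance] intOps

theorem isBinomial_int : IsBinomial ℤ := fun _ _ => rfl

theorem lHom_intCast (P : PosStructure K) : LHom (Int.castRingHom K) := by
  refine lHom_of_closure _ {1} ?_ ?_
  · rw [eq_top_iff]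
    intro n _
    have h := AddSubgroup.zsmul_mem _ (AddSubgroup.subset_closure (Set.mem_singleton (1 : ℤ))) n
    simpa using h
  · rintro x rfl
    rw [lamSeries_eq_lin (fun i hi => (isSpecial_binomial isBinomial_int).lam_one_eq_zero i hi), map_lin, map_one,
      lamSeries_eq_lin (pos_lam_one P)]

theorem isLambdaAlg_int (P : PosStructure K) : IsLambdaAlg ℤ K := by
  intro n x
  rw [algebraMap_int_eq]
  exact (lHom_intCast P).map_lam n x

/-- the augmentation as an algebra map -/
def augAlg (P : PosStructure K) : K →ₐ[ℤ] ℤ := P.aug.toIntAlgHom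

theorem coe_augAlg (P : PosStructure K) : ((augAlg P : K →ₐ[ℤ] ℤ) : K →+* ℤ) = P.aug :=
  RingHom.ext fun _ => rfl

theorem lHom_aug {P : PosStructure K} (hK : HasSplitting K P) : LHom P.aug := by
  refine lHom_of_closure _ P.pos (closure_pos P) fun e he => ?_
  obtain ⟨L, f, hf, -, h⟩ := split_list hK [e] (by simpa using he)
  obtain ⟨s, hs, hse⟩ := h e (by simp)
  have haug : P.aug = L.posStr.aug.comp f := RingHom.ext fun x => (hf.aug_comp x).symm
  rw [haug]
  ext n
  rw [PowerSeries.coeff_map, RingHom.comp_apply, coeff_lamSeries,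
    (IsExtension.lHom hf).map_lam, RingHom.comp_apply, ← hse,
    lam_sum_lines s (fun v hv => line_lam (hs v hv)), map_esymm', aug_sum_lines s hs, coeff_lamSeries,
    Multiset.map_congr rfl (fun v hv => (hs v hv).2), Multiset.map_const']
  show _ = Ring.choose (Multiset.card s : ℤ) n
  rw [Ring.choose_natCast, Multiset.esymm,
    Multiset.map_congr rfl (g := fun _ => (1 : ℤ)) fun m hm => Multiset.prod_eq_one fun a ha =>
      Multiset.eq_of_mem_replicate (Multiset.subset_of_le (Multiset.mem_powersetCard.1 hm).1 ha)]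
  simp

theorem isAugLambdaAlg_int {P : PosStructure K} (hK : HasSplitting K P) : IsAugLambdaAlg ℤ K (augAlg P) :=
  ⟨isLambdaAlg_int P, fun n x => (lHom_aug hK).map_lam n x⟩

theorem aug_lam_pos {P : PosStructure K} (hK : HasSplitting K P) {e : K} (he : e ∈ P.pos) (i : ℕ) :
    P.aug (LambdaOps.lam i e) = ((P.aug e).toNat.choose i : ℤ) := by
  rw [(lHom_aug hK).map_lam]
  show Ring.choose (P.aug e) i = _
  conv_lhs => rw [← Int.toNat_of_nonneg (P.aug_pos e he).le, Ring.choose_natCast]

theorem gammaFiltration_eq (P : PosStructure K) (n : ℕ) :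
    (gammaFiltration P n : Set K) = (gammaFil P.aug n : Set K) := by
  rw [gammaFiltration]
  split
  · next h => subst h; rw [(filFam P.aug).zero]; rfl
  · rw [← coe_augAlg P]
    have h := congrArg (fun M : Submodule ℤ K => (M.toAddSubgroup : Set K)) (gammaFil_le_span (augAlg P) n)
    simp only [Submodule.span_int_eq_addSubgroupClosure] at h
    exact h.symm

theorem mem_gammaFiltration_iff (P : PosStructure K) (n : ℕ) (x : K) :
    x ∈ gammaFiltration P n ↔ x ∈ gammaFil P.aug n :=
  Set.ext_iff.1 (gammaFiltration_eq P n) x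

end Int

theorem dlog_rescale_neg {f : PowerSeries K} (hf : CC f) :
    dlog (PowerSeries.rescale (-1 : K) f) = -PowerSeries.rescale (-1 : K) (dlog f) := by
  have hc : CC (PowerSeries.rescale (-1 : K) f) := by
    show PowerSeries.constantCoeff _ = 1
    rw [← PowerSeries.coeff_zero_eq_constantCoeff_apply, PowerSeries.coeff_rescale, pow_zero, one_mul,
      hf.coeff_zero]
  apply dlog_eq_of_mul_eq hc
  rw [mul_neg, ← map_mul, mul_dlog hf]
  ext n
  simp only [map_neg, PowerSeries.coeff_rescale, PowerSeries.coeff_derivative, pow_succ]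
  ring

theorem adams_succ (P : PosStructure K) (j : ℕ) (x : K) : adams P (j + 1) x = adamsOp (j + 1) x := by
  rw [adams, adamsSeries, mul_assoc]
  show PowerSeries.coeff (j + 1) (_ - PowerSeries.X * dlog (PowerSeries.rescale (-1 : K) (lamSeries x))) = _
  rw [dlog_rescale_neg (cc_lamSeries x), map_sub, PowerSeries.coeff_succ_X_mul, PowerSeries.coeff_C,
    if_neg (Nat.succ_ne_zero j), zero_sub, map_neg, neg_neg, PowerSeries.coeff_rescale]
  rfl

theorem adams_eq (P : PosStructure K) {j : ℕ} (hj : 1 ≤ j) (x : K) : adams P j x = adamsOp j x := by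
  obtain ⟨k, rfl⟩ : ∃ k, j = k + 1 := ⟨j - 1, by omega⟩
  exact adams_succ P k x

theorem adams_zero (P : PosStructure K) (x : K) : adams P 0 x = (P.aug x : K) := by
  rw [adams, adamsSeries, mul_assoc, map_sub, PowerSeries.coeff_zero_X_mul, sub_zero, PowerSeries.coeff_zero_C]

/-- `ψ^j` as a ring map, `j ≥ 0` -/
def adamsRingHom {P : PosStructure K} (hK : HasSplitting K P) : ℕ → (K →+* K)
  | 0 => (Int.castRingHom K).comp P.aug
  | j + 1 => Special.adamsHom (isSpecial_of_splitting hK) (j + 1) (Nat.succ_pos j)

theorem adamsRingHom_apply {P : PosStructure K} (hK : HasSplitting K P) (j : ℕ) (x : K) :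
    adamsRingHom hK j x = adams P j x := by
  cases j with
  | zero => rw [adams_zero]; rfl
  | succ j => rw [adams_succ]; rfl

theorem adams_intCast {P : PosStructure K} (hK : HasSplitting K P) (j : ℕ) (n : ℤ) :
    adams P j (n : K) = n := by
  rw [← adamsRingHom_apply hK, map_intCast]

theorem aug_adams {P : PosStructure K} (hK : HasSplitting K P) (j : ℕ) (x : K) :
    P.aug (adams P j x) = P.aug x := by
  cases j with
  | zero => rw [adams_zero, map_intCast]; rfl
  | succ j =>
    letI := intOps
    rw [adams_succ, (lHom_aug hK).map_adamsOp, adamsOp_binomial isBinomial_int _ (Nat.succ_pos j)]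

theorem adams_comp {P : PosStructure K} (hK : HasSplitting K P) (i j : ℕ) (x : K) :
    adams P i (adams P j x) = adams P (i * j) x := by
  rcases Nat.eq_zero_or_pos i with rfl | hi
  · rw [Nat.zero_mul, adams_zero, adams_zero, aug_adams hK]
  rcases Nat.eq_zero_or_pos j with rfl | hj
  · rw [Nat.mul_zero, adams_zero, adams_intCast hK]
  rw [adams_eq P hi, adams_eq P hj, adams_eq P (Nat.mul_pos hi hj),
    Special.adamsOp_adamsOp (isSpecial_of_splitting hK) hi x, Nat.mul_comm]

/-! ### the Adams operations on the filtration -/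

theorem modelAdams_monomial {ι : Type u} (j : ℕ) (d : MVar ι →₀ ℕ) :
    modelAdams j (MvPolynomial.monomial d (1 : ℤ)) -
        (j : Mod ι) ^ (Finsupp.weight (degW ι) d) * MvPolynomial.monomial d 1 ∈
      ordIdeal ℤ (degW ι) (Finsupp.weight (degW ι) d + 1) := by
  classical
  have hV : ∀ i : MVar ι, modelAdams j (MvPolynomial.X i) - (j : Mod ι) * MvPolynomial.X i ∈
      ordIdeal ℤ (degW ι) 2 := by
    intro i
    rw [modelAdams, MvPolynomial.aeval_X]
    induction j with
    | zero => simp
    | succ n ih =>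
      have hX : (MvPolynomial.X i : Mod ι) ∈ ordIdeal ℤ (degW ι) 1 := X_mem_ordIdeal (degW ι) i
      have h1 : ((MvPolynomial.X i : Mod ι) + 1) ^ n - 1 ∈ ordIdeal ℤ (degW ι) 1 := by
        have := add_mem (ordIdeal_antitone (degW ι) (show 1 ≤ 2 by norm_num) ih) (Ideal.mul_mem_left _ (n : Mod ι) hX)
        rwa [sub_add_cancel] at this
      have h2 : (((MvPolynomial.X i : Mod ι) + 1) ^ n - 1) * MvPolynomial.X i ∈ ordIdeal ℤ (degW ι) 2 :=
        mul_mem_ordIdeal h1 hX
      have := add_mem ih h2
      convert this using 1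
      push_cast
      ring
  have hord : ∀ d : MVar ι →₀ ℕ, modelAdams j (MvPolynomial.monomial d (1 : ℤ)) ∈
      ordIdeal ℤ (degW ι) (Finsupp.weight (degW ι) d) := by
    intro d
    refine aeval_mem_ordIdeal (fun i => ?_) (monomial_mem_ordIdeal _ d _ le_rfl)
    have := add_mem (ordIdeal_antitone (degW ι) (show 1 ≤ 2 by norm_num) (hV i))
      (Ideal.mul_mem_left _ (j : Mod ι) (X_mem_ordIdeal (degW ι) i))
    rw [sub_add_cancel, modelAdams, MvPolynomial.aeval_X] at this
    exact this
  induction d using Finsupp.induction_linear with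
  | zero => simp
  | add a b ha hb =>
    rw [map_add, show MvPolynomial.monomial (a + b) (1 : ℤ) =
      MvPolynomial.monomial a 1 * MvPolynomial.monomial b 1 by rw [MvPolynomial.monomial_mul, mul_one], map_mul]
    have h1 := mul_mem_ordIdeal ha (hord b)
    have h2 := mul_mem_ordIdeal (monomial_mem_ordIdeal (degW ι) a (1 : ℤ) le_rfl) hb
    have := add_mem (ordIdeal_antitone (degW ι)
      (show Finsupp.weight (degW ι) a + Finsupp.weight (degW ι) b + 1 ≤
        Finsupp.weight (degW ι) a + 1 + Finsupp.weight (degW ι) b by omega) h1)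
      (Ideal.mul_mem_left _ ((j : Mod ι) ^ (Finsupp.weight (degW ι) a)) h2)
    convert this using 1
    rw [pow_add]; ring
  | single i n =>
    rw [show MvPolynomial.monomial (Finsupp.single i n) (1 : ℤ) = (MvPolynomial.X i : Mod ι) ^ n from
      MvPolynomial.X_pow_eq_monomial.symm, map_pow,
      show Finsupp.weight (degW ι) (Finsupp.single i n) = n by simp [Finsupp.weight_apply, degW]]
    induction n with
    | zero => simp
    | succ n ihn =>
      have hX : (MvPolynomial.X i : Mod ι) ∈ ordIdeal ℤ (degW ι) 1 := X_mem_ordIdeal (degW ι) i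
      have hψX : modelAdams j (MvPolynomial.X i) ∈ ordIdeal ℤ (degW ι) 1 := by
        have := add_mem (ordIdeal_antitone (degW ι) (show 1 ≤ 2 by norm_num) (hV i))
          (Ideal.mul_mem_left _ (j : Mod ι) hX)
        rwa [sub_add_cancel] at this
      have h1 := mul_mem_ordIdeal ihn hψX
      have h2 := mul_mem_ordIdeal (pow_mem_ordIdeal hX n) (hV i)
      rw [Nat.mul_one] at h2
      have := add_mem h1 (Ideal.mul_mem_left _ ((j : Mod ι) ^ n) h2)
      convert this using 1
      ring

theorem fr_adams_lead {σ : Type u} {j : ℕ} (hj : 1 ≤ j) {r : ℕ} {u : Fr σ}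
    (hu : u ∈ ordIdeal ℤ (genW σ) r) :
    adamsOp j u - (j : Fr σ) ^ r * u ∈ ordIdeal ℤ (genW σ) (r + 1) := by
  classical
  refine mem_ordIdeal_of_theta fun N => ?_
  have h := theta_mem_ordIdeal N hu
  rw [map_sub, map_mul, map_pow, map_natCast, theta_adamsOp, adamsOp_model j hj]
  generalize theta N u = p at h ⊢
  rw [p.as_sum, map_sum, Finset.mul_sum, ← Finset.sum_sub_distrib]
  refine Ideal.sum_mem _ fun d hd => ?_
  have hw : r ≤ Finsupp.weight (degW (MI N)) d := by
    by_contra hlt
    exact (MvPolynomial.mem_support_iff.1 hd) (h d (not_le.1 hlt))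
  rw [show MvPolynomial.monomial d (MvPolynomial.coeff d p) =
    MvPolynomial.C (MvPolynomial.coeff d p) * MvPolynomial.monomial d 1 by
      rw [MvPolynomial.C_mul_monomial, mul_one], map_mul, show modelAdams j (MvPolynomial.C (MvPolynomial.coeff d p)) =
      MvPolynomial.C (MvPolynomial.coeff d p) from MvPolynomial.aeval_C _ _, mul_left_comm, ← mul_sub]
  refine Ideal.mul_mem_left _ _ ?_
  rcases hw.lt_or_eq with hlt | rfl
  · refine sub_mem ?_ (Ideal.mul_mem_left _ _ (monomial_mem_ordIdeal _ d _ hlt))
    have := add_mem (ordIdeal_antitone (degW (MI N)) (show r + 1 ≤ Finsupp.weight (degW (MI N)) d + 1 by omega)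
      (modelAdams_monomial j d))
      (Ideal.mul_mem_left _ ((j : Mod (MI N)) ^ (Finsupp.weight (degW (MI N)) d))
        (monomial_mem_ordIdeal (degW (MI N)) d (1 : ℤ) hlt))
    rwa [sub_add_cancel] at this
  · exact modelAdams_monomial j d

theorem adams_sub_mem {P : PosStructure K} (hK : HasSplitting K P) {j : ℕ} (hj : 1 ≤ j) {n : ℕ} {x : K}
    (hx : x ∈ gammaFil P.aug n) : adamsOp j x - (j : K) ^ n * x ∈ gammaFil P.aug (n + 1) := by
  letI := intOps
  have hA := isSpecial_of_splitting hK
  rcases Nat.eq_zero_or_pos n with rfl | hn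
  · rw [pow_zero, one_mul]
    have h0 : P.aug (adamsOp j x - x) = 0 := by
      rw [map_sub, ← adams_eq P hj, aug_adams hK, sub_self]
    simpa [gamma_one_op] using gamma_mem_gammaFil P.aug h0 1
  have hx' : x ∈ Submodule.span ℤ (filGens (augAlg P) n) := by
    rw [← gammaFil_le_span]
    show x ∈ gammaFil ((augAlg P : K →ₐ[ℤ] ℤ) : K →+* ℤ) n
    rw [coe_augAlg]
    exact hx
  clear hx
  induction hx' using Submodule.span_induction with
  | mem y hy =>
    obtain ⟨l, hl, hs, rfl⟩ := hy
    obtain ⟨u, hu, he⟩ := exists_fr_of_list hA l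
    have h := evalAt_mem_gammaFil P.aug (fun i : Fin l.length => (l.get i).2)
      (fun g => hl _ (List.get_mem l g)) (fr_adams_lead hj (ordIdeal_antitone _ hs hu))
    rwa [map_sub, map_mul, map_pow, map_natCast, evalAt_adamsOp hA, he] at h
  | zero => simp [adamsOp_zero_arg]
  | add a b _ _ ha hb =>
    have := add_mem ha hb
    convert this using 1
    rw [adamsOp_add]; ring
  | smul c a _ ha =>
    have := Ideal.mul_mem_left _ (c : K) ha
    convert this using 1
    have hf : adamsOp j (c • a) = c • adamsOp j a := map_zsmul (adamsAdd j) c a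
    rw [hf, zsmul_eq_mul, zsmul_eq_mul]
    ring

end Groth.Agent.Lambda
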