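import Mathlib.RingTheory.PowerSeries.Basic
import Mathlib.RingTheory.PowerSeries.Inverse
import Mathlib.RingTheory.PowerSeries.Derivative
import Mathlib.RingTheory.MvPolynomial.Symmetric.Defs
import Mathlib.Tactic.Ring
import Mathlib.Tactic.LinearCombination

/-!
# Power series with constant coefficient one and their Newton power sums

`psi f k` is, for `f = ∏ (1 + a t)`, the power sum `∑ a ^ k` (`k ≥ 1`).
-/

noncomputable section

set_option linter.style.haveILetI false
set_option linter.unusedSectionVars false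
set_option linter.unusedSimpArgs false

open PowerSeries Finset

namespace Groth.Agent.Lambda

universe u v

variable {R : Type u} [CommRing R] {S : Type v} [CommRing S]

/-- constant coefficient one -/
abbrev CC (f : R⟦X⟧) : Prop := constantCoeff f = 1

theorem CC.coeff_zero {f : R⟦X⟧} (hf : CC f) : coeff 0 f = 1 := by
  rw [coeff_zero_eq_constantCoeff]; exact hf

theorem CC.mul {f g : R⟦X⟧} (hf : CC f) (hg : CC g) : CC (f * g) := by
  simp [CC, map_mul, show constantCoeff f = 1 from hf, show constantCoeff g = 1 from hg]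

theorem CC.one : CC (1 : R⟦X⟧) := map_one _

/-- the inverse of a series with constant coefficient one -/
def inv1 (f : R⟦X⟧) : R⟦X⟧ := invOfUnit f 1

theorem mul_inv1 {f : R⟦X⟧} (hf : CC f) : f * inv1 f = 1 :=
  mul_invOfUnit f 1 (by simpa using hf)

theorem cc_inv1 (f : R⟦X⟧) : CC (inv1 f) := by
  simp [CC, inv1]

theorem inv1_eq_of_mul_eq_one {f g : R⟦X⟧} (hf : CC f) (h : f * g = 1) : inv1 f = g := by
  calc inv1 f = inv1 f * (f * g) := by rw [h, mul_one]
    _ = (f * inv1 f) * g := by ring
    _ = g := by rw [mul_inv1 hf, one_mul]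

theorem CC.map {f : R⟦X⟧} (hf : CC f) (φ : R →+* S) : CC (PowerSeries.map φ f) := by
  show constantCoeff (PowerSeries.map φ f) = 1
  rw [← coeff_zero_eq_constantCoeff_apply, coeff_map, hf.coeff_zero, map_one]

theorem map_inv1 {f : R⟦X⟧} (hf : CC f) (φ : R →+* S) :
    PowerSeries.map φ (inv1 f) = inv1 (PowerSeries.map φ f) := by
  refine (inv1_eq_of_mul_eq_one (hf.map φ) ?_).symm
  rw [← map_mul, mul_inv1 hf, map_one]

/-- logarithmic derivative -/
def dlog (f : R⟦X⟧) : R⟦X⟧ := derivative R f * inv1 f

theorem mul_dlog {f : R⟦X⟧} (hf : CC f) : f * dlog f = derivative R f := by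
  rw [dlog, mul_left_comm, mul_inv1 hf, mul_one]

theorem dlog_eq_of_mul_eq {f g : R⟦X⟧} (hf : CC f) (h : f * g = derivative R f) : dlog f = g := by
  calc dlog f = (f * inv1 f) * g := by rw [dlog, ← h]; ring
    _ = g := by rw [mul_inv1 hf, one_mul]

theorem dlog_mul {f g : R⟦X⟧} (hf : CC f) (hg : CC g) : dlog (f * g) = dlog f + dlog g := by
  apply dlog_eq_of_mul_eq (hf.mul hg)
  rw [Derivation.leibniz, smul_eq_mul, smul_eq_mul, ← mul_dlog hf, ← mul_dlog hg]
  ring

theorem dlog_one : dlog (1 : R⟦X⟧) = 0 := by simp [dlog]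

theorem map_derivative (f : R⟦X⟧) (φ : R →+* S) :
    PowerSeries.map φ (derivative R f) = derivative S (PowerSeries.map φ f) := by
  ext n; simp [coeff_derivative, coeff_map]

theorem map_dlog {f : R⟦X⟧} (hf : CC f) (φ : R →+* S) :
    PowerSeries.map φ (dlog f) = dlog (PowerSeries.map φ f) := by
  rw [dlog, map_mul, map_inv1 hf, map_derivative, dlog]

/-- power sums attached to a series -/
def psi (f : R⟦X⟧) : ℕ → R
  | 0 => 0
  | k + 1 => (-1) ^ k * coeff k (dlog f)

theorem psi_zero (f : R⟦X⟧) : psi f 0 = 0 := rfl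

theorem psi_succ (f : R⟦X⟧) (k : ℕ) : psi f (k + 1) = (-1) ^ k * coeff k (dlog f) := rfl

theorem psi_mul {f g : R⟦X⟧} (hf : CC f) (hg : CC g) (k : ℕ) :
    psi (f * g) k = psi f k + psi g k := by
  cases k with
  | zero => simp [psi]
  | succ k => rw [psi_succ, psi_succ, psi_succ, dlog_mul hf hg, map_add, mul_add]

theorem psi_one_series (k : ℕ) : psi (1 : R⟦X⟧) k = 0 := by
  cases k <;> simp [psi, dlog_one]

theorem map_psi {f : R⟦X⟧} (hf : CC f) (φ : R →+* S) (k : ℕ) :
    φ (psi f k) = psi (PowerSeries.map φ f) k := by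
  cases k with
  | zero => simp [psi]
  | succ k => rw [psi_succ, psi_succ, ← map_dlog hf, coeff_map]; simp

theorem coeff_succ_mul_eq {f : R⟦X⟧} (hf : CC f) (m : ℕ) :
    coeff (m + 1) f * ((m : R) + 1) = ∑ i ∈ range (m + 1), coeff i f * coeff (m - i) (dlog f) := by
  rw [← coeff_derivative, ← mul_dlog hf, coeff_mul,
    Finset.Nat.sum_antidiagonal_eq_sum_range_succ (fun i j => coeff i f * coeff j (dlog f))]

theorem psi_one {f : R⟦X⟧} (hf : CC f) : psi f 1 = coeff 1 f := by
  have := coeff_succ_mul_eq hf 0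
  simp only [zero_add, Nat.cast_zero, mul_one, Finset.range_one, Finset.sum_singleton, Nat.sub_zero,
    hf.coeff_zero, one_mul] at this
  rw [this, psi_succ]
  simp

theorem coeff_dlog_congr {f g : R⟦X⟧} (hf : CC f) (hg : CC g) {n : ℕ}
    (h : ∀ i, i ≤ n → coeff i f = coeff i g) :
    ∀ m, m < n → coeff m (dlog f) = coeff m (dlog g) := by
  intro m
  induction m using Nat.strong_induction_on with
  | _ m ih =>
    intro hm
    have e1 := coeff_succ_mul_eq hf m
    have e2 := coeff_succ_mul_eq hg m
    rw [Finset.sum_range_succ'] at e1 e2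
    have hsum : ∑ k ∈ range m, coeff (k + 1) f * coeff (m - (k + 1)) (dlog f) =
        ∑ k ∈ range m, coeff (k + 1) g * coeff (m - (k + 1)) (dlog g) := by
      refine Finset.sum_congr rfl fun k hk => ?_
      have hk' := Finset.mem_range.mp hk
      rw [h (k + 1) (by omega), ih (m - (k + 1)) (by omega) (by omega)]
    rw [h (m + 1) hm, hsum, hf.coeff_zero] at e1
    rw [e1, hg.coeff_zero] at e2
    simpa using e2

theorem psi_congr {f g : R⟦X⟧} (hf : CC f) (hg : CC g) {n : ℕ}
    (h : ∀ i, i ≤ n → coeff i f = coeff i g) (k : ℕ) (hk : k ≤ n) : psi f k = psi g k := by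
  cases k with
  | zero => rfl
  | succ k => rw [psi_succ, psi_succ, coeff_dlog_congr hf hg h k hk]

/-- Absence of natural torsion. -/
def NatTorsionFree (R : Type u) [CommRing R] : Prop :=
  ∀ n : ℕ, n ≠ 0 → ∀ a : R, (n : R) * a = 0 → a = 0

theorem NatTorsionFree.cancel (hR : NatTorsionFree R) {n : ℕ} (hn : n ≠ 0) {a b : R}
    (h : (n : R) * a = (n : R) * b) : a = b := by
  rw [← sub_eq_zero]
  exact hR n hn _ (by rw [mul_sub, h, sub_self])

theorem coeff_congr_of_psi (hR : NatTorsionFree R) {f g : R⟦X⟧} (hf : CC f) (hg : CC g) {n : ℕ}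
    (h : ∀ k, 1 ≤ k → k ≤ n → psi f k = psi g k) :
    ∀ m, m ≤ n → coeff m f = coeff m g := by
  intro m
  induction m using Nat.strong_induction_on with
  | _ m ih =>
    intro hm
    cases m with
    | zero => rw [hf.coeff_zero, hg.coeff_zero]
    | succ m =>
      have e1 := coeff_succ_mul_eq hf m
      have e2 := coeff_succ_mul_eq hg m
      have hsum : ∑ i ∈ range (m + 1), coeff i f * coeff (m - i) (dlog f) =
          ∑ i ∈ range (m + 1), coeff i g * coeff (m - i) (dlog g) := by
        refine Finset.sum_congr rfl fun i hi => ?_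
        have hi' := Finset.mem_range.mp hi
        rw [ih i hi' (by omega)]
        have hh := h (m - i + 1) (by omega) (by omega)
        rw [psi_succ, psi_succ] at hh
        have := congrArg ((-1 : R) ^ (m - i) * ·) hh
        simp only [← mul_assoc, ← mul_pow, neg_one_mul, neg_neg, one_pow, one_mul] at this
        rw [this]
      rw [hsum, ← e2] at e1
      refine hR.cancel (n := m + 1) (by omega) ?_
      push_cast
      linear_combination e1

theorem eq_of_psi (hR : NatTorsionFree R) {f g : R⟦X⟧} (hf : CC f) (hg : CC g)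
    (h : ∀ k, 1 ≤ k → psi f k = psi g k) : f = g :=
  PowerSeries.ext fun m => coeff_congr_of_psi hR hf hg (fun k hk _ => h k hk) m le_rfl

/-- the series `1 + a t` -/
def lin (a : R) : R⟦X⟧ := 1 + C a * X

theorem cc_lin (a : R) : CC (lin a) := by simp [CC, lin]

theorem coeff_lin_succ (a : R) (n : ℕ) : coeff (n + 1) (lin a) = if n = 0 then a else 0 := by
  simp only [lin, map_add, coeff_one, Nat.succ_ne_zero, if_false, zero_add, coeff_succ_mul_X, coeff_C]

theorem map_lin (φ : R →+* S) (a : R) : PowerSeries.map φ (lin a) = lin (φ a) := by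
  simp [lin]

theorem inv1_lin (a : R) : inv1 (lin a) = PowerSeries.mk (fun k => (-a) ^ k) := by
  apply inv1_eq_of_mul_eq_one (cc_lin a)
  ext n
  cases n with
  | zero => simp [lin]
  | succ n =>
    rw [lin, add_mul, one_mul, mul_assoc, map_add, coeff_C_mul, coeff_succ_X_mul, coeff_mk,
      coeff_mk, coeff_one, if_neg (Nat.succ_ne_zero n)]
    ring

theorem dlog_lin (a : R) : dlog (lin a) = C a * PowerSeries.mk (fun k => (-a) ^ k) := by
  rw [dlog, inv1_lin]
  congr 1
  simp [lin]

theorem psi_lin (a : R) (k : ℕ) (hk : 1 ≤ k) : psi (lin a) k = a ^ k := by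
  obtain ⟨j, rfl⟩ : ∃ j, k = j + 1 := ⟨k - 1, by omega⟩
  rw [psi_succ, dlog_lin, coeff_C_mul, coeff_mk, ← mul_assoc, mul_comm _ a, mul_assoc, ← mul_pow,
    neg_one_mul, neg_neg, pow_succ']

/-- the series `∏ (1 + a t)` -/
def prodLin (s : Multiset R) : R⟦X⟧ := (s.map lin).prod

theorem prodLin_zero : prodLin (0 : Multiset R) = 1 := rfl

theorem prodLin_cons (a : R) (s : Multiset R) : prodLin (a ::ₘ s) = lin a * prodLin s := by
  simp [prodLin]

theorem prodLin_add (s t : Multiset R) : prodLin (s + t) = prodLin s * prodLin t := by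
  simp [prodLin]

theorem cc_prodLin (s : Multiset R) : CC (prodLin s) := by
  induction s using Multiset.induction with
  | empty => exact CC.one
  | cons a s ih => rw [prodLin_cons]; exact (cc_lin a).mul ih

theorem map_prodLin (φ : R →+* S) (s : Multiset R) :
    PowerSeries.map φ (prodLin s) = prodLin (s.map φ) := by
  induction s using Multiset.induction with
  | empty => simp [prodLin]
  | cons a s ih => rw [Multiset.map_cons, prodLin_cons, prodLin_cons, map_mul, map_lin, ih]

theorem esymm_cons_succ (a : R) (s : Multiset R) (n : ℕ) :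
    (a ::ₘ s).esymm (n + 1) = s.esymm (n + 1) + a * s.esymm n := by
  simp only [Multiset.esymm, Multiset.powersetCard_cons, Multiset.map_add, Multiset.sum_add,
    Multiset.map_map, Function.comp_def, Multiset.prod_cons, Multiset.sum_map_mul_left]

theorem esymm_zero_eq_one (s : Multiset R) : s.esymm 0 = 1 := by
  simp [Multiset.esymm]

theorem esymm_empty_succ (n : ℕ) : (0 : Multiset R).esymm (n + 1) = 0 := by
  simp [Multiset.esymm, Multiset.powersetCard_zero_right]

theorem coeff_prodLin (s : Multiset R) (n : ℕ) : coeff n (prodLin s) = s.esymm n := by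
  induction s using Multiset.induction generalizing n with
  | empty =>
    cases n with
    | zero => simp [prodLin, esymm_zero_eq_one]
    | succ n => simp [prodLin, esymm_empty_succ]
  | cons a s ih =>
    cases n with
    | zero => rw [(cc_prodLin _).coeff_zero, esymm_zero_eq_one]
    | succ n =>
      rw [prodLin_cons, esymm_cons_succ, ← ih, ← ih, lin, add_mul, one_mul, mul_assoc, map_add,
        coeff_C_mul, coeff_succ_X_mul]

theorem psi_prodLin (s : Multiset R) (k : ℕ) (hk : 1 ≤ k) :
    psi (prodLin s) k = (s.map (· ^ k)).sum := by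
  induction s using Multiset.induction with
  | empty => simp [prodLin, psi_one_series]
  | cons a s ih =>
    rw [prodLin_cons, psi_mul (cc_lin a) (cc_prodLin s), psi_lin a k hk, ih, Multiset.map_cons,
      Multiset.sum_cons]

theorem psi_prod {ι : Type*} (s : Finset ι) (f : ι → R⟦X⟧) (hf : ∀ i ∈ s, CC (f i)) (k : ℕ) :
    psi (∏ i ∈ s, f i) k = ∑ i ∈ s, psi (f i) k := by
  classical
  induction s using Finset.induction with
  | empty => simp [psi_one_series]
  | @insert a s ha ih =>
    have h2 : ∀ i ∈ s, CC (f i) := fun i hi => hf i (Finset.mem_insert_of_mem hi)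
    have h3 : CC (∏ i ∈ s, f i) := by
      show constantCoeff _ = 1
      rw [map_prod]; exact Finset.prod_eq_one h2
    rw [Finset.prod_insert ha, Finset.sum_insert ha,
      psi_mul (hf a (Finset.mem_insert_self a s)) h3, ih h2]

end Groth.Agent.Lambda
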