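import Groth.Prelude.Def_LambdaRing
import Groth.Prelude.Def_LambdaSp
import Groth.Agent.Lambda.Series
import Mathlib.RingTheory.Binomial
import Mathlib.RingTheory.PowerSeries.Binomial

/-!
# Pre-λ-rings: generating series, constructor from series, Adams operations
-/

noncomputable section

set_option linter.style.haveILetI false
set_option linter.unusedSectionVars false
set_option linter.unusedSimpArgs false

open PowerSeries Finset LambdaRing

namespace Groth.Agent.Lambda

universe u v

variable {K : Type u} [CommRing K] [LambdaOps K]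

theorem coeff_lamSeries (x : K) (n : ℕ) : coeff n (lamSeries x) = LambdaOps.lam n x :=
  coeff_mk n _

theorem cc_lamSeries (x : K) : CC (lamSeries x) := by
  show constantCoeff (lamSeries x) = 1
  rw [← coeff_zero_eq_constantCoeff_apply, coeff_lamSeries, LambdaOps.lam_zero]

theorem lamSeries_add (x y : K) : lamSeries (x + y) = lamSeries x * lamSeries y := by
  ext n
  rw [coeff_lamSeries, LambdaOps.lam_add, coeff_mul,
    Finset.Nat.sum_antidiagonal_eq_sum_range_succ
      (fun i j => coeff i (lamSeries x) * coeff j (lamSeries y))]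
  simp [coeff_lamSeries]

theorem lamSeries_zero : lamSeries (0 : K) = 1 := by
  have h := lamSeries_add (0 : K) 0
  rw [add_zero] at h
  calc lamSeries (0 : K) = lamSeries (0 : K) * (lamSeries (0 : K) * inv1 (lamSeries (0 : K))) := by
        rw [mul_inv1 (cc_lamSeries 0), mul_one]
    _ = lamSeries (0 : K) * inv1 (lamSeries (0 : K)) := by rw [← mul_assoc, ← h]
    _ = 1 := mul_inv1 (cc_lamSeries 0)

theorem lam_of_zero (n : ℕ) (hn : n ≠ 0) : LambdaOps.lam n (0 : K) = 0 := by
  rw [← coeff_lamSeries, lamSeries_zero, coeff_one, if_neg hn]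

theorem lamSeries_neg (x : K) : lamSeries (-x) = inv1 (lamSeries x) := by
  refine (inv1_eq_of_mul_eq_one (cc_lamSeries x) ?_).symm
  rw [← lamSeries_add, add_neg_cancel, lamSeries_zero]

theorem lamSeries_sum {ι : Type*} (s : Finset ι) (f : ι → K) :
    lamSeries (∑ i ∈ s, f i) = ∏ i ∈ s, lamSeries (f i) := by
  classical
  induction s using Finset.induction with
  | empty => simp [lamSeries_zero]
  | @insert a s ha ih => rw [Finset.sum_insert ha, Finset.prod_insert ha, lamSeries_add, ih]

theorem lamSeries_multiset_sum (s : Multiset K) :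
    lamSeries s.sum = (s.map lamSeries).prod := by
  induction s using Multiset.induction with
  | empty => simp [lamSeries_zero]
  | cons a s ih => simp [lamSeries_add, ih]

theorem lamSeries_eq_lin {u : K} (h : ∀ i, 2 ≤ i → LambdaOps.lam i u = 0) : lamSeries u = lin u := by
  ext n
  cases n with
  | zero => rw [(cc_lamSeries u).coeff_zero, (cc_lin u).coeff_zero]
  | succ n =>
    rw [coeff_lamSeries, coeff_lin_succ]
    cases n with
    | zero => simp [LambdaOps.lam_one]
    | succ n => simp [h (n + 1 + 1) (by omega)]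

theorem lamSeries_sum_lines (s : Multiset K) (h : ∀ u ∈ s, ∀ i, 2 ≤ i → LambdaOps.lam i u = 0) :
    lamSeries s.sum = prodLin s := by
  rw [lamSeries_multiset_sum, prodLin]
  congr 1
  exact Multiset.map_congr rfl fun u hu => lamSeries_eq_lin (h u hu)

theorem lam_sum_lines (s : Multiset K) (h : ∀ u ∈ s, ∀ i, 2 ≤ i → LambdaOps.lam i u = 0) (n : ℕ) :
    LambdaOps.lam n s.sum = s.esymm n := by
  rw [← coeff_lamSeries, lamSeries_sum_lines s h, coeff_prodLin]

theorem lamSeries_natCast (h1 : ∀ i, 2 ≤ i → LambdaOps.lam i (1 : K) = 0) (n : ℕ) :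
    lamSeries (n : K) = (1 + X) ^ n := by
  induction n with
  | zero => simp [lamSeries_zero]
  | succ n ih =>
    rw [Nat.cast_succ, lamSeries_add, ih, lamSeries_eq_lin h1, pow_succ]
    simp [lin]

theorem adamsOp_eq_psi (k : ℕ) (x : K) : adamsOp k x = psi (lamSeries x) k := by
  cases k <;> rfl

theorem adamsOp_add (k : ℕ) (x y : K) : adamsOp k (x + y) = adamsOp k x + adamsOp k y := by
  rw [adamsOp_eq_psi, lamSeries_add, psi_mul (cc_lamSeries x) (cc_lamSeries y)]
  simp [adamsOp_eq_psi]

theorem adamsOp_zero_arg (k : ℕ) : adamsOp k (0 : K) = 0 := by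
  rw [adamsOp_eq_psi, lamSeries_zero, psi_one_series]

theorem adamsOp_neg (k : ℕ) (x : K) : adamsOp k (-x) = -adamsOp k x := by
  have h := adamsOp_add k x (-x)
  rw [add_neg_cancel, adamsOp_zero_arg] at h
  exact eq_neg_of_add_eq_zero_right h.symm

theorem adamsOp_line {u : K} (h : ∀ i, 2 ≤ i → LambdaOps.lam i u = 0) (k : ℕ) (hk : 1 ≤ k) :
    adamsOp k u = u ^ k := by
  rw [adamsOp_eq_psi, lamSeries_eq_lin h, psi_lin u k hk]

theorem adamsOp_one_left (x : K) : adamsOp 1 x = x := by
  rw [adamsOp_eq_psi, psi_one (cc_lamSeries x), coeff_lamSeries, LambdaOps.lam_one]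

/-- `ψ^k` as an additive map -/
def adamsAdd (k : ℕ) : K →+ K where
  toFun := adamsOp k
  map_zero' := adamsOp_zero_arg k
  map_add' := adamsOp_add k

section Hom

variable {L : Type v} [CommRing L] [LambdaOps L]

/-- a ring map commuting with the λ-operations -/
def LHom (f : K →+* L) : Prop := ∀ x, PowerSeries.map f (lamSeries x) = lamSeries (f x)

theorem lHom_iff (f : K →+* L) :
    LHom f ↔ ∀ (n : ℕ) (x : K), f (LambdaOps.lam n x) = LambdaOps.lam n (f x) := by
  constructor
  · intro h n x
    have := congrArg (coeff n) (h x)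
    simpa [coeff_lamSeries, coeff_map] using this
  · intro h x
    ext n
    simp [coeff_lamSeries, coeff_map, h]

theorem LHom.map_lam {f : K →+* L} (h : LHom f) (n : ℕ) (x : K) :
    f (LambdaOps.lam n x) = LambdaOps.lam n (f x) := (lHom_iff f).1 h n x

theorem LHom.comp {M : Type*} [CommRing M] [LambdaOps M] {f : K →+* L} {g : L →+* M}
    (hg : LHom g) (hf : LHom f) : LHom (g.comp f) := by
  rw [lHom_iff]; intro n x; simp [hf.map_lam, hg.map_lam]

theorem LHom.map_adamsOp {f : K →+* L} (h : LHom f) (k : ℕ) (x : K) :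
    f (adamsOp k x) = adamsOp k (f x) := by
  rw [adamsOp_eq_psi, adamsOp_eq_psi, map_psi (cc_lamSeries x), h x]

theorem LHom.map_gamma {f : K →+* L} (h : LHom f) (k : ℕ) (x : K) :
    f (gamma k x) = gamma k (f x) := by
  unfold gamma
  split
  · simp
  · rw [map_sum]
    refine Finset.sum_congr rfl fun j _ => ?_
    split
    · simp
    · simp [h.map_lam]

/-- a ring map is a λ-map as soon as the series agree on additive generators -/
theorem lHom_of_closure (f : K →+* L) (S : Set K) (hS : AddSubgroup.closure S = ⊤)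
    (h : ∀ x ∈ S, PowerSeries.map f (lamSeries x) = lamSeries (f x)) : LHom f := by
  intro x
  have hx : x ∈ AddSubgroup.closure S := by rw [hS]; trivial
  refine AddSubgroup.closure_induction (fun a ha => h a ha) ?_ ?_ ?_ hx
  · simp [lamSeries_zero]
  · intro a b _ _ ha hb
    rw [lamSeries_add, map_mul, ha, hb, map_add, lamSeries_add]
  · intro a _ ha
    rw [lamSeries_neg, map_inv1 (cc_lamSeries a), ha, map_neg, lamSeries_neg]

end Hom

section Constructor

variable {R : Type u} [CommRing R]

/-- λ-operations from a multiplicative generating series -/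
@[reducible] def ofSeries (σ : R → R⟦X⟧) (h0 : ∀ x, CC (σ x)) (h1 : ∀ x, coeff 1 (σ x) = x)
    (hadd : ∀ x y, σ (x + y) = σ x * σ y) : LambdaOps R where
  lam n x := coeff n (σ x)
  lam_zero x := (h0 x).coeff_zero
  lam_one := h1
  lam_add k x y := by
    rw [hadd, coeff_mul,
      Finset.Nat.sum_antidiagonal_eq_sum_range_succ (fun i j => coeff i (σ x) * coeff j (σ y))]

theorem lamSeries_ofSeries (σ : R → R⟦X⟧) (h0 : ∀ x, CC (σ x)) (h1 : ∀ x, coeff 1 (σ x) = x)
    (hadd : ∀ x y, σ (x + y) = σ x * σ y) (x : R) :
    @lamSeries R _ (ofSeries σ h0 h1 hadd) x = σ x := by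
  ext n
  exact coeff_mk n _

/-- λ-operations are determined by the generating series -/
theorem lambdaOps_ext {L₁ L₂ : LambdaOps R}
    (h : ∀ x, @lamSeries R _ L₁ x = @lamSeries R _ L₂ x) : L₁ = L₂ := by
  have hl : L₁.lam = L₂.lam := by
    funext n x
    have := congrArg (coeff n) (h x)
    simpa [lamSeries] using this
  cases L₁; cases L₂
  simp only at hl
  subst hl; rfl

end Constructor

section Binomial

variable [BinomialRing K]

theorem natTorsionFree_binomial : NatTorsionFree K := by
  intro n hn a ha
  haveI := BinomialRing.toIsAddTorsionFree (R := K)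
  apply nsmul_right_injective hn
  simpa [nsmul_eq_mul] using ha

theorem lamSeries_binomial (hb : IsBinomial K) (x : K) : lamSeries x = binomialSeries K x := by
  ext n
  rw [coeff_lamSeries, hb, binomialSeries_coeff, smul_eq_mul, mul_one]

theorem adamsOp_binomial (hb : IsBinomial K) (k : ℕ) (hk : 1 ≤ k) (x : K) : adamsOp k x = x := by
  obtain ⟨j, rfl⟩ : ∃ j, k = j + 1 := ⟨k - 1, by omega⟩
  have hd : dlog (lamSeries x) = C x * PowerSeries.mk (fun k => (-1 : K) ^ k) := by
    apply dlog_eq_of_mul_eq (cc_lamSeries x)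
    have hinv : (1 + X) * PowerSeries.mk (fun k => (-1 : K) ^ k) = 1 := by
      rw [← inv1_lin (1 : K)]
      have := mul_inv1 (cc_lin (1 : K))
      simpa [lin] using this
    have key : derivative K (lamSeries x) * (1 + X) = C x * lamSeries x := by
      ext n
      rw [mul_add, mul_one, map_add, coeff_C_mul, coeff_derivative, coeff_lamSeries, hb,
        coeff_lamSeries, hb]
      cases n with
      | zero => simp [Ring.choose_one_right, Ring.choose_zero_right]
      | succ n =>
        rw [coeff_succ_mul_X, coeff_derivative, coeff_lamSeries, hb]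
        haveI := BinomialRing.toIsAddTorsionFree (R := K)
        apply nsmul_right_injective (Nat.factorial_ne_zero (n + 1))
        have e1 := Ring.descPochhammer_eq_factorial_smul_choose x (n + 1)
        have e2 := Ring.descPochhammer_eq_factorial_smul_choose x (n + 1 + 1)
        rw [descPochhammer_succ_right, Polynomial.smeval_mul, Polynomial.smeval_sub,
          Polynomial.smeval_X, pow_one, Polynomial.smeval_natCast, e1] at e2
        simp only [nsmul_eq_mul, Nat.factorial_succ (n + 1), Nat.cast_mul, pow_zero] at e2 ⊢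
        push_cast at e2 ⊢
        linear_combination -e2
    calc lamSeries x * (C x * PowerSeries.mk (fun k => (-1 : K) ^ k))
        = (C x * lamSeries x) * PowerSeries.mk (fun k => (-1 : K) ^ k) := by ring
      _ = derivative K (lamSeries x) * ((1 + X) * PowerSeries.mk (fun k => (-1 : K) ^ k)) := by
          rw [← key]; ring
      _ = derivative K (lamSeries x) := by rw [hinv, mul_one]
  rw [adamsOp_eq_psi, psi_succ, hd, coeff_C_mul, coeff_mk, ← mul_assoc, mul_comm _ x, mul_assoc,
    ← mul_pow, neg_one_mul, neg_neg, one_pow, mul_one]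

end Binomial

end Groth.Agent.Lambda
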