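import Groth.Agent.Lambda.Free

/-!
# Integer valued identities and scalar multiples from a binomial ring
-/

noncomputable section

set_option linter.style.haveILetI false
set_option linter.unusedSectionVars false
set_option linter.unusedSimpArgs false

open Finset LambdaRing MvPolynomial

namespace Groth.Agent.Lambda

universe u v

theorem exists_polynomial_choose {n : ℕ} (p : MvPolynomial (Fin n) ℤ) :
    ∃ (N : ℕ) (q : Polynomial ℤ), N ≠ 0 ∧
      (∀ m : ℕ, (N : ℤ) * aeval (fun j : Fin n => ((m.choose ((j : ℕ) + 1) : ℕ) : ℤ)) p = q.eval (m : ℤ)) ∧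
      ∀ (K : Type u) [CommRing K] [BinomialRing K] (c : K),
        (N : K) * aeval (fun j : Fin n => Ring.choose c ((j : ℕ) + 1)) p = Polynomial.aeval c q := by
  induction p using MvPolynomial.induction_on with
  | C a => exact ⟨1, Polynomial.C a, one_ne_zero, by simp, fun K _ _ c => by simp⟩
  | add p r hp hr =>
    obtain ⟨N, q, hN, h1, h2⟩ := hp
    obtain ⟨M, s, hM, g1, g2⟩ := hr
    refine ⟨N * M, Polynomial.C (M : ℤ) * q + Polynomial.C (N : ℤ) * s, Nat.mul_ne_zero hN hM,
      fun m => ?_, fun K _ _ c => ?_⟩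
    · simp only [map_add, Polynomial.eval_add, Polynomial.eval_mul, Polynomial.eval_C, ← h1 m, ← g1 m]
      push_cast; ring
    · simp only [map_add, map_mul, Polynomial.aeval_C, ← h2 K c, ← g2 K c, algebraMap_int_eq, eq_intCast,
        Int.cast_natCast, map_natCast]
      push_cast; ring
  | mul_X p j hp =>
    obtain ⟨N, q, hN, h1, h2⟩ := hp
    refine ⟨N * ((j : ℕ) + 1).factorial, q * descPochhammer ℤ ((j : ℕ) + 1),
      Nat.mul_ne_zero hN (Nat.factorial_ne_zero _), fun m => ?_, fun K _ _ c => ?_⟩
    · rw [map_mul, aeval_X, Polynomial.eval_mul, ← h1 m, descPochhammer_eval_eq_descFactorial,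
        Nat.descFactorial_eq_factorial_mul_choose]
      push_cast; ring
    · rw [map_mul, aeval_X, map_mul, ← h2 K c, Nat.cast_mul,
        Polynomial.aeval_eq_smeval, Ring.descPochhammer_eq_factorial_smul_choose, nsmul_eq_mul]
      ring

/-- An integral identity between binomial functions holding at natural numbers holds in any binomial ring. -/
theorem natPoly_ext {K : Type u} [CommRing K] [BinomialRing K] {n : ℕ} (p : MvPolynomial (Fin n) ℤ)
    (h : ∀ m : ℕ, aeval (fun j : Fin n => ((m.choose ((j : ℕ) + 1) : ℕ) : ℤ)) p = 0) (c : K) :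
    aeval (fun j : Fin n => Ring.choose c ((j : ℕ) + 1)) p = 0 := by
  obtain ⟨N, q, hN, h1, h2⟩ := exists_polynomial_choose.{u} p
  have hq : q = 0 := by
    apply Polynomial.eq_zero_of_infinite_isRoot
    refine Set.Infinite.mono ?_ (Set.infinite_range_of_injective (Nat.cast_injective (R := ℤ)))
    rintro _ ⟨m, rfl⟩
    show q.eval (m : ℤ) = 0
    rw [← h1 m, h m, mul_zero]
  have h3 := h2 K c
  rw [hq, map_zero] at h3
  exact natTorsionFree_binomial' N hN _ h3
where
  natTorsionFree_binomial' (N : ℕ) (hN : N ≠ 0) (a : K) (ha : (N : K) * a = 0) : a = 0 := by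
    haveI := BinomialRing.toIsAddTorsionFree (R := K)
    apply nsmul_right_injective hN
    simpa [nsmul_eq_mul] using ha

theorem pow_eq_sum_sub_one {R : Type u} [CommRing R] (f : PowerSeries R) (hf : CC f) (m n : ℕ) :
    PowerSeries.coeff n (f ^ m) =
      ∑ k ∈ range (n + 1), (m.choose k : R) * PowerSeries.coeff n ((f - 1) ^ k) := by
  have hv : ∀ k, n < k → PowerSeries.coeff n ((f - 1) ^ k) = 0 := by
    intro k hk
    obtain ⟨g, hg⟩ : PowerSeries.X ∣ f - 1 := by
      rw [PowerSeries.X_dvd_iff]
      simp [show PowerSeries.constantCoeff f = 1 from hf]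
    rw [hg, mul_pow, PowerSeries.coeff_X_pow_mul', if_neg (by omega)]
  conv_lhs => rw [show f = (f - 1) + 1 by ring, add_pow]
  simp only [one_pow, mul_one, map_sum]
  have e : ∀ k, PowerSeries.coeff n ((f - 1) ^ k * (m.choose k : PowerSeries R)) =
      (m.choose k : R) * PowerSeries.coeff n ((f - 1) ^ k) := by
    intro k
    rw [show ((m.choose k : PowerSeries R)) = PowerSeries.C (m.choose k : R) by simp, PowerSeries.coeff_mul_C]
    ring
  simp only [e]
  rcases Nat.le_total (m + 1) (n + 1) with h | h
  · refine Finset.sum_subset (Finset.range_subset_range.2 h) fun k _ hk => ?_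
    rw [Nat.choose_eq_zero_of_lt (by rw [Finset.mem_range] at hk; omega), Nat.cast_zero, zero_mul]
  · refine (Finset.sum_subset (Finset.range_subset_range.2 h) fun k _ hk => ?_).symm
    rw [hv k (by rw [Finset.mem_range] at hk; omega), mul_zero]

theorem hom_aeval' {R : Type*} [CommRing R] [Algebra ℤ R] {S : Type*} [CommRing S] [Algebra ℤ S]
    {σ : Type*} (φ : R →+* S) (g : σ → R) (p : MvPolynomial σ ℤ) :
    φ (aeval g p) = aeval (fun i => φ (g i)) p := by
  induction p using MvPolynomial.induction_on with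
  | C a => simp
  | add p q hp hq => simp [hp, hq]
  | mul_X p i hp => simp [hp]

theorem aeval_congr' {S : Type*} [CommRing S] {a₁ a₂ : Algebra ℤ S} {σ : Type*} (g g' : σ → S)
    (h : ∀ y, g y = g' y) (p : MvPolynomial σ ℤ) :
    @aeval ℤ S σ _ _ a₁ g p = @aeval ℤ S σ _ _ a₂ g' p := by
  obtain rfl : g = g' := _root_.funext h
  obtain rfl : a₁ = a₂ := Subsingleton.elim _ _
  rfl

/-- `λ^n` of a scalar multiple -/
theorem lam_scalar_mul {K : Type u} [CommRing K] [LambdaOps K] [BinomialRing K] (hKb : IsBinomial K)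
    {A : Type v} [CommRing A] [LambdaOps A] [Algebra K A] (hA : IsSpecial A) (hKA : IsLambdaAlg K A)
    (c : K) (w : A) (n : ℕ) :
    LambdaOps.lam n (algebraMap K A c * w) =
      ∑ k ∈ range (n + 1), algebraMap K A (Ring.choose c k) * PowerSeries.coeff n ((lamSeries w - 1) ^ k) := by
  let R := MvPolynomial (Fin n) ℤ
  let W := MvPolynomial (Gen PUnit.{1}) R
  let ιY : Fr PUnit.{1} →+* W := MvPolynomial.map MvPolynomial.C
  let Y : Fr PUnit.{1} := gen PUnit.unit
  let cX : ℕ → W := fun k =>
    if h : 1 ≤ k ∧ k ≤ n then C (X ⟨k - 1, by omega⟩) else if k = 0 then 1 else 0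
  let a : ℕ → Fr PUnit.{1} := fun k => PowerSeries.coeff n ((lamSeries Y - 1) ^ k)
  let p : W := aeval (Sum.elim (fun j : Fin n => C (X j)) (fun j : Fin n => ιY (LambdaOps.lam ((j : ℕ) + 1) Y)))
      (mulPoly n) - ∑ k ∈ range (n + 1), cX k * ιY (a k)
  -- specialisation
  have spec : ∀ (B : Type v) [CommRing B] (ρ : R →+* B) (τ : Gen PUnit.{1} → B) (cc : ℕ → B)
      (hcc : ∀ j : Fin n, ρ (X j) = cc ((j : ℕ) + 1)) (hc0 : cc 0 = 1) (χ : Fr PUnit.{1} →+* B)
      (hχ : ∀ i, χ (X i) = τ i),
      eval₂Hom ρ τ p = aeval (Sum.elim (fun j : Fin n => cc ((j : ℕ) + 1))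
        (fun j : Fin n => χ (LambdaOps.lam ((j : ℕ) + 1) Y))) (mulPoly n) -
        ∑ k ∈ range (n + 1), cc k * χ (a k) := by
    intro B _ ρ τ cc hcc hc0 χ hχ
    have hι : ∀ q, eval₂Hom ρ τ (ιY q) = χ q := by
      intro q
      show ((eval₂Hom ρ τ).comp ιY) q = χ q
      congr 1
      refine MvPolynomial.ringHom_ext' (RingHom.ext_int _ _) fun i => ?_
      simp [ιY, hχ]
    rw [map_sub, map_sum, hom_aeval']
    congr 1
    · congr 2
      funext y
      rcases y with j | j
      · simp [hcc]
      · exact hι _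
    · refine Finset.sum_congr rfl fun k hk => ?_
      rw [map_mul, hι]
      congr 1
      show eval₂Hom ρ τ (cX k) = cc k
      rcases Nat.eq_zero_or_pos k with rfl | hk0
      · simp [cX, hc0]
      · have hk' : k ≤ n := by have := Finset.mem_range.1 hk; omega
        simp only [cX]
        rw [dif_pos (show 1 ≤ k ∧ k ≤ n from ⟨hk0, hk'⟩), eval₂Hom_C, hcc]
        congr 1
        show k - 1 + 1 = k
        omega
  have hcoef : ∀ d, coeff d p ∈ {q : R | ∀ m : ℕ,
      aeval (fun j : Fin n => ((m.choose ((j : ℕ) + 1) : ℕ) : ℤ)) q = 0} := by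
    intro d m
    let ρ : R →+* ℤ := (aeval (R := ℤ) fun j : Fin n => ((m.choose ((j : ℕ) + 1) : ℕ) : ℤ)).toRingHom
    have hp0 : MvPolynomial.map ρ p = 0 := by
      have h1 : (m : Fr PUnit.{1}) * Y = ∑ _i : Fin m, Y := by simp
      have hnat : ∀ k, LambdaOps.lam k (m : Fr PUnit.{1}) = (m.choose k : Fr PUnit.{1}) := by
        intro k
        rw [← coeff_lamSeries, lamSeries_natCast isSpecial_fr.lam_one_eq_zero,
          show (1 + PowerSeries.X : PowerSeries (Fr PUnit.{1})) ^ m =
            ((1 + Polynomial.X : Polynomial (Fr PUnit.{1})) ^ m : Polynomial (Fr PUnit.{1})) by simp,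
          Polynomial.coeff_coe, Polynomial.coeff_one_add_X_pow]
      have hser : lamSeries ((m : Fr PUnit.{1}) * Y) = lamSeries Y ^ m := by
        rw [h1, lamSeries_sum, Finset.prod_const, Finset.card_univ, Fintype.card_fin]
      have hl := isSpecial_fr.lam_mul n _ (isMulPoly_mulPoly n) (m : Fr PUnit.{1}) Y
      rw [← coeff_lamSeries, hser, pow_eq_sum_sub_one _ (cc_lamSeries Y)] at hl
      simp only [hnat] at hl
      have hι : ∀ q, MvPolynomial.map ρ (ιY q) = q := by
        intro q
        show MvPolynomial.map ρ (MvPolynomial.map MvPolynomial.C q) = q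
        rw [MvPolynomial.map_map]
        have : ρ.comp MvPolynomial.C = RingHom.id ℤ := RingHom.ext_int _ _
        rw [this, MvPolynomial.map_id]
      simp only [p, map_sub, map_sum, map_mul, hom_aeval', hι]
      rw [sub_eq_zero]
      refine Eq.trans ?_ (hl.symm.trans (Finset.sum_congr rfl fun k hk => ?_))
      · refine aeval_congr' _ _ (fun y => ?_) (mulPoly n)
        rcases y with j | j
        · simp [ρ]
          erw [eval_X]
          simp
        · simp [hι]
      · congr 1
        show _ = MvPolynomial.map ρ (cX k)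
        rcases Nat.eq_zero_or_pos k with rfl | hk0
        · simp [cX]
        · have hk' : k ≤ n := by have := Finset.mem_range.1 hk; omega
          simp only [cX, dif_pos (And.intro hk0 hk'), MvPolynomial.map_C]
          simp [ρ, show k - 1 + 1 = k by omega]
          rw [dif_pos (show 1 ≤ k ∧ k ≤ n from ⟨hk0, hk'⟩)]
          simp
          erw [eval_X]
          simp [show k - 1 + 1 = k by omega]
    have := congrArg (coeff d) hp0
    rw [coeff_map, coeff_zero] at this
    exact this
  have hmain : eval₂Hom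
      ((algebraMap K A).comp (aeval (R := ℤ) fun j : Fin n => Ring.choose c ((j : ℕ) + 1)).toRingHom)
      (fun i : Gen PUnit.{1} => gamma (i.lev + 1) w) p = 0 := by
    rw [p.as_sum, map_sum]
    refine Finset.sum_eq_zero fun d _ => ?_
    rw [eval₂Hom_monomial, RingHom.comp_apply]
    simp [natPoly_ext _ (hcoef d) c]
  rw [spec A _ _ (fun k => algebraMap K A (Ring.choose c k)) (fun j => congrArg (algebraMap K A) (aeval_X _ _)) (by simp)
    (evalAt (σ := PUnit.{1}) fun _ => w).toRingHom (fun i => by simp [evalAt]), sub_eq_zero] at hmain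
  have hY : PowerSeries.map (evalAt (σ := PUnit.{1}) fun _ => w).toRingHom (lamSeries Y) = lamSeries w := by
    rw [lHom_evalAt hA _ Y]
    exact congrArg lamSeries (evalAt_gen _ _)
  rw [hA.lam_mul n _ (isMulPoly_mulPoly n)]
  refine Eq.trans ?_ (hmain.trans (Finset.sum_congr rfl fun k _ => ?_))
  · congr 2
    funext y
    rcases y with j | j
    · show LambdaOps.lam _ (algebraMap K A c) = algebraMap K A (Ring.choose c _)
      rw [← hKA, hKb]
    · show LambdaOps.lam _ w = _
      rw [← coeff_lamSeries, ← hY, PowerSeries.coeff_map, coeff_lamSeries]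
      rfl
  · congr 1
    show (evalAt (σ := PUnit.{1}) fun _ => w).toRingHom (a k) = _
    simp only [a, ← PowerSeries.coeff_map, map_pow, map_sub, map_one, hY]

theorem gsub_add {R : Type u} [CommRing R] (f g : PowerSeries R) : gsub (f + g) = gsub f + gsub g :=
  PowerSeries.subst_add hasSubst_geom f g

theorem gsub_pow {R : Type u} [CommRing R] (f : PowerSeries R) (k : ℕ) : gsub (f ^ k) = gsub f ^ k :=
  PowerSeries.subst_pow hasSubst_geom f k

/-- `γ^n` of a scalar multiple -/
theorem gamma_scalar_mul {K : Type u} [CommRing K] [LambdaOps K] [BinomialRing K] (hKb : IsBinomial K)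
    {A : Type v} [CommRing A] [LambdaOps A] [Algebra K A] (hA : IsSpecial A) (hKA : IsLambdaAlg K A)
    (c : K) (w : A) (n : ℕ) :
    gamma n (algebraMap K A c * w) =
      ∑ k ∈ range (n + 1), algebraMap K A (Ring.choose c k) * PowerSeries.coeff n ((gammaSeries w - 1) ^ k) := by
  cases n with
  | zero => simp [gamma_zero_op]
  | succ n =>
    have hs : gammaSeries w - 1 = gsub (lamSeries w - 1) := by
      have e : gsub (lamSeries w) = gsub (lamSeries w - 1) + 1 := by
        conv_lhs => rw [← sub_add_cancel (lamSeries w) 1]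
        rw [gsub_add, gsub_one]
      rw [gammaSeries_eq, e, add_sub_cancel_right]
    simp only [hs, ← gsub_pow, coeff_gsub, gamma_succ, lam_scalar_mul hKb hA hKA, Finset.mul_sum]
    rw [Finset.sum_comm (s := range (n + 1 + 1))]
    refine Finset.sum_congr rfl fun j hj => ?_
    have hj' := Finset.mem_range.1 hj
    refine (Finset.sum_subset (Finset.range_subset_range.2 (by omega)) fun k _ hk => ?_).trans
      (Finset.sum_congr rfl fun k _ => by ring)
    obtain ⟨g, hg⟩ : PowerSeries.X ∣ lamSeries w - 1 := by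
      rw [PowerSeries.X_dvd_iff, map_sub, map_one, show PowerSeries.constantCoeff (lamSeries w) = 1 from
        cc_lamSeries w, sub_self]
    rw [hg, mul_pow, PowerSeries.coeff_X_pow_mul', if_neg (by rw [Finset.mem_range] at hk; omega)]
    ring

end Groth.Agent.Lambda
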