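import Groth.Agent.Lambda.Gr
import Groth.Agent.Lambda.PserIdent

/-!
# The Chern character
-/

noncomputable section

open Finset LambdaRing LaurentPolynomial
open scoped TensorProduct

namespace Groth.Agent.Lambda

universe u

/-- Adams operations commute with the γ-operations in a special λ-ring -/
theorem adamsOp_gamma {A : Type u} [CommRing A] [LambdaOps A] (hA : IsSpecial A) {j : ℕ} (hj : 1 ≤ j)
    (n : ℕ) (x : A) : adamsOp j (gamma n x) = gamma n (adamsOp j x) := by
  have key : adamsOp j (gamma n (gen PUnit.unit : Fr PUnit.{u+1})) =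
      gamma n (adamsOp j (gen PUnit.unit : Fr PUnit.{u+1})) := by
    refine theta_ext fun N => ?_
    rw [theta_adamsOp, theta_gamma, theta_gamma, theta_adamsOp]
    have h : LHom (Special.adamsHom (K := Mod (MI N)) isSpecial_model j hj) :=
      lHom_of_adams (natTorsionFree_domain _) _ fun k hk y => by
        show adamsOp j (adamsOp k y) = adamsOp k (adamsOp j y)
        rw [Special.adamsOp_adamsOp isSpecial_model hj, Special.adamsOp_adamsOp isSpecial_model hk, Nat.mul_comm]
    exact h.map_gamma n _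
  have := congrArg (evalAt (fun _ : PUnit.{u+1} => x)) key
  rwa [evalAt_adamsOp hA, evalAt_gamma hA, evalAt_gamma hA, evalAt_adamsOp hA, evalAt_gen] at this

/-- the generic series with coefficients the variables -/
def varSer (d : ℕ) : PowerSeries (MvPolynomial (Fin d) ℚ) :=
  PowerSeries.mk fun m => if h : 1 ≤ m ∧ m ≤ d then MvPolynomial.X ⟨m - 1, by omega⟩ else if m = 0 then 1 else 0

theorem cc_varSer (d : ℕ) : CC (varSer d) := by
  show PowerSeries.constantCoeff _ = 1
  rw [← PowerSeries.coeff_zero_eq_constantCoeff_apply]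
  simp [varSer]

theorem chPoly_eq (d : ℕ) :
    KGr.chPoly d = (d : MvPolynomial (Fin d) ℚ) +
      ∑ k ∈ range d, (1 / ((k + 1).factorial : ℚ)) • psi (varSer d) (k + 1) := by
  let θ : MvPolynomial (Fin d) ℚ →+* MvPolynomial (Fin d) ℚ :=
    ((MvPolynomial.symmetricSubalgebra (Fin d) ℚ).val.comp (MvPolynomial.esymmAlgHom (Fin d) ℚ d)).toRingHom
  have hinj : Function.Injective θ :=
    Subtype.val_injective.comp (MvPolynomial.esymmAlgHom_injective ℚ (by simp))
  apply hinj
  have hser : PowerSeries.map θ (varSer d) = prodLin ((univ : Finset (Fin d)).val.map MvPolynomial.X) := by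
    ext m : 1
    rw [PowerSeries.coeff_map, varSer, PowerSeries.coeff_mk, coeff_prodLin]
    split_ifs with h h0
    · simp only [θ, MvPolynomial.esymmAlgHom, AlgHom.toRingHom_eq_coe, RingHom.coe_coe, AlgHom.comp_apply,
        MvPolynomial.aeval_X, Subalgebra.coe_val, show m - 1 + 1 = m by omega]
      rw [← MvPolynomial.aeval_esymm_eq_multiset_esymm (Fin d) ℚ]
      exact ((MvPolynomial.aeval_X_left_apply _)).symm
    · rw [h0, map_one, esymm_zero_eq_one]
    · rw [map_zero, esymm_of_card_lt _ m (by simp; omega)]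
  have hl : θ (KGr.chPoly d) = ∑ i : Fin d, Polynomial.aeval (MvPolynomial.X i) (KGr.expTrunc d) := by
    show ((MvPolynomial.esymmAlgEquiv (Fin d) ℚ (Fintype.card_fin d)) (KGr.chPoly d)).1 = _
    rw [KGr.chPoly, AlgEquiv.apply_symm_apply]
  have hs : ∀ (c : ℚ) p, θ (c • p) = c • θ p := fun c p =>
    map_smul ((MvPolynomial.symmetricSubalgebra (Fin d) ℚ).val.comp (MvPolynomial.esymmAlgHom (Fin d) ℚ d)) c p
  rw [hl, map_add, map_natCast, map_sum]
  simp only [hs, map_psi (cc_varSer d), hser, psi_prodLin _ _ (Nat.succ_pos _), Multiset.map_map, Function.comp_def,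
    KGr.expTrunc, map_sum, map_mul, Polynomial.aeval_C, map_pow, Polynomial.aeval_X]
  rw [Finset.sum_comm, Finset.sum_range_succ']
  rw [add_comm]
  congr 1
  · simp
  · refine Finset.sum_congr rfl fun k _ => ?_
    show _ = (1 / ((k + 1).factorial : ℚ)) • ∑ i : Fin d, (MvPolynomial.X i : MvPolynomial (Fin d) ℚ) ^ (k + 1)
    rw [Finset.smul_sum]
    exact Finset.sum_congr rfl fun i _ => (Algebra.smul_def _ _).symm

variable {K : Type u} [CommRing K] [LambdaOps K] {P : PosStructure K}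

variable (P) in
/-- the degree `k` part of the Chern character, `k ≥ 1` -/
def chDeg (k : ℕ) (x : K) : KGr.Gr P :=
  if k = 0 then algebraMap ℚ (KGr.Gr P) (P.aug x : ℚ) else (1 / (k.factorial : ℚ)) • psi (cSer P x) k

theorem chK_eq (d : ℕ) (x : K) : KGr.chK P d x = ∑ k ∈ range (d + 1), chDeg P k x := by
  rw [KGr.chK, chPoly_eq, map_add, map_natCast, map_sum, Finset.sum_range_succ',
    map_sub, map_natCast, chDeg, if_pos rfl]
  have key : ∀ k ∈ range d, MvPolynomial.aeval (fun i : Fin d => KGr.chern P (i.1 + 1) x)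
      ((1 / ((k + 1).factorial : ℚ)) • psi (varSer d) (k + 1)) = chDeg P (k + 1) x := by
    intro k hk
    rw [map_smul, chDeg, if_neg (Nat.succ_ne_zero k)]
    congr 1
    show (MvPolynomial.aeval fun i : Fin d => KGr.chern P (i.1 + 1) x).toRingHom _ = _
    refine (map_psi (S := KGr.Gr P) (cc_varSer d) (MvPolynomial.aeval fun i : Fin d => KGr.chern P (i.1 + 1) x).toRingHom (k + 1)).trans ?_
    refine psi_congr ((cc_varSer d).map _) (cc_cSer (P := P) x) (n := d) (fun i hi => ?_) _ (Finset.mem_range.1 hk)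
    rw [PowerSeries.coeff_map, varSer, PowerSeries.coeff_mk, coeff_cSer]
    cases i with
    | zero => simp [← coeff_cSer, (cc_cSer (P := P) x).coeff_zero]
    | succ i =>
      rw [dif_pos ⟨by omega, hi⟩]
      show MvPolynomial.aeval _ (MvPolynomial.X _) = _
      rw [MvPolynomial.aeval_X]
      rfl
  rw [Finset.sum_congr rfl key]
  ring

theorem chDeg_add (k : ℕ) (x y : K) : chDeg P k (x + y) = chDeg P k x + chDeg P k y := by
  unfold chDeg
  split
  · rw [map_add, Int.cast_add, map_add]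
  · rw [cSer_add, psi_mul (cc_cSer (P := P) x) (cc_cSer (P := P) y), smul_add]

theorem cSer_zero : cSer P (0 : K) = 1 := by
  have h := cSer_add (P := P) (0 : K) 0
  rw [add_zero] at h
  calc cSer P (0 : K) = cSer P (0 : K) * (cSer P (0 : K) * inv1 (cSer P (0 : K))) := by
        rw [mul_inv1 (cc_cSer (P := P) 0), mul_one]
    _ = 1 := by rw [← mul_assoc, ← h, mul_inv1 (cc_cSer (P := P) 0)]

variable (P) in
/-- `chDeg` on `ℚ ⊗ K` -/
def chLin (k : ℕ) : ℚ ⊗[ℤ] K →ₗ[ℚ] KGr.Gr P :=
  TensorProduct.AlgebraTensorModule.lift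
    (LinearMap.toSpanSingleton ℚ (K →ₗ[ℤ] KGr.Gr P) (AddMonoidHom.mk' (chDeg P k) (chDeg_add k)).toIntLinearMap)

theorem chLin_one_tmul (k : ℕ) (x : K) : chLin P k (1 ⊗ₜ[ℤ] x) = chDeg P k x := by
  rw [chLin, TensorProduct.AlgebraTensorModule.lift_tmul, LinearMap.toSpanSingleton_apply_one]
  rfl

theorem gr_smul_def (q : ℚ) (z : KGr.Gr P) : q • z = algebraMap ℚ (KGr.Gr P) q * z :=
  Algebra.smul_def (R := ℚ) (A := KGr.Gr P) q z

theorem psi_eq_of_low {R : Type u} [CommRing R] {f : PowerSeries R} (hf : CC f) {m : ℕ}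
    (h : ∀ i, 1 ≤ i → i < m + 1 → PowerSeries.coeff i f = 0) :
    psi f (m + 1) = (-1) ^ m * (((m : R) + 1) * PowerSeries.coeff (m + 1) f) := by
  have e := coeff_succ_mul_eq hf m
  rw [Finset.sum_eq_single 0, hf.coeff_zero, one_mul, Nat.sub_zero] at e
  · rw [psi_succ, ← e, mul_comm (PowerSeries.coeff (m + 1) f)]
  · intro i hi hne
    rw [h i (Nat.pos_of_ne_zero hne) (Finset.mem_range.1 hi), zero_mul]
  · intro h'; exact absurd (Finset.mem_range.2 (Nat.succ_pos m)) h'

theorem fil_pos_aug (hK : HasSplitting K P) {n : ℕ} (hn : 1 ≤ n) {x : K} (hx : x ∈ gammaFiltration P n) :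
    P.aug x = 0 := by
  letI := intOps
  rw [gammaFiltration, if_neg (by omega)] at hx
  induction hx using AddSubgroup.closure_induction with
  | mem y hy =>
    obtain ⟨l, hl, hs, rfl⟩ := hy
    obtain ⟨k, hk, hk0⟩ : ∃ k ∈ l, k.1 ≠ 0 := by
      by_contra hcon
      push Not at hcon
      have : (l.map Prod.fst).sum = 0 :=
        List.sum_eq_zero fun y hy => by obtain ⟨q, hq, rfl⟩ := List.mem_map.1 hy; exact hcon q hq
      omega
    rw [map_list_prod]
    refine List.prod_eq_zero (List.mem_map.2 ⟨_, List.mem_map.2 ⟨k, hk, rfl⟩, ?_⟩)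
    rw [(lHom_aug hK).map_gamma, hl k hk, gamma_of_zero _ hk0]
  | zero => exact map_zero _
  | add a b _ _ ha hb => rw [map_add, ha, hb, add_zero]
  | neg a _ ha => rw [map_neg, ha, neg_zero]

theorem chDeg_fil (hK : HasSplitting K P) {n : ℕ} {x : K} (hx : x ∈ gammaFiltration P n) :
    chDeg P n x = cls P n ⟨x, hx⟩ := by
  cases n with
  | zero =>
    rw [chDeg, if_pos rfl]
    have h1 : cls P 0 ⟨x, hx⟩ = cls P 0 ⟨(P.aug x : K), fil_zero _⟩ := by
      rw [← sub_eq_zero, ← map_sub]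
      exact cls_eq_zero (fil_zero _) (fil_aug (aug_sub x))
    rw [h1, show (⟨(P.aug x : K), fil_zero _⟩ : gammaFiltration P 0) = P.aug x • ⟨1, fil_zero 1⟩ from
      Subtype.ext (by rw [AddSubgroup.coe_zsmul, zsmul_one]), map_zsmul, cls_one, zsmul_one, map_intCast]
  | succ m =>
    letI := intOps
    have hA := isSpecial_of_splitting hK
    have h0 : P.aug x = 0 := fil_pos_aug hK (Nat.succ_pos m) hx
    have hx' : x ∈ gammaFil ((augAlg P : K →ₐ[ℤ] ℤ) : K →+* ℤ) (m + 1) := by
      rw [coe_augAlg]; exact (mem_gammaFiltration_iff P _ x).1 hx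
    have hg : ∀ i, 1 ≤ i → gamma i x ∈ gammaFiltration P (max i (m + 1)) := fun i hi => by
      have := gamma_gammaFil_mem isBinomial_int hA (isLambdaAlg_int P) (augAlg P) (Nat.succ_pos m) hx' i hi
      rw [coe_augAlg] at this
      exact (mem_gammaFiltration_iff P _ _).2 this
    have hlead : gamma (m + 1) x - (-1 : K) ^ m * (m.factorial : K) * x ∈ gammaFiltration P (m + 1 + 1) := by
      have := gammaFil_lead isBinomial_int hA (isLambdaAlg_int P) (augAlg P) (Nat.succ_pos m) hx'
      rw [coe_augAlg] at this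
      simp only [Nat.succ_sub_one] at this
      exact (mem_gammaFiltration_iff P _ _).2 this
    have hlow : ∀ i, 1 ≤ i → i < m + 1 → PowerSeries.coeff i (cSer P x) = 0 := by
      intro i hi hlt
      rw [coeff_cSer, chern_eq_cls]
      refine cls_eq_zero _ (gammaFiltration_anti P (show i + 1 ≤ max i (m + 1) by omega) ?_)
      rw [h0, Int.cast_zero, sub_zero]
      exact hg i hi
    have htop : PowerSeries.coeff (m + 1) (cSer P x) = ((-1 : ℤ) ^ m * (m.factorial : ℤ)) • cls P (m + 1) ⟨x, hx⟩ := by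
      rw [coeff_cSer, chern_eq_cls, ← map_zsmul, ← sub_eq_zero, ← map_sub]
      refine cls_eq_zero _ ?_
      show gamma (m + 1) (x - (P.aug x : K)) - ((((-1 : ℤ) ^ m * (m.factorial : ℤ)) • (⟨x, hx⟩ : gammaFiltration P (m + 1)) : gammaFiltration P (m + 1)) : K) ∈ _
      rw [AddSubgroup.coe_zsmul, zsmul_eq_mul, h0, Int.cast_zero, sub_zero]
      push_cast
      exact hlead
    rw [chDeg, if_neg (Nat.succ_ne_zero m), psi_eq_of_low (cc_cSer (P := P) x) hlow, htop, zsmul_eq_mul]
    rw [gr_smul_def, Nat.factorial_succ]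
    push_cast
    have hq : algebraMap ℚ (KGr.Gr P) (1 / (((m : ℚ) + 1) * (m.factorial : ℚ))) *
        (((m : KGr.Gr P) + 1) * (m.factorial : KGr.Gr P)) = 1 := by
      rw [← map_natCast (algebraMap ℚ (KGr.Gr P)) m, ← map_natCast (algebraMap ℚ (KGr.Gr P)) m.factorial,
        ← map_one (algebraMap ℚ (KGr.Gr P)), ← map_add, ← map_mul, ← map_mul, one_div_mul_cancel]
      exact mul_ne_zero (Nat.cast_add_one_ne_zero m) (Nat.cast_ne_zero.2 (Nat.factorial_ne_zero m))
    have hsq : ((-1 : KGr.Gr P) ^ m) * (-1) ^ m = 1 := by rcases neg_one_pow_eq_or (KGr.Gr P) m with h | h <;> rw [h] <;> simp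
    linear_combination (cls P (m + 1) ⟨x, hx⟩ * (-1 : KGr.Gr P) ^ m * (-1) ^ m) * hq + cls P (m + 1) ⟨x, hx⟩ * hsq

theorem chDeg_adams (hK : HasSplitting K P) {j : ℕ} (hj : 1 ≤ j) (k : ℕ) (x : K) :
    chDeg P k (adams P j x) = (j : ℚ) ^ k • chDeg P k x := by
  unfold chDeg
  split
  · next h => subst h; rw [aug_adams hK, pow_zero, one_smul]
  · next h =>
    have hA := isSpecial_of_splitting hK
    have hser : cSer P (adams P j x) = PowerSeries.rescale (j : KGr.Gr P) (cSer P x) := by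
      ext i
      refine Eq.trans ?_ (PowerSeries.coeff_rescale (cSer P x) (j : KGr.Gr P) i).symm
      rw [coeff_cSer, coeff_cSer, chern_eq_cls, chern_eq_cls, ← Nat.cast_pow,
        ← nsmul_eq_mul, ← map_nsmul, ← sub_eq_zero, ← map_sub]
      refine cls_eq_zero _ ?_
      show gamma i (adams P j x - (P.aug (adams P j x) : K)) -
        ((j ^ i • (⟨_, gamma_mem_fil (aug_sub x) i⟩ : gammaFiltration P i) : gammaFiltration P i) : K) ∈ _
      rw [AddSubgroup.coe_nsmul, nsmul_eq_mul, aug_adams hK]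
      rw [show adams P j x - (P.aug x : K) = adams P j (x - (P.aug x : K)) by
        rw [← adamsRingHom_apply hK, ← adamsRingHom_apply hK, map_sub, map_intCast]]
      rw [adams_eq P hj, ← adamsOp_gamma hA hj, mem_gammaFiltration_iff, Nat.cast_pow]
      exact adams_sub_mem hK hj ((mem_gammaFiltration_iff P i _).1 (gamma_mem_fil (aug_sub x) i))
    rw [hser, psi_rescale (cc_cSer (P := P) x), smul_comm]
    congr 1
    rw [gr_smul_def, map_pow, map_natCast]

/-! ### multiplicativity and bijectivity -/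

variable (P) in
/-- the Adams operation on `ℚ ⊗ K` -/
def adamsRat (hK : HasSplitting K P) (j : ℕ) : ℚ ⊗[ℤ] K →ₐ[ℚ] ℚ ⊗[ℤ] K :=
  Algebra.TensorProduct.map (AlgHom.id ℚ ℚ) (adamsRingHom hK j).toIntAlgHom

theorem adamsRat_apply (hK : HasSplitting K P) (j : ℕ) (x : K) :
    (adamsRat P hK j).toLinearMap (1 ⊗ₜ[ℤ] x) = 1 ⊗ₜ[ℤ] adams P j x := by
  show adamsRat P hK j (1 ⊗ₜ[ℤ] x) = _
  rw [adamsRat, Algebra.TensorProduct.map_tmul, ← adamsRingHom_apply hK]
  rfl

theorem chLin_adams (hK : HasSplitting K P) {j : ℕ} (hj : 1 ≤ j) (k : ℕ) (v : ℚ ⊗[ℤ] K) :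
    chLin P k ((adamsRat P hK j).toLinearMap v) = (j : ℚ) ^ k • chLin P k v := by
  induction v with
  | zero => simp
  | add a b ha hb => simp only [map_add, ha, hb, smul_add]
  | tmul q x =>
    rw [show q ⊗ₜ[ℤ] x = q • ((1 : ℚ) ⊗ₜ[ℤ] x) by rw [TensorProduct.smul_tmul', smul_eq_mul, mul_one],
      map_smul, map_smul, map_smul, adamsRat_apply, chLin_one_tmul, chLin_one_tmul, chDeg_adams hK hj, smul_comm]

theorem chLin_eigen (hK : HasSplitting K P) {j : ℕ} (hj : 2 ≤ j) {m k : ℕ} (hkm : k ≠ m) {v : ℚ ⊗[ℤ] K}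
    (hv : v ∈ Module.End.eigenspace (adamsRat P hK j).toLinearMap ((j : ℚ) ^ m)) : chLin P k v = 0 := by
  have h := chLin_adams hK (show 1 ≤ j by omega) k v
  rw [Module.End.mem_eigenspace_iff.1 hv, map_smul, ← sub_eq_zero, ← sub_smul] at h
  have hne : (j : ℚ) ^ m - (j : ℚ) ^ k ≠ 0 := by
    rw [sub_ne_zero]
    exact_mod_cast fun he => hkm (Nat.pow_right_injective hj he).symm
  have := congrArg (((j : ℚ) ^ m - (j : ℚ) ^ k)⁻¹ • ·) h
  simpa [smul_smul, inv_mul_cancel₀ hne] using this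

theorem chLin_mul_fil (hK : HasSplitting K P) {m n : ℕ} {v w : ℚ ⊗[ℤ] K} (hv : v ∈ ratFil P m)
    (hw : w ∈ ratFil P n) : chLin P (m + n) (v * w) = chLin P m v * chLin P n w := by
  induction hv using Submodule.span_induction with
  | mem y hy =>
    obtain ⟨x, hx, rfl⟩ := hy
    induction hw using Submodule.span_induction with
    | mem z hz =>
      obtain ⟨y, hy, rfl⟩ := hz
      rw [Algebra.TensorProduct.tmul_mul_tmul, mul_one, chLin_one_tmul, chLin_one_tmul, chLin_one_tmul,
        chDeg_fil hK hx, chDeg_fil hK hy, chDeg_fil hK (fil_mul hx hy), cls_mul]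
    | zero => simp
    | add a b _ _ ha hb => simp only [mul_add, map_add, ha, hb]
    | smul c a _ ha => simp only [mul_smul_comm, map_smul, ha]
  | zero => simp
  | add a b _ _ ha hb => simp only [add_mul, map_add, ha, hb]
  | smul c a _ ha => simp only [smul_mul_assoc, map_smul, ha]

variable (P) in
/-- the Chern character on `ℚ ⊗ K` -/
def chRat (d : ℕ) : ℚ ⊗[ℤ] K →ₗ[ℚ] KGr.Gr P := ∑ k ∈ range (d + 1), chLin P k

theorem chRat_one_tmul (d : ℕ) (x : K) : chRat P d (1 ⊗ₜ[ℤ] x) = KGr.chK P d x := by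
  rw [chRat, LinearMap.sum_apply, chK_eq]
  exact Finset.sum_congr rfl fun k _ => chLin_one_tmul k x

theorem chRat_eigen (hK : HasSplitting K P) {d : ℕ} (hd : gammaFiltration P (d + 1) = ⊥) {j : ℕ} (hj : 2 ≤ j)
    {m : ℕ} {v : ℚ ⊗[ℤ] K} (hv : v ∈ Module.End.eigenspace (adamsRat P hK j).toLinearMap ((j : ℚ) ^ m)) :
    chRat P d v = chLin P m v := by
  rw [chRat, LinearMap.sum_apply]
  by_cases hm : m ∈ range (d + 1)
  · rw [Finset.sum_eq_single m (fun k _ hk => chLin_eigen hK hj hk hv) (fun h => absurd hm h)]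
  · have h := (grEigen_ratFil hK hd hj (adamsRat_apply hK j))
    have := h.anti (show d + 1 ≤ m by simp at hm; omega) (h.eigen_le m hv)
    rw [h.bot, Submodule.mem_bot] at this
    simp [this]

theorem chRat_mul (hK : HasSplitting K P) {d : ℕ} (hd : gammaFiltration P (d + 1) = ⊥) (v w : ℚ ⊗[ℤ] K) :
    chRat P d (v * w) = chRat P d v * chRat P d w := by
  have h := grEigen_ratFil hK hd (le_refl 2) (adamsRat_apply hK 2)
  have hv : v ∈ ⨆ m ∈ range (d + 1), Module.End.eigenspace (adamsRat P hK 2).toLinearMap (((2 : ℕ) : ℚ) ^ m) := by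
    rw [h.iSup_eigen]; trivial
  have hw : w ∈ ⨆ m ∈ range (d + 1), Module.End.eigenspace (adamsRat P hK 2).toLinearMap (((2 : ℕ) : ℚ) ^ m) := by
    rw [h.iSup_eigen]; trivial
  rw [iSup_subtype'] at hv hw
  refine Submodule.iSup_induction (motive := fun v => chRat P d (v * w) = chRat P d v * chRat P d w) _ hv
    (fun m a ha => ?_) (by simp) (fun a b ha hb => by simp only [add_mul, map_add, ha, hb])
  refine Submodule.iSup_induction (motive := fun w => chRat P d (a * w) = chRat P d a * chRat P d w) _ hw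
    (fun n b hb => ?_) (by simp) (fun b c hb hc => by simp only [mul_add, map_add, hb, hc])
  have hab : a * b ∈ Module.End.eigenspace (adamsRat P hK 2).toLinearMap (((2 : ℕ) : ℚ) ^ (m.1 + n.1)) := by
    rw [Module.End.mem_eigenspace_iff] at ha hb ⊢
    show adamsRat P hK 2 (a * b) = _
    rw [map_mul]
    show (adamsRat P hK 2).toLinearMap a * (adamsRat P hK 2).toLinearMap b = _
    rw [ha, hb, smul_mul_smul_comm, pow_add]
  rw [chRat_eigen hK hd le_rfl ha, chRat_eigen hK hd le_rfl hb, chRat_eigen hK hd le_rfl hab,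
    chLin_mul_fil hK (h.eigen_le _ ha) (h.eigen_le _ hb)]

end Groth.Agent.Lambda
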