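import Groth.Agent.Lambda.Chern

/-!
# The Chern character is bijective on rational K-theory
-/

noncomputable section

open Finset LambdaRing LaurentPolynomial
open scoped TensorProduct

namespace Groth.Agent.Lambda

universe u

variable {K : Type u} [CommRing K] [LambdaOps K] {P : PosStructure K}

variable (P) in
/-- the degree `n` component of the Rees ring, modulo `F^(n+1)` -/
def reesDeg (n : ℕ) : KGr.rees P →+ K ⧸ gammaFiltration P (n + 1) :=
  AddMonoidHom.mk' (fun p => ((p : LaurentPolynomial K).coeff (-(n : ℤ)) : K ⧸ gammaFiltration P (n + 1)))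
    fun p q => by
      rw [Subring.coe_add, AddMonoidAlgebra.coeff_add, Finsupp.add_apply]; rfl

theorem reesDeg_eq_zero (n : ℕ) {p : KGr.rees P} (hp : p ∈ Ideal.span {KGr.tGen P}) : reesDeg P n p = 0 := by
  obtain ⟨a, rfl⟩ := Ideal.mem_span_singleton'.1 hp
  show ((((a : LaurentPolynomial K) * T 1).coeff (-(n : ℤ)) : K) : K ⧸ gammaFiltration P (n + 1)) = 0
  rw [QuotientAddGroup.eq_zero_iff]
  have h : ((a : LaurentPolynomial K) * T 1).coeff (-(n : ℤ)) = (a : LaurentPolynomial K).coeff (-((n + 1 : ℕ) : ℤ)) := by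
    show ((a : LaurentPolynomial K) * AddMonoidAlgebra.single (1 : ℤ) (1 : K)).coeff (-(n : ℤ)) = _
    rw [AddMonoidAlgebra.coeff_mul_single_apply, mul_one]
    congr 1
    push_cast
    ring
  rw [h]
  exact coeff_mem_of_rees a.2 (n + 1)

variable (P) in
/-- degree `n` projection of `Gr K` -/
def grZDeg (n : ℕ) : KGr.GrZ P →+ K ⧸ gammaFiltration P (n + 1) :=
  QuotientAddGroup.lift (Submodule.toAddSubgroup (Ideal.span {KGr.tGen P})) (reesDeg P n)
    fun _ hp => reesDeg_eq_zero n hp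

variable (P) in
/-- degree `n` projection of `ℚ Gr K` -/
def grDeg (n : ℕ) : KGr.Gr P →ₗ[ℚ] ℚ ⊗[ℤ] (K ⧸ gammaFiltration P (n + 1)) :=
  (grZDeg P n).toIntLinearMap.baseChange ℚ

variable (P) in
/-- reduction modulo `F^(n+1)` -/
def redMod (n : ℕ) : ℚ ⊗[ℤ] K →ₗ[ℚ] ℚ ⊗[ℤ] (K ⧸ gammaFiltration P (n + 1)) :=
  (QuotientAddGroup.mk' (gammaFiltration P (n + 1))).toIntLinearMap.baseChange ℚ

theorem grDeg_cls {m : ℕ} (n : ℕ) {x : K} (hx : x ∈ gammaFiltration P m) :
    grDeg P n (cls P m ⟨x, hx⟩) = if m = n then (1 : ℚ) ⊗ₜ[ℤ] (x : K ⧸ gammaFiltration P (n + 1)) else 0 := by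
  show grDeg P n ((1 : ℚ) ⊗ₜ[ℤ] _) = _
  rw [grDeg, LinearMap.baseChange_tmul]
  have h : grZDeg P n (Ideal.Quotient.mk (Ideal.span {KGr.tGen P}) ⟨C x * T (-(m : ℤ)), C_mul_T_mem_rees hx⟩) =
      ((C x * T (-(m : ℤ))).coeff (-(n : ℤ)) : K ⧸ gammaFiltration P (n + 1)) := rfl
  simp only [AddMonoidHom.coe_toIntLinearMap]
  rw [h, ← LaurentPolynomial.single_eq_C_mul_T, AddMonoidAlgebra.coeff_single, Finsupp.single_apply]
  by_cases hmn : m = n
  · rw [if_pos (by omega), if_pos hmn]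
  · rw [if_neg (by omega), if_neg hmn, QuotientAddGroup.mk_zero, TensorProduct.tmul_zero]

theorem grDeg_chLin (hK : HasSplitting K P) {m : ℕ} (n : ℕ) {v : ℚ ⊗[ℤ] K} (hv : v ∈ ratFil P m) :
    grDeg P n (chLin P m v) = if m = n then redMod P n v else 0 := by
  induction hv using Submodule.span_induction with
  | mem y hy =>
    obtain ⟨x, hx, rfl⟩ := hy
    rw [chLin_one_tmul, chDeg_fil hK hx, grDeg_cls]
    rfl
  | zero => simp
  | add a b _ _ ha hb => simp only [map_add, ha, hb]; split_ifs <;> simp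
  | smul c a _ ha => simp only [map_smul, ha]; split_ifs <;> simp

theorem ker_redMod (n : ℕ) : LinearMap.ker (redMod P n) ≤ ratFil P (n + 1) := by
  intro v hv
  have hex : Function.Exact (gammaFiltration P (n + 1)).subtype.toIntLinearMap
      (QuotientAddGroup.mk' (gammaFiltration P (n + 1))).toIntLinearMap := fun y => by
    show (y : K ⧸ gammaFiltration P (n + 1)) = 0 ↔ _
    rw [QuotientAddGroup.eq_zero_iff]
    exact ⟨fun h => ⟨⟨y, h⟩, rfl⟩, fun ⟨z, hz⟩ => hz ▸ z.2⟩
  obtain ⟨w, rfl⟩ := ((lTensor_exact ℚ hex (QuotientAddGroup.mk'_surjective _)) v).1 hv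
  clear hv
  induction w with
  | zero => rw [map_zero]; exact zero_mem _
  | add a b ha hb => rw [map_add]; exact add_mem ha hb
  | tmul q z =>
    rw [LinearMap.lTensor_tmul,
      show q ⊗ₜ[ℤ] ((gammaFiltration P (n + 1)).subtype.toIntLinearMap z) = q • ((1 : ℚ) ⊗ₜ[ℤ] (z : K)) by
        rw [TensorProduct.smul_tmul', smul_eq_mul, mul_one]; rfl]
    exact Submodule.smul_mem _ _ (Submodule.subset_span ⟨z, z.2, rfl⟩)

theorem chRat_injective (hK : HasSplitting K P) {d : ℕ} (hd : gammaFiltration P (d + 1) = ⊥) :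
    Function.Injective (chRat P d) := by
  have h := grEigen_ratFil hK hd (le_refl 2) (adamsRat_apply hK 2)
  rw [← LinearMap.ker_eq_bot, eq_bot_iff]
  intro v hv
  have hmem : v ∈ ⨆ m : {m // m ∈ range (d + 1)},
      Module.End.eigenspace (adamsRat P hK 2).toLinearMap (((2 : ℕ) : ℚ) ^ m.1) := by
    have := h.iSup_eigen
    rw [iSup_subtype'] at this
    rw [this]
    exact Submodule.mem_top
  obtain ⟨g, hg, hsum⟩ := (Submodule.mem_iSup_iff_exists_finsupp _ _).1 hmem
  rw [Submodule.mem_bot, ← hsum]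
  refine Finset.sum_eq_zero fun m hm => ?_
  have hgm := hg m
  have hz : grDeg P m.1 (chRat P d v) = 0 := by rw [LinearMap.mem_ker.1 hv, map_zero]
  rw [← hsum, Finsupp.sum, map_sum, map_sum, Finset.sum_eq_single m,
    chRat_eigen hK hd le_rfl hgm, grDeg_chLin hK _ (h.eigen_le _ hgm), if_pos rfl] at hz
  · exact (Submodule.eq_bot_iff _).1 (h.eigen_inf (Nat.lt_succ_self m.1)) _ ⟨hgm, ker_redMod m.1 hz⟩
  · intro n _ hne
    rw [chRat_eigen hK hd le_rfl (hg n), grDeg_chLin hK _ (h.eigen_le _ (hg n)),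
      if_neg (fun e => hne (Subtype.ext e))]
  · intro hn; exact absurd hm hn

theorem cls_mem_range (hK : HasSplitting K P) {d : ℕ} (hd : gammaFiltration P (d + 1) = ⊥) {n : ℕ} {x : K}
    (hx : x ∈ gammaFiltration P n) : cls P n ⟨x, hx⟩ ∈ LinearMap.range (chRat P d) := by
  have h := grEigen_ratFil hK hd (le_refl 2) (adamsRat_apply hK 2)
  have hx' : (1 : ℚ) ⊗ₜ[ℤ] x ∈ ratFil P n := Submodule.subset_span ⟨x, hx, rfl⟩
  obtain ⟨w, hw, hxw⟩ := h.exists_eigen n hx'
  refine ⟨w, ?_⟩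
  rw [chRat_eigen hK hd le_rfl hw]
  have hker : ∀ v ∈ ratFil P (n + 1), chLin P n v = 0 := by
    intro v hv
    induction hv using Submodule.span_induction with
    | mem y hy =>
      obtain ⟨z, hz, rfl⟩ := hy
      rw [chLin_one_tmul, chDeg_fil hK (gammaFiltration_anti P (Nat.le_succ n) hz)]
      exact cls_eq_zero _ hz
    | zero => exact map_zero _
    | add a b _ _ ha hb => rw [map_add, ha, hb, add_zero]
    | smul c a _ ha => rw [map_smul, ha, smul_zero]
  have := hker _ hxw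
  rw [map_sub, sub_eq_zero, chLin_one_tmul, chDeg_fil hK hx] at this
  exact this.symm

theorem chRat_surjective (hK : HasSplitting K P) {d : ℕ} (hd : gammaFiltration P (d + 1) = ⊥) :
    Function.Surjective (chRat P d) := by
  rw [← LinearMap.range_eq_top, eq_top_iff]
  intro z hz
  clear hz
  have hone : (1 : KGr.Gr P) ∈ LinearMap.range (chRat P d) := cls_one (P := P) ▸ cls_mem_range hK hd (fil_zero 1)
  have hmul : ∀ a b, a ∈ LinearMap.range (chRat P d) → b ∈ LinearMap.range (chRat P d) →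
      a * b ∈ LinearMap.range (chRat P d) := by
    rintro _ _ ⟨v, rfl⟩ ⟨w, rfl⟩
    exact ⟨v * w, chRat_mul hK hd v w⟩
  have key : ∀ p : KGr.rees P,
      (1 : ℚ) ⊗ₜ[ℤ] Ideal.Quotient.mk (Ideal.span {KGr.tGen P}) p ∈ LinearMap.range (chRat P d) := by
    rintro ⟨p, hp⟩
    induction hp using Subring.closure_induction with
    | mem q hq =>
      rcases hq with rfl | ⟨n, x, hx, rfl⟩
      · rw [Ideal.Quotient.eq_zero_iff_mem.2 (Ideal.subset_span (by rfl)), TensorProduct.tmul_zero]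
        exact zero_mem _
      · exact cls_mem_range hK hd hx
    | zero => rw [show (⟨0, _⟩ : KGr.rees P) = 0 from rfl, map_zero, TensorProduct.tmul_zero]; exact zero_mem _
    | one =>
      rw [show (⟨1, _⟩ : KGr.rees P) = 1 from rfl, map_one, ← Algebra.TensorProduct.one_def]
      exact hone
    | add a b ha' hb' ha hb =>
      rw [show (⟨a + b, _⟩ : KGr.rees P) = ⟨a, ha'⟩ + ⟨b, hb'⟩ from rfl, map_add, TensorProduct.tmul_add]
      exact add_mem ha hb
    | neg a ha' ha =>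
      rw [show (⟨-a, _⟩ : KGr.rees P) = -⟨a, ha'⟩ from rfl, map_neg, TensorProduct.tmul_neg]
      exact neg_mem ha
    | mul a b ha' hb' ha hb =>
      rw [show (⟨a * b, _⟩ : KGr.rees P) = ⟨a, ha'⟩ * ⟨b, hb'⟩ from rfl, map_mul, ← mul_one (1 : ℚ),
        ← Algebra.TensorProduct.tmul_mul_tmul]
      exact hmul _ _ ha hb
  induction z using TensorProduct.induction_on with
  | zero => exact zero_mem _
  | add a b ha hb => exact add_mem ha hb
  | tmul q y =>
    obtain ⟨p, rfl⟩ := Ideal.Quotient.mk_surjective y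
    rw [show q ⊗ₜ[ℤ] Ideal.Quotient.mk (Ideal.span {KGr.tGen P}) p =
      q • ((1 : ℚ) ⊗ₜ[ℤ] Ideal.Quotient.mk (Ideal.span {KGr.tGen P}) p) by
        rw [TensorProduct.smul_tmul', smul_eq_mul, mul_one]]
    exact Submodule.smul_mem _ _ (key p)

end Groth.Agent.Lambda
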