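import Groth.Agent.Lambda.GammaFil
import Mathlib.Algebra.MvPolynomial.Monad

/-!
# Divisibility by λ_{-1}(N)
-/

noncomputable section

set_option linter.style.haveILetI false
set_option linter.unusedSectionVars false
set_option linter.unusedSimpArgs false

open Finset LambdaRing MvPolynomial

namespace Groth.Agent.Lambda

universe u v w

open scoped Classical

section Universal

variable {σ : Type u}

/-- kill the generators `γ^(k+1)` of `g₀` with `k ≥ e` -/
def killAbove (g₀ : σ) (e : ℕ) : Fr σ →ₐ[ℤ] Fr σ :=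
  aeval fun i => if i.idx = g₀ ∧ e ≤ i.lev then 0 else X i

theorem killAbove_mem_ord (g₀ : σ) (e : ℕ) {n : ℕ} {u : Fr σ} (hu : u ∈ ordIdeal ℤ (genW σ) n) :
    killAbove g₀ e u ∈ ordIdeal ℤ (genW σ) n := by
  refine aeval_mem_ordIdeal (fun i => ?_) hu
  split
  · exact zero_mem _
  · exact X_mem_ordIdeal _ i

theorem evalAt_killAbove {A : Type v} [CommRing A] [LambdaOps A] (x : σ → A) (g₀ : σ) (e : ℕ)
    (h : ∀ k, e < k → gamma k (x g₀) = 0) (u : Fr σ) : evalAt x (killAbove g₀ e u) = evalAt x u := by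
  rw [← AlgHom.comp_apply]
  congr 1
  refine MvPolynomial.algHom_ext fun i => ?_
  rw [AlgHom.comp_apply, killAbove, aeval_X]
  split
  · next hi =>
    rw [map_zero, evalAt, aeval_X, hi.1, h _ (by omega)]
  · rfl

theorem theta_killAbove (N : σ → ℕ) (g₀ : σ) (e : ℕ) (h : N g₀ ≤ e) (u : Fr σ) :
    theta N (killAbove g₀ e u) = theta N u := by
  rw [← AlgHom.comp_apply]
  congr 1
  refine MvPolynomial.algHom_ext fun i => ?_
  rw [AlgHom.comp_apply, killAbove, aeval_X]
  split
  · next hi =>
    rw [map_zero, theta_X, esymm_of_card_lt]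
    simp only [Multiset.card_map, block, Finset.card_val, Finset.card_univ, Fintype.card_fin]
    rw [hi.1]
    omega
  · rfl

theorem vars_killAbove (g₀ : σ) (e : ℕ) (u : Fr σ) (i : Gen σ) (hi : i ∈ (killAbove g₀ e u).vars)
    (hg : i.idx = g₀) : i.lev < e := by
  have h := MvPolynomial.vars_bind₁ (fun i : Gen σ => if i.idx = g₀ ∧ e ≤ i.lev then (0 : Fr σ) else X i) u hi
  rw [Finset.mem_biUnion] at h
  obtain ⟨j, -, hj⟩ := h
  by_contra hlt
  split at hj
  · simp at hj
  · next hn =>
    rw [vars_X, Finset.mem_singleton] at hj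
    subst hj
    exact hn ⟨hg, not_lt.1 hlt⟩

theorem dvd_sub_kill {τ : Type*} (i : τ) (p : MvPolynomial τ ℤ) :
    (X i : MvPolynomial τ ℤ) ∣ p - aeval (Function.update (X : τ → MvPolynomial τ ℤ) i 0) p := by
  induction p using MvPolynomial.induction_on with
  | C a => simp
  | add p q hp hq =>
    rw [map_add, show p + q - (aeval (Function.update X i 0) p + aeval (Function.update X i 0) q) =
      (p - aeval (Function.update X i 0) p) + (q - aeval (Function.update X i 0) q) by ring]
    exact dvd_add hp hq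
  | mul_X p j hp =>
    rw [map_mul, aeval_X, Function.update_apply]
    split
    · next h => subst h; simp
    · rw [← sub_mul]; exact dvd_mul_of_dvd_left hp _

/-- An element vanishing in all models with fewer than `d` variables for `g₀` is a multiple of `γ^d x_{g₀}`. -/
theorem exists_quot (g₀ : σ) (d : ℕ) (u : Fr σ) (h : ∀ N : σ → ℕ, N g₀ = d → theta N u = 0) :
    ∃ H, killAbove g₀ (d + 1) u = X ⟨g₀, d⟩ * H := by
  obtain ⟨H, hH⟩ := dvd_sub_kill (⟨g₀, d⟩ : Gen σ) (killAbove g₀ (d + 1) u)
  refine ⟨H, ?_⟩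
  have hk : aeval (Function.update (X : Gen σ → Fr σ) ⟨g₀, d⟩ 0) (killAbove g₀ (d + 1) u) =
      killAbove g₀ d u := by
    rw [← AlgHom.comp_apply]
    congr 1
    refine MvPolynomial.algHom_ext fun i => ?_
    rw [AlgHom.comp_apply, killAbove, killAbove, aeval_X, aeval_X]
    by_cases hi : i = ⟨g₀, d⟩
    · subst hi
      rw [if_neg (by simp), if_pos ⟨rfl, le_rfl⟩, aeval_X, Function.update_self]
    · by_cases hc : i.idx = g₀ ∧ d + 1 ≤ i.lev
      · rw [if_pos hc, if_pos ⟨hc.1, by omega⟩, map_zero]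
      · rw [if_neg hc, if_neg (fun h' => hc ⟨h'.1, by
          rcases h'.2.lt_or_eq with h2 | h2
          · exact h2
          · exact absurd (by obtain ⟨a, b⟩ := i; simp only at h' h2; rw [h'.1, ← h2]) hi⟩),
          aeval_X, Function.update_of_ne hi]
  have h0 : killAbove g₀ d u = 0 := by
    let M := (killAbove g₀ d u).vars.sup fun i => i.lev + 1
    refine eq_zero_of_theta (Function.update (fun _ => M) g₀ d) _ (fun i hi => ?_) ?_
    · by_cases hg : i.idx = g₀
      · rw [hg, Function.update_self]; exact vars_killAbove g₀ d u i hi hg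
      · rw [Function.update_of_ne hg]
        exact Nat.lt_of_succ_le (Finset.le_sup (f := fun i : Gen σ => i.lev + 1) hi)
    · rw [theta_killAbove _ _ _ (by rw [Function.update_self]), h _ (Function.update_self _ _ _)]
  rw [hk, h0, sub_zero] at hH
  exact hH

theorem mem_ord_of_X_mul {i : Gen σ} {H : Fr σ} {n : ℕ} (h : X i * H ∈ ordIdeal ℤ (genW σ) n) :
    H ∈ ordIdeal ℤ (genW σ) (n - (i.lev + 1)) := by
  intro d hd
  rw [← coeff_X_mul d i H]
  refine h _ ?_
  rw [map_add, Finsupp.weight_apply, Finsupp.sum_single_index (by simp)]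
  simp only [smul_eq_mul, one_mul]
  show i.lev + 1 + _ < n
  omega

theorem theta_X_eq_zero (N : σ → ℕ) (g₀ : σ) {d : ℕ} (h : N g₀ ≤ d) : theta N (X ⟨g₀, d⟩) = 0 := by
  rw [theta_X, esymm_of_card_lt]
  simp [block]
  omega

end Universal

variable {A : Type v} [CommRing A] [LambdaOps A]

/-- `λ_{-1}(N)` for an element of rank `d` -/
def lamM1 (d : ℕ) (N : A) : A := ∑ j ∈ range (d + 1), (-1 : A) ^ j * LambdaOps.lam j N

theorem lamM1_eq (h1 : ∀ i, 2 ≤ i → LambdaOps.lam i (1 : A) = 0) (d : ℕ) (N : A) :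
    lamM1 d N = (-1) ^ d * gamma d (N - (d : A)) := by
  rw [gamma_eq_lam_add h1, show N - (d : A) + (d : A) - 1 = N - 1 by ring, lam_add_sub_one h1, ← mul_assoc,
    ← mul_pow, neg_one_mul, neg_neg, one_pow, one_mul]
  rfl

theorem gamma_eq_zero_of_rank (h1 : ∀ i, 2 ≤ i → LambdaOps.lam i (1 : A) = 0) {d : ℕ} {N : A}
    (hN : ∀ k, d < k → LambdaOps.lam k N = 0) (k : ℕ) (hk : d < k) : gamma k (N - (d : A)) = 0 := by
  obtain ⟨e, rfl⟩ : ∃ e, k = d + 1 + e := ⟨k - (d + 1), by omega⟩
  rw [gamma_eq_lam_add h1,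
    show N - (d : A) + ((d + 1 + e : ℕ) : A) - 1 = N + (e : A) by push_cast; ring, LambdaOps.lam_add]
  refine Finset.sum_eq_zero fun i _ => ?_
  by_cases hi : d < i
  · rw [hN i hi, zero_mul]
  · rw [← coeff_lamSeries (e : A), lamSeries_natCast h1,
      show (1 + PowerSeries.X : PowerSeries A) ^ e = ((1 + Polynomial.X : Polynomial A) ^ e : Polynomial A) by simp,
      Polynomial.coeff_coe, Polynomial.coeff_one_add_X_pow, Nat.choose_eq_zero_of_lt (by omega), Nat.cast_zero,
      mul_zero]

theorem lamM1_dvd_lam (hA : IsSpecial A) (d : ℕ) (N : A) (hN : ∀ k, d < k → LambdaOps.lam k N = 0)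
    (p : ℕ) (hp : 1 ≤ p) (x : A) : lamM1 d N ∣ LambdaOps.lam p (x * lamM1 d N) := by
  rcases Nat.eq_zero_or_pos d with rfl | hd
  · simp [lamM1, LambdaOps.lam_zero]
  obtain ⟨e, rfl⟩ : ∃ e, d = e + 1 := ⟨d - 1, by omega⟩
  let G : Fr Bool := X ⟨false, e⟩
  let u : Fr Bool := LambdaOps.lam p (gen true * ((-1) ^ (e + 1) * G))
  obtain ⟨H, hH⟩ := exists_quot false e u fun M hM => by
    rw [theta_lam, map_mul, map_mul, theta_X_eq_zero M false hM.le, mul_zero, mul_zero,
      lam_of_zero p (by omega)]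
  let xx : Bool → A := fun b => if b then x else N - ((e + 1 : ℕ) : A)
  have hev : evalAt xx (killAbove false (e + 1) u) = evalAt xx u :=
    evalAt_killAbove xx false (e + 1) (fun k hk => gamma_eq_zero_of_rank hA.lam_one_eq_zero hN k hk) u
  have hG : evalAt xx G = gamma (e + 1) (N - ((e + 1 : ℕ) : A)) := by
    simp [G, evalAt, xx]
  rw [hH, map_mul, hG] at hev
  have hu : evalAt xx u = LambdaOps.lam p (x * lamM1 (e + 1) N) := by
    rw [evalAt_lam hA, lamM1_eq hA.lam_one_eq_zero, map_mul, map_mul, hG, evalAt_gen, map_pow, map_neg, map_one]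
    rfl
  rw [← hu, ← hev, lamM1_eq hA.lam_one_eq_zero]
  exact ⟨(-1) ^ (e + 1) * evalAt xx H, by
    rw [mul_mul_mul_comm, mul_comm ((-1 : A) ^ (e + 1)) ((-1) ^ (e + 1)), ← mul_pow, neg_one_mul, neg_neg, one_pow]
    ring⟩

/-- what `γ^p (x · λ_{-1} N) / λ_{-1} N` satisfies -/
def QuotGood (J : ℕ → Ideal A) (L : A) (d i : ℕ) (x : A) : Prop :=
  ∀ p, 1 ≤ p → ∃ H, gamma p (x * L) = L * H ∧ H ∈ J (max (p - d) i) ∧
    (p = d + i → H - (-1) ^ (p - 1) * ((p - 1).factorial : A) * x ∈ J (i + 1))

variable {K : Type w} [CommRing K] [LambdaOps K] [BinomialRing K] [Algebra K A]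

theorem quotGood (hKb : IsBinomial K) (hA : IsSpecial A) (hKA : IsLambdaAlg K A) (ε : A →ₐ[K] K)
    {d : ℕ} (hd : 1 ≤ d) {N : A} (hN : ∀ k, d < k → LambdaOps.lam k N = 0) (hNε : ε N = (d : K))
    {i : ℕ} {x : A} (hx : x ∈ gammaFil (ε : A →+* K) i) :
    QuotGood (gammaFil (ε : A →+* K)) (lamM1 d N) d i x := by
  set J := gammaFil (ε : A →+* K) with hJdef
  have hJ : FiltFam J := filFam _
  set L := lamM1 d N with hL
  have hn' : (ε : A →+* K) (N - (d : A)) = 0 := by
    show ε (N - (d : A)) = 0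
    rw [map_sub, hNε, map_natCast, sub_self]
  have hLd : L ∈ J d := by
    rw [hL, lamM1_eq hA.lam_one_eq_zero]
    exact Ideal.mul_mem_left _ _ (gamma_mem_gammaFil _ hn' d)
  have hx' : x ∈ Submodule.span K (filGens ε i) := by rw [← gammaFil_le_span]; exact hx
  clear hx
  induction hx' using Submodule.span_induction with
  | mem x hx =>
    obtain ⟨l, hl, hs, rfl⟩ := hx
    obtain ⟨e, rfl⟩ : ∃ e, d = e + 1 := ⟨d - 1, by omega⟩
    intro p hp
    let xx : Option (Fin l.length) → A := fun o => o.elim (N - ((e + 1 : ℕ) : A)) fun j => (l.get j).2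
    have hxx : ∀ o, (ε : A →+* K) (xx o) = 0 := by
      rintro (_ | j)
      · exact hn'
      · exact hl _ (List.get_mem l j)
    let w : Fr (Option (Fin l.length)) := ∏ j : Fin l.length, gamma (l.get j).1 (gen (some j))
    have hw : w ∈ ordIdeal ℤ (genW _) i := by
      have := prod_mem_ordIdeal (R := ℤ) (w := genW (Option (Fin l.length))) (univ : Finset (Fin l.length))
        (fun j => gamma (l.get j).1 (gen (some j))) (fun j => (l.get j).1) fun j _ => fr_gamma_gen_mem _ _
      refine ordIdeal_antitone _ (hs.trans (le_of_eq ?_)) this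
      conv_lhs => rw [← List.ofFn_get l, List.map_ofFn, List.sum_ofFn]
      rfl
    have hwe : evalAt xx w = (l.map fun p => gamma p.1 p.2).prod := by
      rw [map_prod]
      conv_rhs => rw [← List.ofFn_get l, List.map_ofFn, List.prod_ofFn]
      refine Finset.prod_congr rfl fun j _ => ?_
      rw [evalAt_gamma hA, evalAt_gen]
      rfl
    let G : Fr (Option (Fin l.length)) := X ⟨none, e⟩
    let s : Fr (Option (Fin l.length)) := (-1) ^ (e + 1)
    have hwG : w * (s * G) ∈ ordIdeal ℤ (genW _) (i + (e + 1)) :=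
      mul_mem_ordIdeal hw (Ideal.mul_mem_left _ _ (show G ∈ ordIdeal ℤ (genW _) (e + 1) from X_mem_ordIdeal (genW _) ⟨none, e⟩))
    obtain ⟨H, hH⟩ := exists_quot none e (gamma p (w * (s * G))) fun M hM => by
      rw [theta_gamma, map_mul, map_mul, theta_X_eq_zero M none hM.le, mul_zero, mul_zero,
        gamma_of_zero p (by omega)]
    have hu : evalAt xx (gamma p (w * (s * G))) = gamma p ((l.map fun p => gamma p.1 p.2).prod * L) := by
      rw [evalAt_gamma hA, map_mul, map_mul, hwe, hL, lamM1_eq hA.lam_one_eq_zero]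
      simp [s, G, evalAt, xx]
    have hev : evalAt xx (killAbove none (e + 1) (gamma p (w * (s * G)))) = evalAt xx (gamma p (w * (s * G))) :=
      evalAt_killAbove xx none (e + 1) (fun k hk => gamma_eq_zero_of_rank hA.lam_one_eq_zero hN k hk) _
    rw [hu, hH, map_mul] at hev
    have hG : evalAt xx G = gamma (e + 1) (N - ((e + 1 : ℕ) : A)) := by simp [G, evalAt, xx]
    have hone : ((-1 : A) ^ (e + 1)) * (-1) ^ (e + 1) = 1 := by
      rw [← mul_pow, neg_one_mul, neg_neg, one_pow]
    refine ⟨(-1) ^ (e + 1) * evalAt xx H, ?_, ?_, ?_⟩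
    · rw [← hev, hG, hL, lamM1_eq hA.lam_one_eq_zero]
      linear_combination (-(gamma (e + 1) (N - ((e + 1 : ℕ) : A)) * evalAt xx H)) * hone
    · refine Ideal.mul_mem_left _ _ (evalAt_mem_gammaFil (ε : A →+* K) xx hxx ?_)
      have := killAbove_mem_ord none (e + 1) (fr_gamma_mem (by omega) hwG p hp)
      rw [hH] at this
      have h' := mem_ord_of_X_mul this
      exact ordIdeal_antitone _ (show max (p - (e + 1)) i ≤ max p (i + (e + 1)) - (e + 1) by omega) h'
    · intro hpe
      have hm : 1 ≤ i + (e + 1) := by omega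
      have hlead := killAbove_mem_ord none (e + 1) (fr_gamma_lead hm hwG)
      have hp' : i + (e + 1) = p := by omega
      rw [hp'] at hlead
      set cc : Fr (Option (Fin l.length)) := (-1) ^ (p - 1) * ((p - 1).factorial : Fr (Option (Fin l.length))) with hcc
      have hkG : killAbove none (e + 1) G = G := by
        show killAbove none (e + 1) (X ⟨none, e⟩) = X ⟨none, e⟩
        rw [killAbove, aeval_X, if_neg (by simp)]
      have hks : killAbove none (e + 1) s = s := by simp [s]
      have hkc : killAbove none (e + 1) cc = cc := by simp [hcc]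
      rw [map_sub, map_mul _ cc, map_mul _ w, map_mul _ s, hH, hkG, hks, hkc,
        show X ⟨none, e⟩ * H - cc * (killAbove none (e + 1) w * (s * G)) =
          X ⟨none, e⟩ * (H - cc * s * killAbove none (e + 1) w) by simp only [G]; ring] at hlead
      have h2 := evalAt_mem_gammaFil (ε : A →+* K) xx hxx (mem_ord_of_X_mul hlead)
      rw [show p + 1 - (e + 1) = i + 1 by omega, map_sub, map_mul, map_mul,
        evalAt_killAbove xx none (e + 1) (fun k hk => gamma_eq_zero_of_rank hA.lam_one_eq_zero hN k hk), hwe] at h2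
      have h3 := Ideal.mul_mem_left (J (i + 1)) ((-1 : A) ^ (e + 1)) h2
      simp only [hcc, s, map_mul, map_pow, map_neg, map_one, map_natCast] at h3
      have h4 : ∀ c y : A, (-1 : A) ^ (e + 1) * (evalAt xx H - c * (-1) ^ (e + 1) * y) =
          (-1) ^ (e + 1) * evalAt xx H - c * y := fun c y => by linear_combination (-(c * y)) * hone
      rwa [h4] at h3
  | zero =>
    intro p hp
    exact ⟨0, by rw [zero_mul, mul_zero, gamma_of_zero p (by omega)], zero_mem _, fun _ => by simp⟩
  | add a b _ _ ha hb =>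
    intro p hp
    choose Ha ha1 ha2 ha3 using ha
    choose Hb hb1 hb2 hb3 using hb
    obtain ⟨n, rfl⟩ : ∃ n, p = n + 1 := ⟨p - 1, by omega⟩
    let S : A := ∑ k ∈ (range n).attach,
      Ha (k.1 + 1) (Nat.succ_pos _) * (L * Hb (n + 1 - (k.1 + 1)) (by have := Finset.mem_range.1 k.2; omega))
    have hS : ∀ t, t ≤ max (n + 1 - d) i ∨ (n + 1 = d + i ∧ t = i + 1) → S ∈ J t := by
      intro t ht
      refine Ideal.sum_mem _ fun k _ => ?_
      have hk := Finset.mem_range.1 k.2
      exact hJ.anti (show t ≤ max (k.1 + 1 - d) i + (d + max (n + 1 - (k.1 + 1) - d) i) by omega)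
        (hJ.mul (ha2 _ _) (hJ.mul hLd (hb2 _ _)))
    refine ⟨S + Hb (n + 1) hp + Ha (n + 1) hp, ?_, ?_, fun hpe => ?_⟩
    · rw [add_mul, ← coeff_gammaSeries, gammaSeries_add, PowerSeries.coeff_mul,
        Finset.Nat.sum_antidiagonal_eq_sum_range_succ
          (fun p q => PowerSeries.coeff p (gammaSeries (a * L)) * PowerSeries.coeff q (gammaSeries (b * L))),
        Finset.sum_range_succ, Finset.sum_range_succ']
      simp only [coeff_gammaSeries, gamma_zero_op, one_mul, Nat.sub_zero, Nat.sub_self, mul_one]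
      rw [← Finset.sum_attach (range n), ha1 _ hp, hb1 _ hp, mul_add L, mul_add L, Finset.mul_sum]
      congr 2
      refine Finset.sum_congr rfl fun k _ => ?_
      rw [ha1 _ (Nat.succ_pos _), hb1 _ (by have := Finset.mem_range.1 k.2; omega)]
      ring
    · exact add_mem (add_mem (hS _ (Or.inl le_rfl)) (hb2 _ hp)) (ha2 _ hp)
    · have := add_mem (hS (i + 1) (Or.inr ⟨hpe, rfl⟩)) (add_mem (ha3 _ hp hpe) (hb3 _ hp hpe))
      convert this using 1
      ring
  | smul r a _ ha =>
    intro p hp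
    choose Ha ha1 ha2 ha3 using ha
    -- quotients for the powers of `γ_t (a L) - 1`
    have hpow : ∀ k q, 1 ≤ k → ∃ H, PowerSeries.coeff q ((gammaSeries (a * L) - 1) ^ k) = L * H ∧
        H ∈ J (max (q - d) i) ∧ (2 ≤ k → q = d + i → H ∈ J (i + 1)) := by
      intro k
      induction k with
      | zero => intro q h; omega
      | succ k ih =>
        intro q _
        have hbase : ∀ q, ∃ H, PowerSeries.coeff q (gammaSeries (a * L) - 1) = L * H ∧ H ∈ J (max (q - d) i) := by
          intro q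
          cases q with
          | zero => exact ⟨0, by simp [map_sub, coeff_gammaSeries, gamma_zero_op], zero_mem _⟩
          | succ q =>
            exact ⟨Ha (q + 1) (Nat.succ_pos q), by simpa [map_sub, coeff_gammaSeries] using ha1 _ (Nat.succ_pos q),
              ha2 _ _⟩
        rcases Nat.eq_zero_or_pos k with rfl | hk
        · obtain ⟨H, h1, h2⟩ := hbase q
          exact ⟨H, by simpa using h1, h2, fun h => absurd h (by omega)⟩
        choose B hB1 hB2 using hbase
        choose P hP1 hP2 _hP3 using fun q => ih q hk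
        refine ⟨∑ z ∈ antidiagonal q, P z.1 * (L * B z.2), ?_, Ideal.sum_mem _ fun z hz => ?_,
          fun _ hq => Ideal.sum_mem _ fun z hz => ?_⟩
        · rw [pow_succ, PowerSeries.coeff_mul, Finset.mul_sum]
          exact Finset.sum_congr rfl fun z _ => by rw [hP1, hB1]; ring
        all_goals have hz' := Finset.mem_antidiagonal.1 hz
        · exact hJ.anti (show max (q - d) i ≤ max (z.1 - d) i + (d + max (z.2 - d) i) by omega)
            (hJ.mul (hP2 _) (hJ.mul hLd (hB2 _)))
        · exact hJ.anti (show i + 1 ≤ max (z.1 - d) i + (d + max (z.2 - d) i) by omega)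
            (hJ.mul (hP2 _) (hJ.mul hLd (hB2 _)))
    choose P hP1 hP2 hP3 using fun k => hpow (k + 1 + 1) p (by omega)
    obtain ⟨n, rfl⟩ : ∃ n, p = n + 1 := ⟨p - 1, by omega⟩
    refine ⟨∑ k ∈ range n, algebraMap K A (Ring.choose r (k + 1 + 1)) * P k +
      algebraMap K A r * Ha (n + 1) hp, ?_, ?_, fun hpe => ?_⟩
    · rw [Algebra.smul_def, mul_assoc, gamma_scalar_mul hKb hA hKA, Finset.sum_range_succ', Finset.sum_range_succ',
        mul_add L, Finset.mul_sum]
      simp only [zero_add, pow_one, pow_zero, map_sub, coeff_gammaSeries, PowerSeries.coeff_one,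
        Nat.succ_ne_zero, if_false, sub_zero, mul_zero, add_zero, Ring.choose_one_right, hP1, ha1 _ hp]
      congr 1
      · exact Finset.sum_congr rfl fun k _ => by ring
      · ring
    · exact add_mem (Ideal.sum_mem _ fun k _ => Ideal.mul_mem_left _ _ (hP2 k))
        (Ideal.mul_mem_left _ _ (ha2 _ hp))
    · have h := add_mem (Ideal.sum_mem (J (i + 1)) fun k (_ : k ∈ range n) =>
        Ideal.mul_mem_left _ (algebraMap K A (Ring.choose r (k + 1 + 1))) (hP3 k (by omega) hpe))
        (Ideal.mul_mem_left _ (algebraMap K A r) (ha3 _ hp hpe))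
      convert h using 1
      rw [Algebra.smul_def]
      ring

end Groth.Agent.Lambda
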