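import Groth.Agent.Lambda.Splitting
import Mathlib.LinearAlgebra.Eigenspace.Basic
import Mathlib.RingTheory.TensorProduct.Basic

/-!
# Eigenspaces of a filtered endomorphism, applied to the rational γ-filtration
-/

noncomputable section

open Finset LambdaRing
open scoped TensorProduct

namespace Groth.Agent.Lambda

universe u v

section Abstract

variable {V : Type v} [AddCommGroup V] [Module ℚ V]

/-- a finite filtration on which `Ψ` acts on the `n`-th step by `c^n` modulo the next one -/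
structure GrEigen (W : ℕ → Submodule ℚ V) (d : ℕ) (c : ℕ) (Ψ : V →ₗ[ℚ] V) : Prop where
  anti : ∀ {m n : ℕ}, m ≤ n → W n ≤ W m
  top : W 0 = ⊤
  bot : W (d + 1) = ⊥
  two_le : 2 ≤ c
  shift : ∀ n, ∀ v ∈ W n, Ψ v - ((c : ℚ) ^ n) • v ∈ W (n + 1)

namespace GrEigen

variable {W : ℕ → Submodule ℚ V} {d c : ℕ} {Ψ : V →ₗ[ℚ] V}

theorem pow_sub_ne (h : GrEigen W d c Ψ) {m n : ℕ} (hne : m ≠ n) : (c : ℚ) ^ m - (c : ℚ) ^ n ≠ 0 := by
  rw [sub_ne_zero]
  exact_mod_cast fun he => hne (Nat.pow_right_injective h.two_le he)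

theorem step (h : GrEigen W d c Ψ) {m n : ℕ} (hne : m ≠ n) {v : V}
    (hv : v ∈ Module.End.eigenspace Ψ ((c : ℚ) ^ m)) (hn : v ∈ W n) : v ∈ W (n + 1) := by
  have := h.shift n v hn
  rw [Module.End.mem_eigenspace_iff.1 hv, ← sub_smul] at this
  simpa [smul_smul, inv_mul_cancel₀ (h.pow_sub_ne hne)] using
    (W (n + 1)).smul_mem ((c : ℚ) ^ m - (c : ℚ) ^ n)⁻¹ this

theorem eigen_le (h : GrEigen W d c Ψ) (m : ℕ) : Module.End.eigenspace Ψ ((c : ℚ) ^ m) ≤ W m := by
  intro v hv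
  suffices ∀ n, n ≤ m → v ∈ W n from this m le_rfl
  intro n hn
  induction n with
  | zero => rw [h.top]; trivial
  | succ n ih => exact h.step (by omega) hv (ih (by omega))

theorem eigen_inf (h : GrEigen W d c Ψ) {m n : ℕ} (hmn : m < n) :
    Module.End.eigenspace Ψ ((c : ℚ) ^ m) ⊓ W n = ⊥ := by
  rw [eq_bot_iff]
  rintro v ⟨hv, hn⟩
  have : ∀ k, v ∈ W (n + k) := by
    intro k
    induction k with
    | zero => exact hn
    | succ k ih => exact h.step (show m ≠ n + k from fun e => by subst e; exact Nat.lt_irrefl _ (lt_of_le_of_lt (Nat.le_add_right n k) hmn)) hv ih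
  have := h.anti (show d + 1 ≤ n + (d + 1) by omega) (this (d + 1))
  rwa [h.bot] at this

theorem exists_eigen (h : GrEigen W d c Ψ) (m : ℕ) {v : V} (hv : v ∈ W m) :
    ∃ w ∈ Module.End.eigenspace Ψ ((c : ℚ) ^ m), v - w ∈ W (m + 1) := by
  have key : ∀ k, ∃ w, v - w ∈ W (m + 1) ∧ Ψ w - ((c : ℚ) ^ m) • w ∈ W (m + 1 + k) := by
    intro k
    induction k with
    | zero => exact ⟨v, by simp, h.shift m v hv⟩
    | succ k ih =>
      obtain ⟨w, hw, hr⟩ := ih
      set r := Ψ w - ((c : ℚ) ^ m) • w with hrdef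
      set b : ℚ := ((c : ℚ) ^ (m + 1 + k) - (c : ℚ) ^ m)⁻¹
      have hb : b * ((c : ℚ) ^ (m + 1 + k) - (c : ℚ) ^ m) = 1 :=
        inv_mul_cancel₀ (h.pow_sub_ne (by omega))
      refine ⟨w - b • r, ?_, ?_⟩
      · rw [← sub_add]
        exact add_mem hw (Submodule.smul_mem _ _ (h.anti (by omega) hr))
      · have e : Ψ (w - b • r) - ((c : ℚ) ^ m) • (w - b • r) =
            -(b • (Ψ r - ((c : ℚ) ^ (m + 1 + k)) • r)) +
              ((1 : ℚ) - b * ((c : ℚ) ^ (m + 1 + k) - (c : ℚ) ^ m)) • r := by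
          have hw' : Ψ w = r + ((c : ℚ) ^ m) • w := by rw [hrdef, sub_add_cancel]
          clear_value r
          rw [map_sub, map_smul, hw']
          module
        rw [e, hb, sub_self, zero_smul, add_zero]
        exact neg_mem (Submodule.smul_mem _ _ (h.shift _ r hr))
  obtain ⟨w, hw, hr⟩ := key d
  have := h.anti (show d + 1 ≤ m + 1 + d by omega) hr
  rw [h.bot, Submodule.mem_bot, sub_eq_zero] at this
  exact ⟨w, Module.End.mem_eigenspace_iff.2 this, hw⟩

theorem eigen_sup (h : GrEigen W d c Ψ) (m : ℕ) :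
    Module.End.eigenspace Ψ ((c : ℚ) ^ m) ⊔ W (m + 1) = W m := by
  refine le_antisymm (sup_le (h.eigen_le m) (h.anti (Nat.le_succ m))) fun v hv => ?_
  obtain ⟨w, hw, hs⟩ := h.exists_eigen m hv
  exact Submodule.mem_sup.2 ⟨w, hw, v - w, hs, add_sub_cancel w v⟩

theorem iSup_eigen (h : GrEigen W d c Ψ) :
    (⨆ m ∈ range (d + 1), Module.End.eigenspace Ψ ((c : ℚ) ^ m)) = ⊤ := by
  rw [eq_top_iff, ← h.top]
  suffices ∀ k, k ≤ d + 1 → W (d + 1 - k) ≤ ⨆ m ∈ range (d + 1), Module.End.eigenspace Ψ ((c : ℚ) ^ m) by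
    simpa using this (d + 1) le_rfl
  intro k hk
  induction k with
  | zero => simp [h.bot]
  | succ k ih =>
    rw [← h.eigen_sup]
    refine sup_le (le_iSup₂_of_le (d + 1 - (k + 1)) (Finset.mem_range.2 (by omega)) le_rfl) ?_
    rw [show d + 1 - (k + 1) + 1 = d + 1 - k by omega]
    exact ih (by omega)

theorem eigen_le_of_comm (h : GrEigen W d c Ψ) {c' : ℕ} {Ψ' : V →ₗ[ℚ] V} (h' : GrEigen W d c' Ψ')
    (hcomm : ∀ v, Ψ (Ψ' v) = Ψ' (Ψ v)) (m : ℕ) :
    Module.End.eigenspace Ψ ((c : ℚ) ^ m) ≤ Module.End.eigenspace Ψ' ((c' : ℚ) ^ m) := by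
  intro v hv
  rw [Module.End.mem_eigenspace_iff, ← sub_eq_zero]
  have h1 : Ψ' v ∈ Module.End.eigenspace Ψ ((c : ℚ) ^ m) :=
    Module.End.mem_eigenspace_iff.2 (by rw [hcomm, Module.End.mem_eigenspace_iff.1 hv, map_smul])
  exact (Submodule.eq_bot_iff _).1 (h.eigen_inf (Nat.lt_succ_self m)) _
    ⟨sub_mem h1 (Submodule.smul_mem _ _ hv), h'.shift m v (h.eigen_le m hv)⟩

end GrEigen

end Abstract

variable {K : Type u} [CommRing K] [LambdaOps K]

/-- the rational γ-filtration -/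
def ratFil (P : PosStructure K) (n : ℕ) : Submodule ℚ (ℚ ⊗[ℤ] K) :=
  Submodule.span ℚ ((fun x : K => (1 : ℚ) ⊗ₜ[ℤ] x) '' (gammaFiltration P n : Set K))

theorem natCast_smul_one_tmul (k : ℕ) (x : K) :
    ((k : ℚ)) • ((1 : ℚ) ⊗ₜ[ℤ] x) = (1 : ℚ) ⊗ₜ[ℤ] ((k : K) * x) := by
  rw [Nat.cast_smul_eq_nsmul, ← TensorProduct.tmul_smul, nsmul_eq_mul]

theorem gammaFiltration_anti (P : PosStructure K) {m n : ℕ} (h : m ≤ n) :
    gammaFiltration P n ≤ gammaFiltration P m := fun x hx => by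
  letI := intOps
  rw [mem_gammaFiltration_iff] at hx ⊢
  exact (filFam P.aug).anti h hx

theorem grEigen_ratFil {P : PosStructure K} (hK : HasSplitting K P) {d : ℕ}
    (hd : gammaFiltration P (d + 1) = ⊥) {j : ℕ} (hj : 2 ≤ j) {Ψ : ℚ ⊗[ℤ] K →ₗ[ℚ] ℚ ⊗[ℤ] K}
    (hΨ : ∀ x : K, Ψ (1 ⊗ₜ[ℤ] x) = 1 ⊗ₜ[ℤ] adams P j x) : GrEigen (ratFil P) d j Ψ where
  anti h := Submodule.span_mono (Set.image_mono (gammaFiltration_anti P h))
  top := by
    rw [eq_top_iff]
    intro v hv
    clear hv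
    induction v with
    | zero => exact zero_mem _
    | add a b ha hb => exact add_mem ha hb
    | tmul q x =>
      rw [show q ⊗ₜ[ℤ] x = q • ((1 : ℚ) ⊗ₜ[ℤ] x) by rw [TensorProduct.smul_tmul', smul_eq_mul, mul_one]]
      exact Submodule.smul_mem _ _ (Submodule.subset_span ⟨x, by simp [gammaFiltration], rfl⟩)
  bot := by
    rw [ratFil, hd]
    simp
  two_le := hj
  shift n v hv := by
    induction hv using Submodule.span_induction with
    | mem y hy =>
      obtain ⟨x, hx, rfl⟩ := hy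
      rw [hΨ, ← Nat.cast_pow, natCast_smul_one_tmul, ← TensorProduct.tmul_sub, Nat.cast_pow]
      refine Submodule.subset_span ⟨_, ?_, rfl⟩
      rw [SetLike.mem_coe, mem_gammaFiltration_iff] at hx ⊢
      rw [adams_eq P (show 1 ≤ j by omega)]
      exact adams_sub_mem hK (show 1 ≤ j by omega) hx
    | zero => simp
    | add a b _ _ ha hb =>
      rw [map_add, smul_add, add_sub_add_comm]
      exact add_mem ha hb
    | smul q a _ ha =>
      rw [map_smul, smul_comm, ← smul_sub]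
      exact Submodule.smul_mem _ _ ha

theorem adams_tmul_comm {P : PosStructure K} (hK : HasSplitting K P) {j l : ℕ}
    {Ψj Ψl : ℚ ⊗[ℤ] K →ₗ[ℚ] ℚ ⊗[ℤ] K} (hΨj : ∀ x : K, Ψj (1 ⊗ₜ[ℤ] x) = 1 ⊗ₜ[ℤ] adams P j x)
    (hΨl : ∀ x : K, Ψl (1 ⊗ₜ[ℤ] x) = 1 ⊗ₜ[ℤ] adams P l x) (v : ℚ ⊗[ℤ] K) : Ψj (Ψl v) = Ψl (Ψj v) := by
  induction v with
  | zero => simp
  | add a b ha hb => simp [ha, hb]
  | tmul q x =>
    rw [show q ⊗ₜ[ℤ] x = q • ((1 : ℚ) ⊗ₜ[ℤ] x) by rw [TensorProduct.smul_tmul', smul_eq_mul, mul_one]]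
    simp only [map_smul, hΨl, hΨj, adams_comp hK, Nat.mul_comm j l]

/-! ### the truncated logarithm -/

/-- `∑_{n ≤ d} (-1)^n X^(n+1)/(n+1)` -/
def logPoly (d : ℕ) : Polynomial ℚ :=
  ∑ n ∈ range (d + 1), Polynomial.C ((-1 : ℚ) ^ n / ((n : ℚ) + 1)) * Polynomial.X ^ (n + 1)

theorem aeval_logPoly {A : Type v} [CommRing A] [Algebra ℚ A] (d : ℕ) (w : A) :
    Polynomial.aeval w (logPoly d) = ∑ n ∈ range (d + 1), ((-1 : ℚ) ^ n / ((n : ℚ) + 1)) • w ^ (n + 1) := by
  rw [logPoly, map_sum]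
  exact Finset.sum_congr rfl fun n _ => by
    rw [map_mul, Polynomial.aeval_C, map_pow, Polynomial.aeval_X, ← Algebra.smul_def]

theorem derivative_logPoly (d : ℕ) :
    Polynomial.derivative (logPoly d) * (1 + Polynomial.X) = 1 - (-Polynomial.X) ^ (d + 1) := by
  have h : Polynomial.derivative (logPoly d) = ∑ n ∈ range (d + 1), (-Polynomial.X : Polynomial ℚ) ^ n := by
    rw [logPoly, map_sum]
    refine Finset.sum_congr rfl fun n _ => ?_
    rw [Polynomial.derivative_C_mul_X_pow, Nat.cast_succ, Nat.add_sub_cancel,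
      div_mul_cancel₀ _ (Nat.cast_add_one_ne_zero n), map_pow, map_neg, map_one, ← mul_pow, neg_one_mul]
  rw [h, show (1 + Polynomial.X : Polynomial ℚ) = 1 - (-Polynomial.X) by ring, geom_sum_mul_neg]

theorem logPoly_comp (d j : ℕ) :
    Polynomial.X ^ (d + 1) ∣
      (logPoly d).comp ((1 + Polynomial.X) ^ j - 1) - Polynomial.C (j : ℚ) * logPoly d := by
  set w : Polynomial ℚ := (1 + Polynomial.X) ^ j - 1 with hw
  set Q := (logPoly d).comp w - Polynomial.C (j : ℚ) * logPoly d with hQ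
  have hXw : Polynomial.X ∣ w := by
    rw [Polynomial.X_dvd_iff, hw]
    simp [Polynomial.coeff_zero_eq_eval_zero]
  have h1 : Polynomial.derivative Q * (1 + Polynomial.X) =
      Polynomial.C (j : ℚ) * ((-Polynomial.X) ^ (d + 1) - (-w) ^ (d + 1)) := by
    have hw' : Polynomial.derivative w * (1 + Polynomial.X) = Polynomial.C (j : ℚ) * (1 + w) := by
      rw [hw, map_sub, Polynomial.derivative_one, sub_zero, Polynomial.derivative_pow, map_add,
        Polynomial.derivative_one, Polynomial.derivative_X, zero_add, mul_one, add_sub_cancel, mul_assoc]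
      cases j with
      | zero => simp
      | succ j => rw [Nat.add_sub_cancel, pow_succ]
    have hcomp : (Polynomial.derivative (logPoly d)).comp w * (1 + w) = 1 - (-w) ^ (d + 1) := by
      have := congrArg (fun p => p.comp w) (derivative_logPoly d)
      simpa using this
    have h0 := derivative_logPoly d
    rw [hQ, map_sub, Polynomial.derivative_comp, Polynomial.derivative_C_mul]
    linear_combination (Polynomial.derivative (logPoly d)).comp w * hw' +
      Polynomial.C (j : ℚ) * hcomp - Polynomial.C (j : ℚ) * h0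
  have h2 : (Polynomial.X : Polynomial ℚ) ^ (d + 1) ∣ Polynomial.derivative Q * (1 + Polynomial.X) := by
    rw [h1]
    refine Dvd.dvd.mul_left (dvd_sub ?_ ?_) _
    · rw [neg_pow]; exact dvd_mul_left _ _
    · exact pow_dvd_pow_of_dvd (dvd_neg.2 hXw) _
  have h3 : (Polynomial.X : Polynomial ℚ) ^ (d + 1) ∣ Polynomial.derivative Q := by
    refine IsCoprime.dvd_of_dvd_mul_right (IsCoprime.pow_left ?_) h2
    exact ⟨-1, 1, by ring⟩
  rw [Polynomial.X_pow_dvd_iff]
  intro n hn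
  cases n with
  | zero =>
    rw [Polynomial.coeff_zero_eq_eval_zero, hQ]
    simp [logPoly, hw, Polynomial.eval_finsetSum]
  | succ n =>
    have := Polynomial.X_pow_dvd_iff.1 h3 n (by omega)
    rw [Polynomial.coeff_derivative] at this
    exact (mul_eq_zero.1 this).resolve_right (Nat.cast_add_one_ne_zero n)

theorem aeval_logPoly_pow {A : Type v} [CommRing A] [Algebra ℚ A] {d : ℕ} {v : A} (hv : v ^ (d + 1) = 0)
    (j : ℕ) :
    Polynomial.aeval ((1 + v) ^ j - 1) (logPoly d) = (j : ℚ) • Polynomial.aeval v (logPoly d) := by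
  obtain ⟨R, hR⟩ := logPoly_comp d j
  have := congrArg (Polynomial.aeval v) hR
  rw [map_sub, Polynomial.aeval_comp, map_mul, map_mul, map_pow, Polynomial.aeval_X, hv, zero_mul,
    sub_eq_zero, Polynomial.aeval_C, ← Algebra.smul_def] at this
  simpa using this

end Groth.Agent.Lambda
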