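import Groth.Prelude.Def_KRR
import Groth.Agent.Lambda.Splitting

/-!
# σ-series and the linear functional on an elementary extension
-/

noncomputable section

open Finset LambdaRing
open PowerSeries (coeff)

namespace Groth.Agent.Lambda

universe u

variable {K : Type u} [CommRing K] [LambdaOps K]

theorem cc_rescale {R : Type u} [CommRing R] {f : PowerSeries R} (hf : CC f) (c : R) :
    CC (PowerSeries.rescale c f) := by
  show PowerSeries.constantCoeff _ = 1
  rw [← PowerSeries.coeff_zero_eq_constantCoeff_apply, PowerSeries.coeff_rescale, pow_zero, one_mul, hf.coeff_zero]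

theorem rescale_mul_sigmaSeries (x : K) :
    PowerSeries.rescale (-1 : K) (lamSeries x) * KRR.sigmaSeries x = 1 :=
  mul_inv1 (cc_rescale (cc_lamSeries x) (-1 : K))

theorem sigma_rec (x : K) (n : ℕ) :
    ∑ i ∈ range (n + 1), (-1 : K) ^ i * LambdaOps.lam i x * KRR.sigma (n - i) x =
      if n = 0 then 1 else 0 := by
  have h := congrArg (coeff n) (rescale_mul_sigmaSeries x)
  rw [PowerSeries.coeff_mul, Finset.Nat.sum_antidiagonal_eq_sum_range_succ
    (fun i j => coeff i (PowerSeries.rescale (-1 : K) (lamSeries x)) * coeff j (KRR.sigmaSeries x)),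
    PowerSeries.coeff_one] at h
  rw [← h]
  exact Finset.sum_congr rfl fun i _ => by rw [PowerSeries.coeff_rescale, coeff_lamSeries]; rfl

theorem sigma_rec_rank (P : PosStructure K) {e : K} (he : e ∈ P.pos) {m : ℕ} (hm : P.aug e = m) {n : ℕ}
    (hmn : m ≤ n) : ∑ i ∈ range (m + 1), (-1 : K) ^ i * LambdaOps.lam i e * KRR.sigma (n - i) e = 0 := by
  have h := sigma_rec e n
  have hpos : 0 < m := by
    have := P.aug_pos e he
    omega
  rw [if_neg (by omega : n ≠ 0)] at h
  rw [Finset.sum_subset (Finset.range_subset_range.2 (Nat.succ_le_succ hmn)) fun i hi hi' => by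
    rw [P.lam_eq_zero e he i (by rw [hm]; exact_mod_cast not_le.1 fun hle => hi' (Finset.mem_range_succ_iff.2 hle)),
      mul_zero, zero_mul]]
  exact h

/-- the relation satisfied by `ℓ` -/
theorem extPoly_root (P : PosStructure K) (e : K) {m : ℕ} (hm : P.aug e = m) :
    ∑ i ∈ range (m + 1), ((-1 : K) ^ i * LambdaOps.lam i e) •
      AdjoinRoot.root (KRR.extPoly P e) ^ (m - i) = 0 := by
  have h := AdjoinRoot.eval₂_root (KRR.extPoly P e)
  rw [KRR.extPoly, Polynomial.eval₂_finsetSum] at h
  simp only [Polynomial.eval₂_mul, Polynomial.eval₂_C, Polynomial.eval₂_pow, Polynomial.eval₂_X, hm,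
    Int.toNat_natCast] at h
  simp only [Algebra.smul_def, AdjoinRoot.algebraMap_eq]
  exact h

theorem monic_extPoly (P : PosStructure K) (e : K) : (KRR.extPoly P e).Monic := by
  rw [KRR.extPoly, Finset.sum_range_succ']
  simp only [pow_zero, LambdaOps.lam_zero, mul_one, map_one, one_mul, Nat.sub_zero]
  rw [add_comm]
  refine Polynomial.monic_X_pow_add ?_
  refine (Polynomial.degree_sum_le _ _).trans_lt ((Finset.sup_lt_iff (WithBot.bot_lt_coe _)).2 fun i hi => ?_)
  exact (Polynomial.degree_C_mul_X_pow_le _ _).trans_lt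
    (by exact_mod_cast Nat.sub_lt (by have := Finset.mem_range.1 hi; omega) (Nat.succ_pos i))

theorem natDegree_extPoly [Nontrivial K] (P : PosStructure K) (e : K) :
    (KRR.extPoly P e).natDegree = (P.aug e).toNat := by
  refine Polynomial.natDegree_eq_of_le_of_coeff_ne_zero ?_ ?_
  · refine Polynomial.natDegree_sum_le_of_forall_le _ _ fun i _ => ?_
    exact (Polynomial.natDegree_C_mul_X_pow_le _ _).trans (Nat.sub_le _ i)
  · rw [KRR.extPoly, Polynomial.finsetSum_coeff, Finset.sum_eq_single 0]
    · simp [LambdaOps.lam_zero]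
    · intro b hb hb0
      rw [Polynomial.coeff_C_mul, Polynomial.coeff_X_pow,
        if_neg (by have := Finset.mem_range.1 hb; omega), mul_zero]
    · intro h; exact absurd (Finset.mem_range.2 (Nat.succ_pos _)) h

variable (P : PosStructure K) {e : K} (he : e ∈ P.pos) {r : ℕ} (hr : P.aug e = r + 1)
  (f : AdjoinRoot (KRR.extPoly P e) →ₗ[K] K)
  (hf : ∀ i : ℕ, i ≤ r → f (AdjoinRoot.root (KRR.extPoly P e) ^ i) = KRR.sigma i e)

include he hr hf in
theorem functional_pow (k : ℕ) : f (AdjoinRoot.root (KRR.extPoly P e) ^ k) = KRR.sigma k e := by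
  induction k using Nat.strong_induction_on with
  | _ k ih =>
    by_cases hk : k ≤ r
    · exact hf k hk
    have hm : P.aug e = ((r + 1 : ℕ) : ℤ) := by rw [hr]; push_cast; ring
    have h0 := congrArg (fun z => f (AdjoinRoot.root (KRR.extPoly P e) ^ (k - (r + 1)) * z)) (extPoly_root P e hm)
    have h1 := sigma_rec_rank P he hm (show r + 1 ≤ k by omega)
    simp only [Finset.mul_sum, mul_zero, map_zero, map_sum, mul_smul_comm, map_smul, ← pow_add,
      smul_eq_mul] at h0
    rw [Finset.sum_range_succ'] at h0 h1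
    simp only [pow_zero, LambdaOps.lam_zero, one_mul, mul_one, Nat.sub_zero] at h0 h1
    rw [show k - (r + 1) + (r + 1) = k by omega] at h0
    rw [← h1, Finset.sum_congr rfl fun i hi => by
      rw [ih _ (by have := Finset.mem_range.1 hi; omega), show k - (r + 1) + (r + 1 - (i + 1)) = k - (i + 1) by
        have := Finset.mem_range.1 hi; omega]] at h0
    exact add_left_cancel h0

include he hr hf in
theorem functional_inv_pow (linv : AdjoinRoot (KRR.extPoly P e))
    (hlinv : linv * AdjoinRoot.root (KRR.extPoly P e) = 1) (n : ℕ) (h1n : 1 ≤ n) (hnr : n ≤ r) :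
    f (linv ^ n) = 0 := by
  induction n using Nat.strong_induction_on with
  | _ n ih =>
    set l := AdjoinRoot.root (KRR.extPoly P e) with hl
    have hm : P.aug e = ((r + 1 : ℕ) : ℤ) := by rw [hr]; push_cast; ring
    have hval : ∀ k, k ≤ r + 1 → k ≠ 0 →
        f (linv ^ n * l ^ k) = if n ≤ k then KRR.sigma (k - n) e else 0 := by
      intro k hk hk0
      split_ifs with h
      · obtain ⟨d, rfl⟩ : ∃ d, k = n + d := ⟨k - n, by omega⟩
        rw [pow_add, ← mul_assoc, ← mul_pow, hlinv, one_pow, one_mul, Nat.add_sub_cancel_left]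
        exact functional_pow P he hr f hf d
      · obtain ⟨d, hd⟩ : ∃ d, n = d + k := ⟨n - k, by omega⟩
        rw [hd, pow_add, mul_assoc, ← mul_pow, hlinv, one_pow, mul_one]
        exact ih d (by omega) (by omega) (by omega)
    have h0 := congrArg (fun z => f (linv ^ n * z)) (extPoly_root P e hm)
    simp only [Finset.mul_sum, mul_zero, map_zero, map_sum, mul_smul_comm, map_smul, smul_eq_mul] at h0
    rw [Finset.sum_range_succ, Nat.sub_self, pow_zero, mul_one, ← hl] at h0
    have h1 : ∑ i ∈ range (r + 1), ((-1 : K) ^ i * LambdaOps.lam i e) * f (linv ^ n * l ^ (r + 1 - i)) = 0 := by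
      rw [← sigma_rec e (r + 1 - n) |>.trans (if_neg (by omega))]
      rw [← Finset.sum_subset (Finset.range_subset_range.2 (show r + 1 - n + 1 ≤ r + 1 by omega))]
      · refine Finset.sum_congr rfl fun i hi => ?_
        have := Finset.mem_range.1 hi
        rw [hval _ (by omega) (by omega), if_pos (by omega), show r + 1 - n - i = r + 1 - i - n by omega]
      · intro i hi hi'
        simp only [Finset.mem_range] at hi hi'
        rw [hval _ (by omega) (by omega), if_neg (by omega), mul_zero]
    rw [h1, zero_add] at h0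
    have hu : IsUnit ((-1 : K) ^ (r + 1) * LambdaOps.lam (r + 1) e) := by
      refine (isUnit_one.neg.pow _).mul ?_
      have := P.isUnit_lam e he
      rwa [hm, Int.toNat_natCast] at this
    exact hu.mul_right_eq_zero.1 h0

end Groth.Agent.Lambda
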