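import Groth.Agent.Lambda.PserIdent
import Groth.Agent.Lambda.Elementary

/-!
# The λ-structure of the elementary extension `K[T]/(p_e)`
-/

noncomputable section

open Finset LambdaRing
open PowerSeries (coeff rescale)

namespace Groth.Agent.Lambda

universe u

variable {K : Type u} [CommRing K] [LambdaOps K] {R : Type u} [CommRing R]

/-- `k`-fold inversion -/
def sg (k : ℕ) (h : PowerSeries R) : PowerSeries R := if Even k then h else inv1 h

theorem cc_sg (k : ℕ) {h : PowerSeries R} (hh : CC h) : CC (sg k h) := by
  unfold sg; split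
  · exact hh
  · exact cc_inv1 h

theorem inv1_mul {f g : PowerSeries R} (hf : CC f) (hg : CC g) : inv1 (f * g) = inv1 f * inv1 g := by
  refine inv1_eq_of_mul_eq_one (hf.mul hg) ?_
  rw [mul_mul_mul_comm, mul_inv1 hf, mul_inv1 hg, one_mul]

theorem sg_mul (k : ℕ) {f g : PowerSeries R} (hf : CC f) (hg : CC g) : sg k (f * g) = sg k f * sg k g := by
  unfold sg; split
  · rfl
  · exact inv1_mul hf hg

theorem sg_mul_succ (k : ℕ) {f : PowerSeries R} (hf : CC f) : sg k f * sg (k + 1) f = 1 := by
  unfold sg
  rcases Nat.even_or_odd k with h | h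
  · rw [if_pos h, if_neg (fun h' => (Nat.even_add_one.1 h') h), mul_inv1 hf]
  · rw [if_neg (Nat.not_even_iff_odd.2 h), if_pos (Nat.even_add_one.2 (Nat.not_even_iff_odd.2 h)), mul_comm,
      mul_inv1 hf]

theorem lamSeries_neg_one_pow_mul (k : ℕ) (x : K) :
    lamSeries ((-1 : K) ^ k * x) = sg k (lamSeries x) := by
  unfold sg
  rcases Nat.even_or_odd k with h | h
  · rw [if_pos h, h.neg_one_pow, one_mul]
  · rw [if_neg (Nat.not_even_iff_odd.2 h), h.neg_one_pow, neg_one_mul, lamSeries_neg]

section Construct

variable (P : PosStructure K) (e : K)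

local notation "Ke" => AdjoinRoot (KRR.extPoly P e)
local notation "ι" => AdjoinRoot.of (KRR.extPoly P e)
local notation "ℓ" => AdjoinRoot.root (KRR.extPoly P e)

/-- the series of a monomial -/
def monSer (k : ℕ) (a : K) : PowerSeries Ke := rescale (ℓ ^ k) (PowerSeries.map ι (lamSeries a))

theorem cc_monSer (k : ℕ) (a : K) : CC (monSer P e k a) :=
  cc_rescale' ((cc_lamSeries a).map _) _

theorem monSer_zero (k : ℕ) : monSer P e k 0 = 1 := by
  rw [monSer, lamSeries_zero, map_one, map_one]

/-- the series of a polynomial -/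
def polSer (q : Polynomial K) : PowerSeries Ke :=
  ∏ k ∈ range (q.natDegree + 1), monSer P e k (q.coeff k)

theorem polSer_eq (q : Polynomial K) {N : ℕ} (hN : q.natDegree < N) :
    polSer P e q = ∏ k ∈ range N, monSer P e k (q.coeff k) := by
  refine Finset.prod_subset (Finset.range_subset_range.2 hN) fun k _ hk => ?_
  rw [Polynomial.coeff_eq_zero_of_natDegree_lt (by simpa [Finset.mem_range] using hk), monSer_zero]

theorem cc_polSer (q : Polynomial K) : CC (polSer P e q) := by
  show PowerSeries.constantCoeff _ = 1
  rw [polSer, map_prod]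
  exact Finset.prod_eq_one fun k _ => cc_monSer P e k _

theorem polSer_add (p q : Polynomial K) : polSer P e (p + q) = polSer P e p * polSer P e q := by
  set N := p.natDegree + q.natDegree + 1
  rw [polSer_eq P e (p + q) (N := N) ((Polynomial.natDegree_add_le p q).trans_lt (by omega)),
    polSer_eq P e p (N := N) (by omega), polSer_eq P e q (N := N) (by omega), ← Finset.prod_mul_distrib]
  refine Finset.prod_congr rfl fun k _ => ?_
  rw [Polynomial.coeff_add, monSer, monSer, monSer, lamSeries_add, map_mul, map_mul]

theorem polSer_zero : polSer P e 0 = 1 := by simp [polSer, monSer_zero]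

theorem polSer_monomial (k : ℕ) (a : K) : polSer P e (Polynomial.monomial k a) = monSer P e k a := by
  rw [polSer_eq P e _ (N := k + 1) (Nat.lt_succ_of_le (Polynomial.natDegree_monomial_le a)),
    Finset.prod_eq_single k]
  · simp
  · intro b _ hb
    rw [Polynomial.coeff_monomial_of_ne _ hb, monSer_zero]
  · intro h; exact absurd (Finset.mem_range.2 (Nat.lt_succ_self k)) h

theorem polSer_sum {ξ : Type*} (s : Finset ξ) (g : ξ → Polynomial K) :
    polSer P e (∑ i ∈ s, g i) = ∏ i ∈ s, polSer P e (g i) := by
  classical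
  induction s using Finset.induction with
  | empty => simp [polSer_zero]
  | @insert a s ha ih => rw [Finset.sum_insert ha, Finset.prod_insert ha, polSer_add, ih]

theorem coeff_one_polSer (q : Polynomial K) : coeff 1 (polSer P e q) = AdjoinRoot.mk (KRR.extPoly P e) q := by
  induction q using Polynomial.induction_on' with
  | add p q hp hq =>
    rw [polSer_add, PowerSeries.coeff_one_mul, hp, hq,
      show PowerSeries.constantCoeff (polSer P e p) = 1 from cc_polSer P e p,
      show PowerSeries.constantCoeff (polSer P e q) = 1 from cc_polSer P e q, mul_one, mul_one, map_add]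
  | monomial k a =>
    rw [polSer_monomial, monSer, PowerSeries.coeff_rescale, PowerSeries.coeff_map, coeff_lamSeries,
      LambdaOps.lam_one, pow_one, ← Polynomial.C_mul_X_pow_eq_monomial, map_mul, map_pow, AdjoinRoot.mk_C,
      AdjoinRoot.mk_X, mul_comm]

variable {P e}

theorem polSer_mul (hK : HasSplitting K P) (p q : Polynomial K) :
    polSer P e (p * q) = Pser (polSer P e p) (polSer P e q) := by
  induction p using Polynomial.induction_on' with
  | add p p' hp hp' =>
    rw [add_mul, polSer_add, hp, hp', polSer_add,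
      Pser_mul_left (cc_polSer P e p) (cc_polSer P e p') (cc_polSer P e q)]
  | monomial k a =>
    induction q using Polynomial.induction_on' with
    | add q q' hq hq' =>
      rw [mul_add, polSer_add, hq, hq', polSer_add,
        Pser_comm (cc_polSer P e _) ((cc_polSer P e q).mul (cc_polSer P e q')),
        Pser_mul_left (cc_polSer P e q) (cc_polSer P e q') (cc_polSer P e _),
        Pser_comm (cc_polSer P e q) (cc_polSer P e _), Pser_comm (cc_polSer P e q') (cc_polSer P e _)]
    | monomial l b =>
      rw [Polynomial.monomial_mul_monomial, polSer_monomial, polSer_monomial, polSer_monomial, monSer, monSer,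
        monSer, Pser_rescale ((cc_lamSeries a).map _) ((cc_lamSeries b).map _), ← map_Pser,
        ← Special.lamSeries_mul (isSpecial_of_splitting hK), pow_add]

variable (he : e ∈ P.pos) {n : ℕ} (hn : P.aug e = n + 1)

variable (P e) in
/-- the series of `e - ℓ` -/
def restSer : PowerSeries Ke := inv1 (lin ℓ) * PowerSeries.map ι (lamSeries e)

theorem lin_mul_restSer : lin ℓ * restSer P e = PowerSeries.map ι (lamSeries e) := by
  rw [restSer, ← mul_assoc, mul_inv1 (cc_lin _), one_mul]

include he hn in
theorem restSer_bound (i : ℕ) (hi : n < i) : coeff i (restSer P e) = 0 := by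
  have hm : P.aug e = ((n + 1 : ℕ) : ℤ) := by rw [hn]; push_cast; ring
  rw [restSer, inv1_lin, mul_comm, PowerSeries.coeff_mul, Finset.Nat.sum_antidiagonal_eq_sum_range_succ
    (fun a b => coeff a (PowerSeries.map ι (lamSeries e)) * coeff b (PowerSeries.mk fun k => (-ℓ) ^ k))]
  simp only [PowerSeries.coeff_map, coeff_lamSeries, PowerSeries.coeff_mk]
  rw [← Finset.sum_subset (Finset.range_subset_range.2 (show n + 1 + 1 ≤ i + 1 by omega))]
  · have h := congrArg (fun z => (-ℓ) ^ (i - (n + 1)) * (-1 : Ke) ^ (n + 1) * z) (extPoly_root P e hm)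
    simp only [mul_zero, Finset.mul_sum] at h
    rw [← h]
    refine Finset.sum_congr rfl fun j hj => ?_
    have hj' := Finset.mem_range_succ_iff.1 hj
    rw [Algebra.smul_def, map_mul, map_pow, map_neg, map_one, AdjoinRoot.algebraMap_eq,
      show i - j = (i - (n + 1)) + (n + 1 - j) by omega, pow_add, neg_pow ℓ (n + 1 - j)]
    have hsign : (-1 : Ke) ^ (n + 1 - j) = (-1) ^ (n + 1) * (-1) ^ j := by
      rw [← pow_add, show n + 1 + j = (n + 1 - j) + 2 * j by omega, pow_add, pow_mul, neg_one_sq, one_pow, mul_one]
    rw [hsign]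
    ring
  · intro j _ hj
    rw [P.lam_eq_zero e he j (by rw [hm]; exact_mod_cast not_le.1 fun h => hj (Finset.mem_range_succ_iff.2 h)),
      map_zero, zero_mul]

include he hn in
theorem polSer_extPoly (hK : HasSplitting K P) : polSer P e (KRR.extPoly P e) = 1 := by
  have hA := isSpecial_of_splitting hK
  set g := restSer P e with hg
  have hgc : CC g := (cc_inv1 _).mul ((cc_lamSeries e).map _)
  obtain ⟨hQ, hQ0⟩ := Qser_lin_mul n ℓ g hgc (restSer_bound he hn)
  let A : ℕ → PowerSeries Ke := fun i => rescale (ℓ ^ (n + 1 - i)) (Qser i g)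
  have hAc : ∀ i, CC (A i) := fun i => cc_rescale' (cc_Qser i g) _
  show polSer P e (∑ i ∈ Finset.range ((P.aug e).toNat + 1),
    Polynomial.C ((-1 : K) ^ i * LambdaOps.lam i e) * Polynomial.X ^ ((P.aug e).toNat - i)) = 1
  rw [polSer_sum, show (P.aug e).toNat = n + 1 by omega]
  simp only [Polynomial.C_mul_X_pow_eq_monomial, polSer_monomial, monSer, lamSeries_neg_one_pow_mul]
  have hterm : ∀ i, rescale (ℓ ^ (n + 1 - i)) (PowerSeries.map ι (sg i (lamSeries (LambdaOps.lam i e)))) =
      sg i (rescale (ℓ ^ (n + 1 - i)) (Qser i (lin ℓ * g))) := by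
    intro i
    unfold sg
    split
    · rw [Special.lamSeries_lam hA, map_Qser, hg, lin_mul_restSer]
    · rw [map_inv1 (cc_lamSeries _), rescale_inv1 ((cc_lamSeries _).map _), Special.lamSeries_lam hA, map_Qser, hg,
        lin_mul_restSer]
  simp only [hterm]
  have key : ∀ k, k ≤ n + 1 →
      ∏ i ∈ range (k + 1), sg i (rescale (ℓ ^ (n + 1 - i)) (Qser i (lin ℓ * g))) = sg k (A k) := by
    intro k hk
    induction k with
    | zero => simp [A, sg, Qser_zero]
    | succ k ih =>
      rw [Finset.prod_range_succ, ih (by omega), hQ, map_mul, PowerSeries.rescale_rescale, ← pow_succ',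
        show n + 1 - (k + 1) + 1 = n + 1 - k by omega]
      show sg k (A k) * sg (k + 1) (A k * A (k + 1)) = _
      rw [sg_mul _ (hAc k) (hAc (k + 1)), ← mul_assoc, sg_mul_succ _ (hAc k), one_mul]
  rw [key (n + 1) le_rfl]
  have hA1 : A (n + 1) = 1 := by simp only [A]; rw [hQ0 (n + 1) (by omega), map_one]
  rw [hA1]
  unfold sg
  split
  · rfl
  · exact inv1_eq_of_mul_eq_one CC.one (one_mul 1)

variable (P e) in
/-- the generating series on the extension -/
def extSer (z : Ke) : PowerSeries Ke :=
  polSer P e (AdjoinRoot.modByMonicHom (monic_extPoly P e) z)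

theorem extSer_add (x y : Ke) : extSer P e (x + y) = extSer P e x * extSer P e y := by
  rw [extSer, map_add, polSer_add]; rfl

theorem coeff_one_extSer (x : Ke) : coeff 1 (extSer P e x) = x := by
  rw [extSer, coeff_one_polSer]
  exact AdjoinRoot.mk_leftInverse (monic_extPoly P e) x

variable (P e) in
/-- λ-operations on the elementary extension -/
@[reducible] def extOps : LambdaOps Ke :=
  ofSeries (extSer P e) (fun _ => cc_polSer P e _) coeff_one_extSer extSer_add

include he hn in
theorem extSer_mk (hK : HasSplitting K P) (q : Polynomial K) :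
    extSer P e (AdjoinRoot.mk _ q) = polSer P e q := by
  rw [extSer, AdjoinRoot.modByMonicHom_mk]
  conv_rhs => rw [← Polynomial.modByMonic_add_div q (KRR.extPoly P e)]
  rw [polSer_add, polSer_mul hK, polSer_extPoly he hn hK, Pser_one_left (cc_polSer P e _), mul_one]

include he hn in
theorem extSer_of (hK : HasSplitting K P) (a : K) : extSer P e (ι a) = PowerSeries.map ι (lamSeries a) := by
  rw [← AdjoinRoot.mk_C, extSer_mk he hn hK, ← Polynomial.monomial_zero_left, polSer_monomial, monSer,
    pow_zero, PowerSeries.rescale_one]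
  rfl

include he hn in
theorem extSer_root (hK : HasSplitting K P) : extSer P e ℓ = lin ℓ := by
  have h := extSer_mk he hn hK Polynomial.X
  rw [AdjoinRoot.mk_X] at h
  rw [h, ← Polynomial.monomial_one_one_eq_X, polSer_monomial, monSer,
    pow_one, lamSeries_eq_lin (pos_lam_one P), map_lin, map_one, rescale_lin, mul_one]

include he hn in
theorem extSer_mul (hK : HasSplitting K P) (x y : Ke) :
    extSer P e (x * y) = Pser (extSer P e x) (extSer P e y) := by
  obtain ⟨p, rfl⟩ := AdjoinRoot.mk_surjective x
  obtain ⟨q, rfl⟩ := AdjoinRoot.mk_surjective y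
  rw [← map_mul, extSer_mk he hn hK, extSer_mk he hn hK, extSer_mk he hn hK, polSer_mul hK]

end Construct

end Groth.Agent.Lambda
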