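import Groth.Prelude.Def_KRR
import Groth.Agent.Lambda.PserIdent
import Groth.Agent.Lambda.Elementary
import Mathlib.LinearAlgebra.Lagrange
import Mathlib.RingTheory.Polynomial.Resultant.Basic
import Mathlib.RingTheory.Polynomial.Vieta

/-!
# The universal identity behind Adams–Riemann–Roch for an elementary projection
-/

noncomputable section

open Finset
open PowerSeries (coeff rescale)

namespace Groth.Agent.Lambda

universe u v

variable {C : Type u} [CommRing C] {D : Type v} [CommRing D]

/-- the `i`-th complete symmetric value of a series -/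
def sigS (F : PowerSeries C) (i : ℕ) : C := coeff i (inv1 (rescale (-1) F))

/-- the polynomial with the given elementary symmetric values -/
def polP (m : ℕ) (F : PowerSeries C) : Polynomial C :=
  ∑ i ∈ range (m + 1), Polynomial.C ((-1) ^ i * coeff i F) * Polynomial.X ^ (m - i)

/-- the inverse of the root, given an inverse `c` of the top coefficient -/
def linvP (r : ℕ) (F : PowerSeries C) (c : C) : Polynomial C :=
  Polynomial.C ((-1) ^ r * c) * ∑ i ∈ range (r + 1), Polynomial.C ((-1) ^ i * coeff i F) * Polynomial.X ^ (r - i)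

/-- Bott's class of the twisted element -/
def thetaP (j r : ℕ) (F : PowerSeries C) (c : C) : Polynomial C :=
  MvPolynomial.aeval (fun k : Fin (r + 1) => Polynomial.C (coeff (k.1 + 1) F) * linvP r F c ^ (k.1 + 1))
    (KRR.bottPoly j (r + 1))

/-- the functional on polynomials -/
def phi0 (F : PowerSeries C) : Polynomial C →ₗ[C] C :=
  Polynomial.lsum fun i => LinearMap.toSpanSingleton C C (sigS F i)

theorem phi0_monomial (F : PowerSeries C) (i : ℕ) (a : C) :
    phi0 F (Polynomial.C a * Polynomial.X ^ i) = a * sigS F i := by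
  rw [Polynomial.C_mul_X_pow_eq_monomial, phi0, Polynomial.lsum_apply, Polynomial.sum_monomial_index]
  · simp [LinearMap.toSpanSingleton_apply]
  · simp

theorem phi0_X_pow (F : PowerSeries C) (i : ℕ) : phi0 F (Polynomial.X ^ i) = sigS F i := by
  simpa using phi0_monomial F i 1

theorem map_sigS (h : C →+* D) {F : PowerSeries C} (hF : CC F) (i : ℕ) :
    h (sigS F i) = sigS (PowerSeries.map h F) i := by
  rw [sigS, sigS, ← PowerSeries.coeff_map, map_inv1 (cc_rescale' hF _), map_rescale', map_neg, map_one]

theorem map_phi0 (h : C →+* D) {F : PowerSeries C} (hF : CC F) (g : Polynomial C) :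
    h (phi0 F g) = phi0 (PowerSeries.map h F) (g.map h) := by
  induction g using Polynomial.induction_on' with
  | add p q hp hq => rw [map_add, map_add, hp, hq, Polynomial.map_add, map_add]
  | monomial n a =>
    rw [← Polynomial.C_mul_X_pow_eq_monomial, phi0_monomial, Polynomial.map_mul, Polynomial.map_C,
      Polynomial.map_pow, Polynomial.map_X, phi0_monomial, map_mul, map_sigS h hF]

theorem map_polP (h : C →+* D) (m : ℕ) (F : PowerSeries C) :
    (polP m F).map h = polP m (PowerSeries.map h F) := by
  simp [polP, Polynomial.map_sum, PowerSeries.coeff_map]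

theorem map_linvP (h : C →+* D) (r : ℕ) (F : PowerSeries C) (c : C) :
    (linvP r F c).map h = linvP r (PowerSeries.map h F) (h c) := by
  simp [linvP, Polynomial.map_sum, PowerSeries.coeff_map]

theorem map_thetaP (h : C →+* D) (j r : ℕ) (F : PowerSeries C) (c : C) :
    (thetaP j r F c).map h = thetaP j r (PowerSeries.map h F) (h c) := by
  show Polynomial.mapRingHom h (thetaP j r F c) = _
  rw [thetaP, hom_aeval', thetaP]
  congr 2
  funext k
  simp [map_linvP, PowerSeries.coeff_map]

theorem X_mul_linvP (r : ℕ) {F : PowerSeries C} {c : C} (hc : c * coeff (r + 1) F = 1) :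
    Polynomial.X * linvP r F c = 1 + Polynomial.C ((-1) ^ r * c) * polP (r + 1) F := by
  rw [linvP, polP, Finset.sum_range_succ _ (r + 1), Nat.sub_self, pow_zero, mul_one, mul_left_comm,
    mul_add (Polynomial.C ((-1) ^ r * c))]
  have hs : Polynomial.X * (∑ i ∈ range (r + 1), Polynomial.C ((-1) ^ i * coeff i F) * Polynomial.X ^ (r - i)) =
      ∑ i ∈ range (r + 1), Polynomial.C ((-1) ^ i * coeff i F) * Polynomial.X ^ (r + 1 - i) := by
    rw [Finset.mul_sum]
    refine Finset.sum_congr rfl fun i hi => ?_
    rw [show r + 1 - i = r - i + 1 by have := Finset.mem_range.1 hi; omega, pow_succ]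
    ring
  rw [hs, ← map_mul Polynomial.C, show (-1) ^ r * c * ((-1) ^ (r + 1) * coeff (r + 1) F) =
    ((-1 : C) ^ r * (-1) ^ (r + 1)) * (c * coeff (r + 1) F) by ring, hc, mul_one, ← pow_add,
    show r + (r + 1) = 2 * r + 1 by omega, pow_succ, pow_mul, neg_one_sq, one_pow, one_mul, map_neg, map_one]
  ring

theorem phi0_polP_mul (m : ℕ) (hm : 1 ≤ m) {F : PowerSeries C} (hF : CC F)
    (hb : ∀ i, m < i → coeff i F = 0) (q : Polynomial C) : phi0 F (q * polP m F) = 0 := by
  induction q using Polynomial.induction_on' with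
  | add p q hp hq => rw [add_mul, map_add, hp, hq, add_zero]
  | monomial n a =>
    rw [← Polynomial.C_mul_X_pow_eq_monomial, polP, Finset.mul_sum, map_sum]
    have h0 := congrArg (coeff (n + m)) (mul_inv1 (cc_rescale' hF (-1)))
    rw [PowerSeries.coeff_mul, Finset.Nat.sum_antidiagonal_eq_sum_range_succ
      (fun i k => coeff i (rescale (-1) F) * coeff k (inv1 (rescale (-1) F))), PowerSeries.coeff_one,
      if_neg (by omega)] at h0
    rw [← Finset.sum_subset (Finset.range_subset_range.2 (show m + 1 ≤ n + m + 1 by omega))] at h0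
    · rw [show (0 : C) = a * 0 from (mul_zero a).symm, ← h0, Finset.mul_sum]
      refine Finset.sum_congr rfl fun i hi => ?_
      rw [show Polynomial.C a * Polynomial.X ^ n * (Polynomial.C ((-1) ^ i * coeff i F) * Polynomial.X ^ (m - i)) =
        Polynomial.C (a * ((-1) ^ i * coeff i F)) * Polynomial.X ^ (n + (m - i)) by simp only [map_mul, pow_add]; ring,
        phi0_monomial, PowerSeries.coeff_rescale, sigS,
        show n + m - i = n + (m - i) by have := Finset.mem_range.1 hi; omega]
      ring
    · intro i _ hi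
      rw [PowerSeries.coeff_rescale, hb i (by simpa using hi), mul_zero, zero_mul]

section Field

variable {E : Type v} [Field E] {m : ℕ} (x : Fin m → E)

/-- the denominator in Lagrange's formula -/
def den (a : Fin m) : E := ∏ b ∈ (univ : Finset (Fin m)).erase a, (x a - x b)

theorem den_ne_zero (hx : Function.Injective x) (a : Fin m) : den x a ≠ 0 :=
  Finset.prod_ne_zero_iff.2 fun b hb => sub_ne_zero.2 fun h => (Finset.mem_erase.1 hb).1 (hx h).symm

/-- the series with the given roots -/
def rootSer : PowerSeries E := prodLin ((univ : Finset (Fin m)).val.map x)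

theorem eval_polP_rootSer (a : Fin m) : (polP m (rootSer x)).eval (x a) = 0 := by
  have h := congrArg (Polynomial.eval (x a))
    (Multiset.prod_X_add_C_eq_sum_esymm (((univ : Finset (Fin m)).val.map x).map Neg.neg))
  rw [Polynomial.eval_multiset_prod, Multiset.map_map, Multiset.map_map, Multiset.card_map,
    Multiset.card_map] at h
  rw [Multiset.prod_eq_zero] at h
  · refine Eq.trans ?_ h.symm
    rw [show Multiset.card (univ : Finset (Fin m)).val = m by simp]
    simp only [polP, rootSer, Polynomial.eval_finsetSum, coeff_prodLin, Multiset.esymm_neg]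
  · exact Multiset.mem_map.2 ⟨x a, Multiset.mem_map.2 ⟨a, Finset.mem_univ a, rfl⟩, by simp⟩

theorem lagrange_pow (hx : Function.Injective x) (hm : 1 ≤ m) (n : ℕ) (hn : n < m) :
    ∑ a : Fin m, x a ^ n / den x a = if n + 1 = m then 1 else 0 := by
  have hd : (Polynomial.X ^ n : Polynomial E).degree < ((univ : Finset (Fin m)).card : WithBot ℕ) := by
    rw [Polynomial.degree_X_pow, Finset.card_univ, Fintype.card_fin]; exact_mod_cast hn
  have h := Lagrange.coeff_eq_sum (hx.injOn) hd
  rw [Polynomial.coeff_X_pow, Finset.card_univ, Fintype.card_fin] at h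
  simp only [Polynomial.eval_pow, Polynomial.eval_X] at h
  rw [show (if n + 1 = m then (1 : E) else 0) = if m - 1 = n then 1 else 0 by
    by_cases hh : n + 1 = m
    · rw [if_pos hh, if_pos (by omega)]
    · rw [if_neg hh, if_neg (by omega)]]
  exact h.symm

theorem sigS_rootSer {r : ℕ} (hr : m = r + 1) (hx : Function.Injective x) (i : ℕ) :
    sigS (rootSer x) i = ∑ a : Fin m, x a ^ (i + r) / den x a := by
  let G : PowerSeries E := PowerSeries.mk fun n => ∑ a : Fin m, x a ^ (n + r) / den x a
  have hG : inv1 (rescale (-1) (rootSer x)) = G := by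
    refine inv1_eq_of_mul_eq_one (cc_rescale' (cc_prodLin _) _) ?_
    ext n
    rw [PowerSeries.coeff_mul, Finset.Nat.sum_antidiagonal_eq_sum_range_succ
      (fun i k => coeff i (rescale (-1) (rootSer x)) * coeff k G), PowerSeries.coeff_one]
    cases n with
    | zero =>
      rw [Finset.sum_range_one, Nat.sub_zero, (cc_rescale' (show CC (rootSer x) from cc_prodLin _) (-1 : E)).coeff_zero, one_mul, if_pos rfl]
      show coeff 0 G = 1
      rw [PowerSeries.coeff_mk, Nat.zero_add, lagrange_pow x hx (by omega) r (by omega), if_pos hr.symm]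
    | succ n =>
      rw [if_neg (Nat.succ_ne_zero n)]
      have hb : ∀ i, m < i → coeff i (rootSer x) = 0 := fun i hi => by
        rw [rootSer, coeff_prodLin, esymm_of_card_lt _ i (by simpa using hi)]
      let T : ℕ → E := fun k => (-1) ^ k * coeff k (rootSer x) * ∑ a : Fin m, x a ^ (n + 1 + r - k) / den x a
      calc _ = ∑ k ∈ range (n + 1 + 1), T k := Finset.sum_congr rfl fun k hk => by
            rw [PowerSeries.coeff_rescale, PowerSeries.coeff_mk,
              show n + 1 - k + r = n + 1 + r - k by have := Finset.mem_range.1 hk; omega]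
        _ = ∑ k ∈ range (m + 1), T k := by
            rcases le_total (n + 1 + 1) (m + 1) with hle | hle
            · refine Finset.sum_subset (Finset.range_subset_range.2 hle) fun k hk hk' => ?_
              simp only [Finset.mem_range] at hk hk'
              simp only [T]
              rw [lagrange_pow x hx (by omega) _ (by omega), if_neg (by omega), mul_zero]
            · refine (Finset.sum_subset (Finset.range_subset_range.2 hle) fun k hk hk' => ?_).symm
              simp only [Finset.mem_range] at hk hk'
              simp only [T]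
              rw [hb k (by omega), mul_zero, zero_mul]
        _ = ∑ a : Fin m, x a ^ n * (polP m (rootSer x)).eval (x a) / den x a := by
            simp only [T, polP, Polynomial.eval_finsetSum, Polynomial.eval_mul, Polynomial.eval_C,
              Polynomial.eval_pow, Polynomial.eval_X, div_eq_mul_inv, Finset.mul_sum, Finset.sum_mul]
            rw [Finset.sum_comm]
            refine Finset.sum_congr rfl fun a _ => Finset.sum_congr rfl fun k hk => ?_
            rw [show n + 1 + r - k = n + (m - k) by have := Finset.mem_range.1 hk; omega, pow_add]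
            ring
        _ = 0 := Finset.sum_eq_zero fun a _ => by rw [eval_polP_rootSer, mul_zero, zero_div]
  rw [sigS, hG, PowerSeries.coeff_mk]

theorem phi0_rootSer {r : ℕ} (hr : m = r + 1) (hx : Function.Injective x) (g : Polynomial E) :
    phi0 (rootSer x) g = ∑ a : Fin m, g.eval (x a) * x a ^ r / den x a := by
  induction g using Polynomial.induction_on' with
  | add p q hp hq =>
    rw [map_add, hp, hq, ← Finset.sum_add_distrib]
    exact Finset.sum_congr rfl fun a _ => by rw [Polynomial.eval_add, add_mul, add_div]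
  | monomial n a =>
    rw [← Polynomial.C_mul_X_pow_eq_monomial, phi0_monomial, sigS_rootSer x hr hx, Finset.mul_sum]
    refine Finset.sum_congr rfl fun b _ => ?_
    simp only [Polynomial.eval_mul, Polynomial.eval_C, Polynomial.eval_pow, Polynomial.eval_X, pow_add]
    ring

theorem eval_thetaP_rootSer {j r : ℕ} (x : Fin (r + 1) → E) (hx0 : ∀ a, x a ≠ 0) {c : E}
    (hc : c * coeff (r + 1) (rootSer x) = 1) (a : Fin (r + 1)) :
    (thetaP j r (rootSer x) c).eval (x a) = ∏ b, ∑ k ∈ range j, (x b / x a) ^ k := by
  have hl : (linvP r (rootSer x) c).eval (x a) = (x a)⁻¹ := by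
    have h := congrArg (Polynomial.eval (x a)) (X_mul_linvP r hc)
    simp only [Polynomial.eval_mul, Polynomial.eval_X, Polynomial.eval_add, Polynomial.eval_one,
      eval_polP_rootSer, mul_zero, add_zero] at h
    exact eq_inv_of_mul_eq_one_right h
  let y : Fin (r + 1) → E := fun b => x b / x a
  have hval : ∀ k : Fin (r + 1), (Polynomial.C (coeff (k.1 + 1) (rootSer x)) * linvP r (rootSer x) c ^ (k.1 + 1)).eval (x a) =
      ((univ : Finset (Fin (r + 1))).val.map y).esymm (k.1 + 1) := by
    intro k
    rw [Polynomial.eval_mul, Polynomial.eval_C, Polynomial.eval_pow, hl, ← coeff_prodLin]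
    have : (univ : Finset (Fin (r + 1))).val.map y =
        ((univ : Finset (Fin (r + 1))).val.map x).map ((x a)⁻¹ * ·) := by
      rw [Multiset.map_map]
      exact Multiset.map_congr rfl fun b _ => by simp [y, div_eq_inv_mul]
    rw [this, ← rescale_prodLin, PowerSeries.coeff_rescale, rootSer, mul_comm]
  show Polynomial.evalRingHom (x a) (thetaP j r (rootSer x) c) = _
  rw [thetaP, hom_aeval']
  simp only [Polynomial.coe_evalRingHom, hval]
  have h2 : MvPolynomial.aeval y ((MvPolynomial.esymmAlgEquiv (Fin (r + 1)) ℤ (Fintype.card_fin _)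
      (KRR.bottPoly j (r + 1)) : MvPolynomial (Fin (r + 1)) ℤ)) = ∏ b, ∑ k ∈ range j, y b ^ k := by
    rw [KRR.bottPoly, AlgEquiv.apply_symm_apply]
    simp [KRR.bottSym]
  rw [← h2]
  show _ = MvPolynomial.aeval y (MvPolynomial.esymmAlgHom (Fin (r + 1)) ℤ (r + 1) (KRR.bottPoly j (r + 1))).val
  rw [MvPolynomial.esymmAlgHom_apply, MvPolynomial.aeval_eq_bind₁, MvPolynomial.aeval_bind₁]
  congr 2
  funext k
  rw [MvPolynomial.aeval_esymm_eq_multiset_esymm]

theorem field_identity {j r : ℕ} (hj : 1 ≤ j) (x : Fin (r + 1) → E)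
    (hxj : Function.Injective fun a => x a ^ j) (hx0 : ∀ a, x a ≠ 0) {c Dv : E}
    (hc : c * coeff (r + 1) (rootSer x) = 1) {p q : Polynomial E}
    (h : p * polP (r + 1) (rootSer x) + q * thetaP j r (rootSer x) c = Polynomial.C Dv) (i : ℕ) :
    (j : E) * phi0 (rootSer x) (q * Polynomial.X ^ (i * j)) = Dv * sigS (Rser j (rootSer x)) i := by
  have hx : Function.Injective x := fun a b hab => hxj (by simp only [hab])
  have hR : Rser j (rootSer x) = rootSer fun a => x a ^ j := by
    rw [rootSer, Rser_prodLin hj, rootSer, Multiset.map_map]; rfl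
  rw [hR, sigS_rootSer _ rfl hxj, phi0_rootSer x rfl hx, Finset.mul_sum, Finset.mul_sum]
  refine Finset.sum_congr rfl fun a _ => ?_
  have hd := den_ne_zero _ hxj a
  have hd' := den_ne_zero x hx a
  have hq := congrArg (Polynomial.eval (x a)) h
  simp only [Polynomial.eval_add, Polynomial.eval_mul, eval_polP_rootSer, mul_zero, zero_add,
    Polynomial.eval_C, eval_thetaP_rootSer x hx0 hc] at hq
  have hprod : (∏ b, ∑ k ∈ range j, (x b / x a) ^ k) * den x a * x a ^ ((j - 1) * r) =
      (j : E) * den (fun b => x b ^ j) a := by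
    rw [← Finset.mul_prod_erase univ _ (Finset.mem_univ a), div_self (hx0 a)]
    simp only [one_pow, Finset.sum_const, Finset.card_range, nsmul_one]
    have hpw : x a ^ ((j - 1) * r) = ∏ _b ∈ (univ : Finset (Fin (r + 1))).erase a, x a ^ (j - 1) := by
      rw [Finset.prod_const, Finset.card_erase_of_mem (Finset.mem_univ a), Finset.card_univ, Fintype.card_fin,
        Nat.add_sub_cancel, ← pow_mul]
    rw [hpw, mul_assoc, mul_assoc]
    congr 1
    rw [den, den, ← Finset.prod_mul_distrib, ← Finset.prod_mul_distrib]
    refine Finset.prod_congr rfl fun b _ => ?_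
    obtain ⟨l, rfl⟩ : ∃ l, j = l + 1 := ⟨j - 1, by omega⟩
    have hg := geom_sum_mul_neg (x b / x a) (l + 1)
    have h0 : (1 - x b / x a) * x a = x a - x b := by rw [sub_mul, one_mul, div_mul_cancel₀ _ (hx0 a)]
    have h1 : (x b / x a) ^ (l + 1) * x a ^ (l + 1) = x b ^ (l + 1) := by
      rw [← mul_pow, div_mul_cancel₀ _ (hx0 a)]
    rw [Nat.add_sub_cancel, ← h0]
    show _ = x a ^ (l + 1) - x b ^ (l + 1)
    calc (∑ k ∈ range (l + 1), (x b / x a) ^ k) * ((1 - x b / x a) * x a * x a ^ l)
        = ((∑ k ∈ range (l + 1), (x b / x a) ^ k) * (1 - x b / x a)) * x a ^ (l + 1) := by ring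
      _ = _ := by rw [hg, sub_mul, one_mul, h1]
  rw [Polynomial.eval_mul, Polynomial.eval_pow, Polynomial.eval_X, ← mul_div_assoc, ← mul_div_assoc,
    div_eq_div_iff hd' hd, ← hq]
  have e : (x a ^ j) ^ (i + r) = x a ^ (i * j) * (x a ^ ((j - 1) * r) * x a ^ r) := by
    rw [← pow_mul, ← pow_add, ← pow_add]
    congr 1
    obtain ⟨l, rfl⟩ : ∃ l, j = l + 1 := ⟨j - 1, by omega⟩
    rw [Nat.add_sub_cancel]; ring
  show _ = _ * (x a ^ j) ^ (i + r) * den x a
  rw [e]
  linear_combination -(q.eval (x a) * x a ^ (i * j) * x a ^ r) * hprod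

end Field

/-! ### the universal ring -/

/-- coefficient ring of the universal element -/
abbrev UPoly (r : ℕ) := MvPolynomial (Fin (r + 1)) ℤ

/-- the universal ring: the top coefficient inverted -/
abbrev URing (r : ℕ) := Localization.Away (MvPolynomial.X (Fin.last r) : UPoly r)

/-- the universal series -/
def useries (r : ℕ) : PowerSeries (URing r) :=
  PowerSeries.mk fun n => if h : 1 ≤ n ∧ n ≤ r + 1 then algebraMap (UPoly r) (URing r) (MvPolynomial.X ⟨n - 1, by omega⟩)
    else if n = 0 then 1 else 0

/-- inverse of the top coefficient -/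
def uinv (r : ℕ) : URing r := IsLocalization.Away.invSelf (MvPolynomial.X (Fin.last r) : UPoly r)

theorem uinv_mul (r : ℕ) : uinv r * coeff (r + 1) (useries r) = 1 := by
  rw [useries, PowerSeries.coeff_mk, dif_pos ⟨by omega, le_rfl⟩, mul_comm]
  exact IsLocalization.Away.mul_invSelf (MvPolynomial.X (Fin.last r) : UPoly r)

theorem useries_map (r : ℕ) (h : URing r →+* C) {F : PowerSeries C} (hF : CC F)
    (hb : ∀ i, r + 1 < i → coeff i F = 0)
    (hh : ∀ k : Fin (r + 1), h (algebraMap (UPoly r) (URing r) (MvPolynomial.X k)) = coeff (k.1 + 1) F) :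
    PowerSeries.map h (useries r) = F := by
  ext n
  rw [PowerSeries.coeff_map, useries, PowerSeries.coeff_mk]
  split_ifs with h1 h2
  · rw [hh]
    exact congrArg (fun z => coeff z F) (by show n - 1 + 1 = n; omega)
  · rw [h2, map_one, hF.coeff_zero]
  · rw [map_zero, hb n (by omega)]

theorem cc_useries (r : ℕ) : CC (useries r) := by
  show PowerSeries.constantCoeff _ = 1
  rw [← PowerSeries.coeff_zero_eq_constantCoeff_apply]
  simp [useries]

theorem universal_identity {j r : ℕ} (hj : 1 ≤ j) {Dv : URing r} {p q : Polynomial (URing r)}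
    (h : p * polP (r + 1) (useries r) + q * thetaP j r (useries r) (uinv r) = Polynomial.C Dv) (i : ℕ) :
    (j : URing r) * phi0 (useries r) (q * Polynomial.X ^ (i * j)) = Dv * sigS (Rser j (useries r)) i := by
  let W := MvPolynomial (Fin (r + 1)) ℤ
  let E := FractionRing W
  let x : Fin (r + 1) → E := fun a => algebraMap W E (MvPolynomial.X a)
  let θ : UPoly r →+* E := (algebraMap W E).comp
    ((MvPolynomial.symmetricSubalgebra (Fin (r + 1)) ℤ).val.comp
      (MvPolynomial.esymmAlgHom (Fin (r + 1)) ℤ (r + 1))).toRingHom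
  have hθ : Function.Injective θ := (IsFractionRing.injective W E).comp
    (Subtype.val_injective.comp (MvPolynomial.esymmAlgHom_injective ℤ (by simp)))
  have hθX : ∀ k : Fin (r + 1), θ (MvPolynomial.X k) = coeff (k.1 + 1) (rootSer x) := by
    intro k
    simp only [θ, RingHom.comp_apply, MvPolynomial.esymmAlgHom, AlgHom.toRingHom_eq_coe, RingHom.coe_coe,
      AlgHom.comp_apply, MvPolynomial.aeval_X, Subalgebra.coe_val, rootSer, coeff_prodLin]
    rw [← MvPolynomial.aeval_X_left_apply (MvPolynomial.esymm (Fin (r + 1)) ℤ (k.1 + 1)),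
      MvPolynomial.aeval_esymm_eq_multiset_esymm, map_esymm', Multiset.map_map]
    rfl
  have htop : IsUnit (θ (MvPolynomial.X (Fin.last r))) :=
    (isUnit_iff_ne_zero).2 fun h0 => MvPolynomial.X_ne_zero (Fin.last r) (hθ (h0.trans (map_zero θ).symm))
  let η : URing r →+* E := IsLocalization.Away.lift (MvPolynomial.X (Fin.last r)) htop
  have hηθ : ∀ z, η (algebraMap (UPoly r) (URing r) z) = θ z := fun z => IsLocalization.Away.lift_eq _ htop z
  have hη : Function.Injective η := by
    rw [injective_iff_map_eq_zero]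
    intro z hz
    obtain ⟨n, w, hw⟩ := IsLocalization.Away.surj (MvPolynomial.X (Fin.last r) : UPoly r) z
    have h0 : θ w = 0 := by rw [← hηθ, ← hw, map_mul, hz, zero_mul]
    have hw0 : w = 0 := hθ (h0.trans (map_zero θ).symm)
    rw [hw0, map_zero] at hw
    exact ((IsLocalization.Away.algebraMap_isUnit (MvPolynomial.X (Fin.last r) : UPoly r)).pow n).mul_left_eq_zero.1 hw
  have hb : ∀ i, r + 1 < i → coeff i (rootSer x) = 0 := fun i hi => by
    rw [rootSer, coeff_prodLin, esymm_of_card_lt _ i (by simpa using hi)]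
  have hser : PowerSeries.map η (useries r) = rootSer x :=
    useries_map r η (cc_prodLin _) hb fun k => by rw [hηθ, hθX]
  apply hη
  have h' := congrArg (Polynomial.map η) h
  rw [Polynomial.map_add, Polynomial.map_mul, Polynomial.map_mul, Polynomial.map_C, map_polP, map_thetaP, hser] at h'
  rw [map_mul η, map_mul η, map_natCast, map_phi0 η (cc_useries r), map_sigS η (cc_Rser hj _), map_Rser, hser,
    Polynomial.map_mul, Polynomial.map_pow, Polynomial.map_X]
  refine field_identity hj x ?_ ?_ ?_ h' i
  · intro a b hab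
    simp only [x, ← map_pow] at hab
    have h2 := IsFractionRing.injective W E hab
    rw [MvPolynomial.X_pow_eq_monomial, MvPolynomial.X_pow_eq_monomial] at h2
    have h3 := (MvPolynomial.monomial_left_injective (R := ℤ) one_ne_zero) h2
    exact (Finsupp.single_left_inj (show j ≠ 0 by omega)).1 h3
  · intro a h0
    exact MvPolynomial.X_ne_zero a (IsFractionRing.injective W E (h0.trans (map_zero _).symm))
  · rw [← hser, PowerSeries.coeff_map, ← map_mul, uinv_mul, map_one]

/-- the consequence in an arbitrary ring -/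
theorem specialized_identity {j r : ℕ} (hj : 1 ≤ j) {F : PowerSeries C} (hF : CC F)
    (hb : ∀ i, r + 1 < i → coeff i F = 0) {c : C} (hc : c * coeff (r + 1) F = 1)
    (hm : (polP (r + 1) F).natDegree = r + 1 ∧ (polP (r + 1) F).Monic)
    (hcop : IsCoprime (polP (r + 1) F) (thetaP j r F c))
    (hmu : (polP (r + 1) (useries r)).natDegree ≤ r + 1)
    (w : Polynomial C) (hw : polP (r + 1) F ∣ w * thetaP j r F c - 1) (i : ℕ) :
    (j : C) * phi0 F (w * Polynomial.X ^ (i * j)) = sigS (Rser j F) i := by
  have htop : IsUnit (MvPolynomial.aeval (fun k : Fin (r + 1) => coeff (k.1 + 1) F)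
      (MvPolynomial.X (Fin.last r) : UPoly r)) := by
    rw [MvPolynomial.aeval_X, Fin.val_last]
    exact isUnit_iff_exists_inv'.mpr ⟨c, hc⟩
  let η : URing r →+* C := IsLocalization.Away.lift (MvPolynomial.X (Fin.last r))
    (g := (MvPolynomial.aeval (fun k : Fin (r + 1) => coeff (k.1 + 1) F)).toRingHom) htop
  have hser : PowerSeries.map η (useries r) = F := useries_map r η hF hb fun k => by
    rw [IsLocalization.Away.lift_eq _ htop]
    exact MvPolynomial.aeval_X _ _
  have hinv : η (uinv r) = c := by
    have h1 := congrArg η (uinv_mul r)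
    rw [map_mul, map_one, ← PowerSeries.coeff_map, hser] at h1
    calc η (uinv r) = η (uinv r) * (c * coeff (r + 1) F) := by rw [hc, mul_one]
      _ = c := by rw [mul_left_comm, h1, mul_one]
  set Θu := thetaP j r (useries r) (uinv r) with hΘu
  have hTmap : Θu.map η = thetaP j r F c := by rw [hΘu, map_thetaP, hser, hinv]
  obtain ⟨p0, q0, -, -, he⟩ := Polynomial.exists_mul_add_mul_eq_C_resultant (n := Θu.natDegree)
    (polP (r + 1) (useries r)) Θu hmu le_rfl (Or.inl (Nat.succ_ne_zero r))
  have hid := congrArg η (universal_identity (p := p0) (q := q0) hj (by rw [← he]; ring) i)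
  rw [map_mul η, map_mul η, map_natCast, map_phi0 η (cc_useries r), map_sigS η (cc_Rser hj _), map_Rser, hser,
    Polynomial.map_mul, Polynomial.map_pow, Polynomial.map_X] at hid
  have he' := congrArg (Polynomial.map η) he
  rw [Polynomial.map_add, Polynomial.map_mul, Polynomial.map_mul, Polynomial.map_C, map_polP, hser, hTmap] at he'
  set Dv := η (Polynomial.resultant (polP (r + 1) (useries r)) Θu (r + 1) Θu.natDegree) with hDv
  have hDu : IsUnit Dv := by
    rw [hDv, ← Polynomial.resultant_map_map, map_polP, hser, hTmap]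
    obtain ⟨k, hk⟩ : ∃ k, Θu.natDegree = (thetaP j r F c).natDegree + k :=
      ⟨Θu.natDegree - (thetaP j r F c).natDegree, by
        have : (thetaP j r F c).natDegree ≤ Θu.natDegree := hTmap ▸ Polynomial.natDegree_map_le
        omega⟩
    rw [hk, Polynomial.resultant_add_right_deg _ _ _ _ _ le_rfl]
    refine IsUnit.mul ?_ ?_
    · rw [show (polP (r + 1) F).coeff (r + 1) = 1 by have := hm.2.coeff_natDegree; rwa [hm.1] at this]
      exact isUnit_one.pow _
    · have := (Polynomial.isUnit_resultant_iff_isCoprime hm.2).2 hcop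
      rwa [hm.1] at this
  obtain ⟨u, hu⟩ := hw
  have hd : (q0.map η - Polynomial.C Dv * w) * Polynomial.X ^ (i * j) =
      ((-(w * p0.map η) - q0.map η * u) * Polynomial.X ^ (i * j)) * polP (r + 1) F := by
    linear_combination (w * Polynomial.X ^ (i * j)) * he' - (q0.map η * Polynomial.X ^ (i * j)) * hu
  have h0 := phi0_polP_mul (r + 1) (Nat.succ_pos r) hF hb ((-(w * p0.map η) - q0.map η * u) * Polynomial.X ^ (i * j))
  rw [← hd, sub_mul, map_sub, sub_eq_zero, mul_assoc, ← Polynomial.smul_eq_C_mul, map_smul, smul_eq_mul] at h0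
  rw [h0] at hid
  exact hDu.mul_left_cancel (by linear_combination hid)

end Groth.Agent.Lambda
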