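import Groth.Agent.Lambda.Model

/-!
# The free special λ-ring ℤ[γ^k x_g] and the verification principle
-/

noncomputable section

set_option linter.style.haveILetI false
set_option linter.unusedSectionVars false
set_option linter.unusedSimpArgs false

open Finset LambdaRing MvPolynomial

namespace Groth.Agent.Lambda

universe u v

/-- the generator `γ^(k+1)` of the free element `g` -/
structure Gen (σ : Type u) : Type u where
  /-- which free element -/
  idx : σ
  /-- the exponent minus one -/
  lev : ℕ

variable {σ : Type u}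

/-- the free ring -/
abbrev Fr (σ : Type u) := MvPolynomial (Gen σ) ℤ

/-- the weight of `γ^(k+1)` -/
abbrev genW (σ : Type u) : Gen σ → ℕ := fun i => i.lev + 1

/-- variables of the model with `N g` variables for the free element `g` -/
abbrev MI (N : σ → ℕ) : Type u := Σ g : σ, Fin (N g)

/-- the model variables of the block of `g` -/
def block (N : σ → ℕ) (g : σ) : Multiset (MVar (MI N)) :=
  (univ : Finset (Fin (N g))).val.map fun a => ⟨⟨g, a⟩⟩

/-- evaluation in the model: `γ^(k+1) x_g ↦ e_(k+1)(V_g)` -/
def theta (N : σ → ℕ) : Fr σ →ₐ[ℤ] Mod (MI N) :=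
  aeval fun i => ((block N i.idx).map X).esymm (i.lev + 1)

theorem theta_X (N : σ → ℕ) (i : Gen σ) :
    theta N (X i) = ((block N i.idx).map (X : MVar (MI N) → Mod (MI N))).esymm (i.lev + 1) :=
  aeval_X _ _

theorem theta_X_gamma (N : σ → ℕ) (g : σ) (k : ℕ) :
    theta N (X ⟨g, k⟩) = gamma (k + 1) ((block N g).map (X : MVar (MI N) → Mod (MI N))).sum := by
  rw [theta_X, ← coeff_gammaSeries, gammaSeries_sum_X, coeff_prodLin]

/-- A polynomial killed by a model large enough for its variables is zero. -/
theorem eq_zero_of_theta (N : σ → ℕ) (p : Fr σ) (hv : ∀ i ∈ p.vars, i.lev < N i.idx)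
    (h : theta N p = 0) : p = 0 := by
  classical
  apply MvPolynomial.map_injective (algebraMap ℤ (AlgebraicClosure ℚ))
    (Int.cast_injective (α := AlgebraicClosure ℚ))
  rw [map_zero]
  refine MvPolynomial.funext fun c => ?_
  rw [eval_map, map_zero]
  choose V hV using fun g : σ => exists_esymm_eq (N g) (fun k => c ⟨g, k⟩)
  have h0 := congrArg
    (aeval (fun i : MVar (MI N) => V i.idx.1 i.idx.2) : Mod (MI N) →ₐ[ℤ] AlgebraicClosure ℚ) h
  rw [map_zero, theta, ← AlgHom.comp_apply, comp_aeval] at h0
  refine Eq.trans ?_ h0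
  rw [aeval_def]
  refine eval₂Hom_congr' rfl (fun i hi _ => ?_) rfl
  have hk := hv i hi
  have h1 := hV i.idx ⟨i.lev, hk⟩
  rw [show (aeval (fun i : MVar (MI N) => V i.idx.1 i.idx.2) : Mod (MI N) →ₐ[ℤ] AlgebraicClosure ℚ)
      (((block N i.idx).map X).esymm (i.lev + 1)) =
      (aeval (fun i : MVar (MI N) => V i.idx.1 i.idx.2) : Mod (MI N) →ₐ[ℤ] AlgebraicClosure ℚ).toRingHom
      (((block N i.idx).map X).esymm (i.lev + 1)) from rfl, map_esymm', block, Multiset.map_map,
    Multiset.map_map]
  refine Eq.trans h1.symm ?_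
  congr 1
  exact Multiset.map_congr rfl fun a _ => by simp

theorem theta_ext {p q : Fr σ} (h : ∀ N, theta N p = theta N q) : p = q := by
  classical
  rw [← sub_eq_zero]
  refine eq_zero_of_theta (fun _ => (p - q).vars.sup (fun i => i.lev + 1)) _ (fun i hi => ?_) ?_
  · exact Nat.lt_of_succ_le (Finset.le_sup (f := fun i : Gen σ => i.lev + 1) hi)
  · rw [map_sub, h, sub_self]

theorem series_ext {f g : PowerSeries (Fr σ)}
    (h : ∀ N, PowerSeries.map (theta N).toRingHom f = PowerSeries.map (theta N).toRingHom g) : f = g := by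
  ext n : 1
  exact theta_ext fun N => by simpa [PowerSeries.coeff_map] using congrArg (PowerSeries.coeff n) (h N)

/-- `u` has a compatible λ-series -/
def HasLam (u : Fr σ) : Prop :=
  ∃ s : PowerSeries (Fr σ), CC s ∧ ∀ N, PowerSeries.map (theta N).toRingHom s = lamSeries (theta N u)

theorem HasLam.add {u v : Fr σ} (hu : HasLam u) (hv : HasLam v) : HasLam (u + v) := by
  obtain ⟨s, hs, hs'⟩ := hu; obtain ⟨t, ht, ht'⟩ := hv
  exact ⟨s * t, hs.mul ht, fun N => by rw [map_mul, hs', ht', map_add, lamSeries_add]⟩

theorem HasLam.neg {u : Fr σ} (hu : HasLam u) : HasLam (-u) := by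
  obtain ⟨s, hs, hs'⟩ := hu
  exact ⟨inv1 s, cc_inv1 s, fun N => by rw [map_inv1 hs, hs', map_neg, lamSeries_neg]⟩

theorem HasLam.zero : HasLam (0 : Fr σ) :=
  ⟨1, CC.one, fun N => by rw [map_one, map_zero, lamSeries_zero]⟩

theorem HasLam.one : HasLam (1 : Fr σ) :=
  ⟨lin 1, cc_lin 1, fun N => by rw [map_lin, map_one, map_one, lamSeries_eq_lin model_lam_one]⟩

theorem HasLam.mul {u v : Fr σ} (hu : HasLam u) (hv : HasLam v) : HasLam (u * v) := by
  obtain ⟨s, hs, hs'⟩ := hu; obtain ⟨t, ht, ht'⟩ := hv
  exact ⟨Pser s t, cc_Pser s t, fun N => by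
    rw [map_Pser, hs', ht', map_mul, Special.lamSeries_mul isSpecial_model]⟩

/-- the subring of elements with a λ-series -/
def lamSubring : Subring (Fr σ) where
  carrier := {u | HasLam u}
  mul_mem' := HasLam.mul
  one_mem' := HasLam.one
  add_mem' := HasLam.add
  zero_mem' := HasLam.zero
  neg_mem' := HasLam.neg

theorem hasLam_X (i : Gen σ) : HasLam (X i : Fr σ) := by
  obtain ⟨g, k⟩ := i
  -- the elements lifting `λ^j` of the free element
  have hL : ∀ j, ∃ l : Fr σ, ∀ N, theta N l =
      LambdaOps.lam j ((block N g).map (X : MVar (MI N) → Mod (MI N))).sum := by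
    intro j
    induction j using Nat.strong_induction_on with
    | _ j ih =>
      cases j with
      | zero => exact ⟨1, fun N => by rw [map_one, LambdaOps.lam_zero]⟩
      | succ n =>
        choose l hl using fun (i : Fin n) => ih ((i : ℕ) + 1) (by omega)
        refine ⟨X ⟨g, n⟩ - ∑ i : Fin n, (Nat.choose n i : Fr σ) * l i, fun N => ?_⟩
        simp only [map_sub, map_sum, map_mul, map_natCast, hl, theta_X_gamma, gamma_succ,
          Finset.sum_range_succ _ n, Nat.choose_self, Nat.cast_one, one_mul]
        rw [Finset.sum_range]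
        ring
  choose l hl using hL
  have hl0 : CC (PowerSeries.mk l) := by
    show PowerSeries.constantCoeff _ = 1
    rw [← PowerSeries.coeff_zero_eq_constantCoeff_apply, PowerSeries.coeff_mk]
    exact theta_ext fun N => by rw [hl, map_one, LambdaOps.lam_zero]
  have hmapl : ∀ N, PowerSeries.map (theta N).toRingHom (PowerSeries.mk l) =
      lamSeries ((block N g).map (X : MVar (MI N) → Mod (MI N))).sum := fun N => by
    ext n
    simp [PowerSeries.coeff_map, coeff_lamSeries, hl]
  have hj : ∀ j, l j ∈ lamSubring (σ := σ) := fun j =>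
    ⟨Qser j (PowerSeries.mk l), cc_Qser _ _, fun N => by
      rw [map_Qser, hmapl, hl, Special.lamSeries_lam isSpecial_model]⟩
  have hX : (X ⟨g, k⟩ : Fr σ) = ∑ j ∈ range (k + 1), (Nat.choose k j : Fr σ) * l (j + 1) :=
    theta_ext fun N => by simp [hl, theta_X_gamma, gamma_succ]
  show (X ⟨g, k⟩ : Fr σ) ∈ lamSubring
  rw [hX]
  exact Subring.sum_mem _ fun j _ => Subring.mul_mem _ (natCast_mem _ _) (hj _)

theorem hasLam (u : Fr σ) : HasLam u := by
  show u ∈ lamSubring (σ := σ)
  induction u using MvPolynomial.induction_on with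
  | C a => rw [eq_intCast C]; exact intCast_mem _ a
  | add p q hp hq => exact Subring.add_mem _ hp hq
  | mul_X p i hp => exact Subring.mul_mem _ hp (hasLam_X i)

/-- the λ-series of the free ring -/
def frSer (u : Fr σ) : PowerSeries (Fr σ) := (hasLam u).choose

theorem cc_frSer (u : Fr σ) : CC (frSer u) := (hasLam u).choose_spec.1

theorem map_frSer (N : σ → ℕ) (u : Fr σ) :
    PowerSeries.map (theta N).toRingHom (frSer u) = lamSeries (theta N u) :=
  (hasLam u).choose_spec.2 N

theorem frSer_one (u : Fr σ) : PowerSeries.coeff 1 (frSer u) = u :=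
  theta_ext fun N => by
    have := congrArg (PowerSeries.coeff 1) (map_frSer N u)
    rwa [PowerSeries.coeff_map, coeff_lamSeries, LambdaOps.lam_one] at this

theorem frSer_add (u v : Fr σ) : frSer (u + v) = frSer u * frSer v :=
  series_ext fun N => by
    rw [map_mul, map_frSer, map_frSer, map_frSer, map_add, lamSeries_add]

/-- the free special λ-ring -/
instance frOps : LambdaOps (Fr σ) := ofSeries frSer cc_frSer frSer_one frSer_add

theorem lHom_theta (N : σ → ℕ) : LHom (theta N).toRingHom := fun u => by
  rw [show lamSeries u = frSer u from lamSeries_ofSeries frSer cc_frSer frSer_one frSer_add u, map_frSer]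
  rfl

theorem natTorsionFree_fr : NatTorsionFree (Fr σ) := by
  intro n hn a ha
  rcases mul_eq_zero.1 ha with h | h
  · exact absurd (Nat.cast_eq_zero.1 h) hn
  · exact h

theorem isSpecial_fr : IsSpecial (Fr σ) := by
  refine isSpecial_of_series (fun n hn => theta_ext fun N => ?_) (fun x y => series_ext fun N => ?_)
    (fun i x => series_ext fun N => ?_)
  · show (theta N).toRingHom _ = _
    rw [(lHom_theta N).map_lam, map_one, map_zero, model_lam_one n hn]
  · rw [map_Pser, lHom_theta N, lHom_theta N, lHom_theta N, map_mul,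
      Special.lamSeries_mul isSpecial_model]
  · rw [map_Qser, lHom_theta N, lHom_theta N, (lHom_theta N).map_lam,
      Special.lamSeries_lam isSpecial_model]

/-- the free element `g` -/
def gen (g : σ) : Fr σ := X ⟨g, 0⟩

theorem theta_gen (N : σ → ℕ) (g : σ) :
    theta N (gen g) = ((block N g).map (X : MVar (MI N) → Mod (MI N))).sum := by
  rw [gen, theta_X_gamma, gamma_one_op]

theorem X_eq_gamma_gen (g : σ) (k : ℕ) : (X ⟨g, k⟩ : Fr σ) = gamma (k + 1) (gen g) :=
  theta_ext fun N => by
    show _ = (theta N).toRingHom _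
    rw [(lHom_theta N).map_gamma, theta_X_gamma]
    show _ = gamma (k + 1) (theta N (gen g))
    rw [theta_gen]

section Eval

variable {K : Type v} [CommRing K] [LambdaOps K]

/-- evaluation of the free ring at elements of a pre-λ-ring -/
def evalAt (x : σ → K) : Fr σ →ₐ[ℤ] K := aeval fun i => gamma (i.lev + 1) (x i.idx)

theorem evalAt_gen (x : σ → K) (g : σ) : evalAt x (gen g) = x g := by
  simp [evalAt, gen, gamma_one_op]

theorem evalAt_lam_gen (x : σ → K) (g : σ) (j : ℕ) :
    evalAt x (LambdaOps.lam j (gen g)) = LambdaOps.lam j (x g) := by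
  induction j using Nat.strong_induction_on with
  | _ j ih =>
    cases j with
    | zero => rw [LambdaOps.lam_zero, map_one, LambdaOps.lam_zero]
    | succ n =>
      have h := congrArg (evalAt x) (X_eq_gamma_gen g n)
      simp only [evalAt, aeval_X] at h
      rw [gamma_succ, gamma_succ, map_sum, Finset.sum_range_succ, Finset.sum_range_succ] at h
      have h2 : ∑ i ∈ range n, aeval (fun i : Gen σ => gamma (i.lev + 1) (x i.idx))
          ((Nat.choose n i : Fr σ) * LambdaOps.lam (i + 1) (gen g)) =
          ∑ i ∈ range n, (Nat.choose n i : K) * LambdaOps.lam (i + 1) (x g) :=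
        Finset.sum_congr rfl fun i hi => by
          rw [map_mul, map_natCast]
          congr 1
          exact ih (i + 1) (by have := Finset.mem_range.1 hi; omega)
      rw [h2] at h
      simp only [Nat.choose_self, Nat.cast_one, one_mul] at h
      exact (add_left_cancel h).symm

theorem lHom_evalAt (hK : IsSpecial K) (x : σ → K) : LHom (evalAt x).toRingHom := by
  let W : Subring (Fr σ) :=
    { carrier := {u | PowerSeries.map (evalAt x).toRingHom (lamSeries u) = lamSeries (evalAt x u)}
      mul_mem' := fun {a b} ha hb => by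
        show _ = _
        rw [Special.lamSeries_mul isSpecial_fr, map_Pser, ha, hb, map_mul, Special.lamSeries_mul hK]
      one_mem' := by
        show _ = _
        rw [map_one, lamSeries_eq_lin hK.lam_one_eq_zero, lamSeries_eq_lin isSpecial_fr.lam_one_eq_zero,
          map_lin, map_one]
      add_mem' := fun {a b} ha hb => by
        show _ = _
        rw [lamSeries_add, map_mul, ha, hb, map_add, lamSeries_add]
      zero_mem' := by
        show _ = _
        rw [lamSeries_zero, map_one, map_zero, lamSeries_zero]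
      neg_mem' := fun {a} ha => by
        show _ = _
        rw [lamSeries_neg, map_inv1 (cc_lamSeries a), ha, map_neg, lamSeries_neg] }
  intro u
  show u ∈ W
  induction u using MvPolynomial.induction_on with
  | C a => rw [eq_intCast C]; exact intCast_mem _ a
  | add p q hp hq => exact Subring.add_mem _ hp hq
  | mul_X p i hp =>
    refine Subring.mul_mem _ hp ?_
    obtain ⟨g, k⟩ := i
    rw [X_eq_gamma_gen, gamma_succ]
    refine Subring.sum_mem _ fun j _ => Subring.mul_mem _ (natCast_mem _ _) ?_
    have hg : PowerSeries.map (evalAt x).toRingHom (lamSeries (gen g)) = lamSeries (x g) := by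
      ext n
      rw [PowerSeries.coeff_map, coeff_lamSeries, coeff_lamSeries]
      exact evalAt_lam_gen x g n
    show _ = _
    rw [Special.lamSeries_lam isSpecial_fr, map_Qser, hg, evalAt_lam_gen, Special.lamSeries_lam hK]

theorem evalAt_gamma (hK : IsSpecial K) (x : σ → K) (n : ℕ) (u : Fr σ) :
    evalAt x (gamma n u) = gamma n (evalAt x u) :=
  (lHom_evalAt hK x).map_gamma n u

theorem evalAt_lam (hK : IsSpecial K) (x : σ → K) (n : ℕ) (u : Fr σ) :
    evalAt x (LambdaOps.lam n u) = LambdaOps.lam n (evalAt x u) :=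
  (lHom_evalAt hK x).map_lam n u

theorem evalAt_adamsOp (hK : IsSpecial K) (x : σ → K) (n : ℕ) (u : Fr σ) :
    evalAt x (adamsOp n u) = adamsOp n (evalAt x u) :=
  (lHom_evalAt hK x).map_adamsOp n u

end Eval

theorem theta_gamma (N : σ → ℕ) (n : ℕ) (u : Fr σ) : theta N (gamma n u) = gamma n (theta N u) :=
  (lHom_theta N).map_gamma n u

theorem theta_lam (N : σ → ℕ) (n : ℕ) (u : Fr σ) :
    theta N (LambdaOps.lam n u) = LambdaOps.lam n (theta N u) :=
  (lHom_theta N).map_lam n u

theorem theta_adamsOp (N : σ → ℕ) (n : ℕ) (u : Fr σ) :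
    theta N (adamsOp n u) = adamsOp n (theta N u) :=
  (lHom_theta N).map_adamsOp n u

theorem theta_isWH (N : σ → ℕ) (i : Gen σ) :
    IsWeightedHomogeneous (degW (MI N))
      (((block N i.idx).map (X : MVar (MI N) → Mod (MI N))).esymm (i.lev + 1)) (genW σ i) := by
  have := IsWH_multiset_esymm (w := degW (MI N)) (d := (1 : ℕ)) ((block N i.idx).map (X : MVar (MI N) → Mod (MI N)))
    (fun y hy => by
      obtain ⟨v, -, rfl⟩ := Multiset.mem_map.1 hy
      exact isWeightedHomogeneous_X ℤ (degW (MI N)) v) (i.lev + 1)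
  simpa using this

theorem theta_mem_ordIdeal (N : σ → ℕ) {n : ℕ} {p : Fr σ} (hp : p ∈ ordIdeal ℤ (genW σ) n) :
    theta N p ∈ ordIdeal ℤ (degW (MI N)) n :=
  aeval_mem_ordIdeal (fun i => mem_ordIdeal_of_isWH (theta_isWH N i)) hp

theorem mem_ordIdeal_of_theta {n : ℕ} {p : Fr σ}
    (h : ∀ N, theta N p ∈ ordIdeal ℤ (degW (MI N)) n) : p ∈ ordIdeal ℤ (genW σ) n := by
  rw [mem_ordIdeal_iff_component]
  intro k hk
  refine theta_ext fun N => ?_
  rw [theta, aeval_component (theta_isWH N) k p, map_zero]
  exact component_eq_zero_of_mem_ordIdeal (h N) hk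

end Groth.Agent.Lambda
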