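import Groth.Agent.Lambda.Basic
import Mathlib.RingTheory.PowerSeries.Substitution
import Mathlib.RingTheory.PowerSeries.WellKnown

/-!
# γ-operations as the substitution t ↦ t/(1-t)
-/

noncomputable section

set_option linter.style.haveILetI false
set_option linter.unusedSectionVars false
set_option linter.unusedSimpArgs false

open Finset LambdaRing
open PowerSeries (coeff constantCoeff HasSubst)

namespace Groth.Agent.Lambda

universe u v

variable {R : Type u} [CommRing R] {S : Type v} [CommRing S]

/-- `t/(1-t)` -/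
def geom : PowerSeries R := PowerSeries.X * PowerSeries.mk 1

theorem hasSubst_geom : HasSubst (geom : PowerSeries R) :=
  HasSubst.of_constantCoeff_zero' (by simp [geom])

theorem coeff_geom_pow (j n : ℕ) :
    coeff (n + 1) ((geom : PowerSeries R) ^ (j + 1)) = (Nat.choose n j : R) := by
  rw [geom, mul_pow, PowerSeries.coeff_X_pow_mul', PowerSeries.mk_one_pow_eq_mk_choose_add]
  split
  · rw [PowerSeries.coeff_mk, show j + (n + 1 - (j + 1)) = n by omega]
  · rw [Nat.choose_eq_zero_of_lt (by omega), Nat.cast_zero]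

/-- the substitution `t ↦ t/(1-t)` -/
def gsub (f : PowerSeries R) : PowerSeries R := f.subst (geom : PowerSeries R)

theorem gsub_mul (f g : PowerSeries R) : gsub (f * g) = gsub f * gsub g :=
  PowerSeries.subst_mul hasSubst_geom f g

theorem gsub_one : gsub (1 : PowerSeries R) = 1 := by
  rw [gsub, ← PowerSeries.coe_substAlgHom hasSubst_geom, map_one]

theorem coeff_gsub (f : PowerSeries R) (n : ℕ) :
    coeff (n + 1) (gsub f) = ∑ j ∈ range (n + 1), (Nat.choose n j : R) * coeff (j + 1) f := by
  rw [gsub, PowerSeries.coeff_subst' hasSubst_geom]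
  rw [finsum_eq_sum_of_support_subset _ (s := range (n + 1 + 1))]
  · rw [Finset.sum_range_succ']
    simp only [pow_zero, PowerSeries.coeff_one, Nat.succ_ne_zero, if_false, smul_zero, add_zero]
    exact Finset.sum_congr rfl fun j _ => by rw [coeff_geom_pow, smul_eq_mul, mul_comm]
  · intro d hd
    rw [Finset.coe_range, Set.mem_Iio]
    by_contra h
    apply hd
    obtain ⟨j, rfl⟩ : ∃ j, d = j + 1 := ⟨d - 1, by omega⟩
    simp [coeff_geom_pow, Nat.choose_eq_zero_of_lt (show n < j by omega)]

theorem cc_gsub {f : PowerSeries R} (hf : CC f) : CC (gsub f) := by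
  show constantCoeff _ = 1
  rw [← PowerSeries.coeff_zero_eq_constantCoeff_apply, gsub, PowerSeries.coeff_subst' hasSubst_geom,
    finsum_eq_single _ 0]
  · simp [show constantCoeff f = 1 from hf]
  · intro d hd
    obtain ⟨j, rfl⟩ : ∃ j, d = j + 1 := ⟨d - 1, by omega⟩
    simp [geom]

theorem gsub_lin_mul (a : R) : gsub (lin a) * lin (-1) = lin (a - 1) := by
  ext n
  cases n with
  | zero => rw [((cc_gsub (cc_lin a)).mul (cc_lin _)).coeff_zero, (cc_lin _).coeff_zero]
  | succ n =>
    have hg : ∀ m, coeff (m + 1) (gsub (lin a)) = a := by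
      intro m
      rw [coeff_gsub, Finset.sum_eq_single 0]
      · simp [coeff_lin_succ]
      · intro j _ hj; simp [coeff_lin_succ, hj]
      · simp
    rw [show lin (-1 : R) = 1 + PowerSeries.C (-1) * PowerSeries.X from rfl, mul_add, mul_one, map_add,
      ← mul_assoc, PowerSeries.coeff_succ_mul_X, PowerSeries.coeff_mul_C, hg, coeff_lin_succ]
    cases n with
    | zero => simp [(cc_gsub (cc_lin a)).coeff_zero, sub_eq_add_neg]
    | succ n => simp [hg]

theorem inv1_lin_neg_one : inv1 (lin (-1 : R)) = PowerSeries.mk 1 := by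
  rw [inv1_lin]
  ext n
  simp

variable {K : Type u} [CommRing K] [LambdaOps K]

/-- the series `γ_t(x)` -/
def gammaSeries (x : K) : PowerSeries K := PowerSeries.mk fun k => gamma k x

theorem coeff_gammaSeries (x : K) (k : ℕ) : coeff k (gammaSeries x) = gamma k x :=
  PowerSeries.coeff_mk k _

theorem gamma_succ (n : ℕ) (x : K) :
    gamma (n + 1) x = ∑ j ∈ range (n + 1), (Nat.choose n j : K) * LambdaOps.lam (j + 1) x := by
  rw [gamma, if_neg (Nat.succ_ne_zero n), Finset.sum_range_succ']
  simp

theorem gamma_zero_op (x : K) : gamma 0 x = 1 := if_pos rfl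

theorem gamma_one_op (x : K) : gamma 1 x = x := by
  rw [show (1 : ℕ) = 0 + 1 from rfl, gamma_succ]
  simp [LambdaOps.lam_one]

theorem gammaSeries_eq (x : K) : gammaSeries x = gsub (lamSeries x) := by
  ext k
  rw [coeff_gammaSeries]
  cases k with
  | zero => rw [gamma_zero_op, (cc_gsub (cc_lamSeries x)).coeff_zero]
  | succ n => rw [gamma_succ, coeff_gsub]; simp [coeff_lamSeries]

theorem cc_gammaSeries (x : K) : CC (gammaSeries x) := by
  rw [gammaSeries_eq]; exact cc_gsub (cc_lamSeries x)

theorem gammaSeries_add (x y : K) : gammaSeries (x + y) = gammaSeries x * gammaSeries y := by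
  simp only [gammaSeries_eq, lamSeries_add, gsub_mul]

theorem gammaSeries_zero : gammaSeries (0 : K) = 1 := by
  rw [gammaSeries_eq, lamSeries_zero, gsub_one]

theorem gamma_of_zero (n : ℕ) (hn : n ≠ 0) : gamma n (0 : K) = 0 := by
  rw [← coeff_gammaSeries, gammaSeries_zero, PowerSeries.coeff_one, if_neg hn]

theorem gammaSeries_neg (x : K) : gammaSeries (-x) = inv1 (gammaSeries x) := by
  refine (inv1_eq_of_mul_eq_one (cc_gammaSeries x) ?_).symm
  rw [← gammaSeries_add, add_neg_cancel, gammaSeries_zero]

theorem gammaSeries_sum {ι : Type*} (s : Finset ι) (f : ι → K) :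
    gammaSeries (∑ i ∈ s, f i) = ∏ i ∈ s, gammaSeries (f i) := by
  classical
  induction s using Finset.induction with
  | empty => simp [gammaSeries_zero]
  | @insert a s ha ih => rw [Finset.sum_insert ha, Finset.prod_insert ha, gammaSeries_add, ih]

theorem gammaSeries_multiset_sum (s : Multiset K) :
    gammaSeries s.sum = (s.map gammaSeries).prod := by
  induction s using Multiset.induction with
  | empty => simp [gammaSeries_zero]
  | cons a s ih => simp [gammaSeries_add, ih]

theorem gammaSeries_sub_one (h1 : ∀ i, 2 ≤ i → LambdaOps.lam i (1 : K) = 0) {u : K}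
    (hu : ∀ i, 2 ≤ i → LambdaOps.lam i u = 0) : gammaSeries (u - 1) = lin (u - 1) := by
  have hone : gammaSeries (1 : K) * lin (-1) = 1 := by
    rw [gammaSeries_eq, lamSeries_eq_lin h1, gsub_lin_mul, sub_self]
    simp [lin]
  calc gammaSeries (u - 1) = gammaSeries (u - 1) * (gammaSeries (1 : K) * lin (-1)) := by
        rw [hone, mul_one]
    _ = gammaSeries u * lin (-1) := by rw [← mul_assoc, ← gammaSeries_add, sub_add_cancel]
    _ = lin (u - 1) := by rw [gammaSeries_eq, lamSeries_eq_lin hu, gsub_lin_mul]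

theorem gammaSeries_lines_sub (h1 : ∀ i, 2 ≤ i → LambdaOps.lam i (1 : K) = 0) (s : Multiset K)
    (hs : ∀ u ∈ s, ∀ i, 2 ≤ i → LambdaOps.lam i u = 0) :
    gammaSeries (s.sum - (Multiset.card s : K)) = prodLin (s.map (· - 1)) := by
  induction s using Multiset.induction with
  | empty => simp [gammaSeries_zero, prodLin]
  | cons a s ih =>
    rw [Multiset.sum_cons, Multiset.card_cons, Nat.cast_add, Nat.cast_one,
      show a + s.sum - ((Multiset.card s : K) + 1) = (a - 1) + (s.sum - (Multiset.card s : K)) by ring,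
      gammaSeries_add, gammaSeries_sub_one h1 (hs a (Multiset.mem_cons_self a s)),
      ih fun u hu => hs u (Multiset.mem_cons_of_mem hu), Multiset.map_cons, prodLin_cons]

theorem LHom.map_gammaSeries {L : Type v} [CommRing L] [LambdaOps L] {f : K →+* L} (h : LHom f)
    (x : K) : PowerSeries.map f (gammaSeries x) = gammaSeries (f x) := by
  ext k; simp [coeff_gammaSeries, h.map_gamma]

theorem gamma_eq_lam_add (h1 : ∀ i, 2 ≤ i → LambdaOps.lam i (1 : K) = 0) (n : ℕ) (x : K) :
    gamma n x = LambdaOps.lam n (x + (n : K) - 1) := by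
  cases n with
  | zero => rw [gamma_zero_op, LambdaOps.lam_zero]
  | succ n =>
    rw [show x + ((n + 1 : ℕ) : K) - 1 = x + (n : K) by push_cast; ring, gamma_succ,
      LambdaOps.lam_add, Finset.sum_range_succ' _ (n + 1)]
    have hlam : ∀ j, LambdaOps.lam j (n : K) = (n.choose j : K) := by
      intro j
      rw [← coeff_lamSeries, lamSeries_natCast h1]
      rw [show (1 + PowerSeries.X : PowerSeries K) ^ n = ((1 + Polynomial.X : Polynomial K) ^ n : Polynomial K) by
        simp, Polynomial.coeff_coe, Polynomial.coeff_one_add_X_pow]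
    rw [hlam, Nat.choose_eq_zero_of_lt (by omega : n < n + 1 - 0), Nat.cast_zero, mul_zero, add_zero]
    refine Finset.sum_congr rfl fun j hj => ?_
    rw [hlam, show n + 1 - (j + 1) = n - j by omega,
      Nat.choose_symm (Finset.mem_range_succ_iff.1 hj), mul_comm]

theorem lam_add_sub_one (h1 : ∀ i, 2 ≤ i → LambdaOps.lam i (1 : K) = 0) (n : ℕ) (y : K) :
    LambdaOps.lam n (y - 1) =
      (-1 : K) ^ n * ∑ i ∈ range (n + 1), (-1 : K) ^ i * LambdaOps.lam i y := by
  rw [← coeff_lamSeries, sub_eq_add_neg, lamSeries_add, lamSeries_neg, lamSeries_eq_lin h1, inv1_lin,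
    PowerSeries.coeff_mul, Finset.Nat.sum_antidiagonal_eq_sum_range_succ
      (fun i j => coeff i (lamSeries y) * coeff j (PowerSeries.mk fun k => (-1 : K) ^ k)),
    Finset.mul_sum]
  refine Finset.sum_congr rfl fun i hi => ?_
  rw [coeff_lamSeries, PowerSeries.coeff_mk, ← mul_assoc, ← pow_add,
    show (-1 : K) ^ (n + i) = (-1) ^ (n - i) by
      rw [show n + i = (n - i) + 2 * i by have := Finset.mem_range_succ_iff.1 hi; omega, pow_add,
        pow_mul, neg_one_sq, one_pow, mul_one]]
  ring

end Groth.Agent.Lambda
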