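import Groth.Agent.Lambda.Model
import Mathlib.Algebra.Group.ForwardDiff

/-!
# γ-operations and the order filtration in the models
-/

noncomputable section

set_option linter.style.haveILetI false
set_option linter.unusedSectionVars false
set_option linter.unusedSimpArgs false

open Finset LambdaRing MvPolynomial

namespace Groth.Agent.Lambda

universe u v

open scoped Classical

variable {ι : Type u} {κ : Type v}

/-- send each variable to a variable or to zero -/
def modMap (g : MVar ι → Option (MVar κ)) : Mod ι →ₐ[ℤ] Mod κ :=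
  aeval fun i => (g i).elim 0 X

/-- products of the `1 + V` -/
def lineMonoid (κ : Type v) : Submonoid (Mod κ) where
  carrier := Set.range (lineBasis (ι := κ))
  one_mem' := ⟨0, lineBasis_zero⟩
  mul_mem' := by
    classical
    rintro _ _ ⟨a, rfl⟩ ⟨b, rfl⟩
    refine ⟨a + b, ?_⟩
    rw [lineBasis_apply, lineBasis_apply, lineBasis_apply,
      Finsupp.prod_add_index' (fun _ => pow_zero _) (fun _ _ _ => pow_add _ _ _)]

theorem modMap_lineBasis (g : MVar ι → Option (MVar κ)) (d : MVar ι →₀ ℕ) :
    modMap g (lineBasis d) ∈ lineMonoid κ := by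
  rw [lineBasis_apply, map_finsuppProd]
  refine Submonoid.prod_mem _ fun i _ => ?_
  dsimp only
  rw [map_pow, map_add, map_one, modMap, aeval_X]
  refine Submonoid.pow_mem _ ?_ _
  cases g i with
  | none => rw [Option.elim_none, zero_add]; exact one_mem _
  | some j => exact ⟨Finsupp.single j 1, lineBasis_single j⟩

theorem closure_lineBasis : AddSubgroup.closure (Set.range (lineBasis (ι := ι))) = ⊤ := by
  rw [← Submodule.span_int_eq_addSubgroupClosure, Module.Basis.span_eq, Submodule.top_toAddSubgroup]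

theorem lHom_modMap (g : MVar ι → Option (MVar κ)) : LHom (modMap g).toRingHom := by
  refine lHom_of_closure _ _ closure_lineBasis ?_
  rintro _ ⟨d, rfl⟩
  obtain ⟨e, he⟩ := modMap_lineBasis g d
  rw [lamSeries_eq_lin (isLine_basis d), map_lin]
  show lin (modMap g (lineBasis d)) = lamSeries (modMap g (lineBasis d))
  rw [← he, lamSeries_eq_lin (isLine_basis e)]

theorem modMap_mem_ordIdeal (g : MVar ι → Option (MVar κ)) {n : ℕ} {p : Mod ι}
    (hp : p ∈ ordIdeal ℤ (degW ι) n) : modMap g p ∈ ordIdeal ℤ (degW κ) n := by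
  refine aeval_mem_ordIdeal (fun i => ?_) hp
  cases g i with
  | none => exact zero_mem _
  | some j => exact X_mem_ordIdeal _ j

theorem mem_ordIdeal_one_iff {p : Mod ι} :
    p ∈ ordIdeal ℤ (degW ι) 1 ↔ constantCoeff p = 0 := by
  refine ⟨fun h => h 0 (by simp), fun h d hd => ?_⟩
  have : d = 0 := by
    ext i
    by_contra hne
    have := Finsupp.le_weight (degW ι) (s := i) one_ne_zero d
    simp only [Finsupp.coe_zero, Pi.zero_apply] at hne
    omega
  rw [this, ← constantCoeff_eq]
  exact h

theorem constantCoeff_lineBasis (d : MVar ι →₀ ℕ) : constantCoeff (lineBasis d) = 1 := by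
  rw [lineBasis_apply, map_finsuppProd]
  simp

/-- `γ^i` respects the order: `γ^i f` has order at least `i` for `f` without constant term -/
theorem gamma_mem_ordIdeal_self {f : Mod ι} (hf : f ∈ ordIdeal ℤ (degW ι) 1) (i : ℕ) :
    gamma i f ∈ ordIdeal ℤ (degW ι) i := by
  have key : ∀ f : Mod ι, ∀ i, gamma i (f - C (constantCoeff f)) ∈ ordIdeal ℤ (degW ι) i := by
    intro f
    have hmem : f ∈ AddSubgroup.closure (Set.range (lineBasis (ι := ι))) := by
      rw [closure_lineBasis]; trivial
    refine AddSubgroup.closure_induction ?_ ?_ ?_ ?_ hmem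
    · rintro _ ⟨d, rfl⟩ i
      rw [constantCoeff_lineBasis, map_one, ← coeff_gammaSeries,
        gammaSeries_sub_one model_lam_one (isLine_basis d)]
      cases i with
      | zero => simp [ordIdeal_zero]
      | succ i =>
        rw [coeff_lin_succ]
        split
        · next h =>
          subst h
          rw [mem_ordIdeal_one_iff, map_sub, map_one, constantCoeff_lineBasis, sub_self]
        · exact zero_mem _
    · intro i
      cases i with
      | zero => simp [ordIdeal_zero]
      | succ i => rw [map_zero, map_zero, sub_zero, gamma_of_zero _ (Nat.succ_ne_zero i)]; exact zero_mem _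
    · intro a b _ _ ha hb i
      rw [map_add, map_add, show a + b - (C (constantCoeff a) + C (constantCoeff b)) =
        (a - C (constantCoeff a)) + (b - C (constantCoeff b)) by ring, ← coeff_gammaSeries, gammaSeries_add,
        PowerSeries.coeff_mul]
      refine Ideal.sum_mem _ fun x hx => ?_
      rw [← Finset.mem_antidiagonal.1 hx, coeff_gammaSeries, coeff_gammaSeries]
      exact mul_mem_ordIdeal (ha x.1) (hb x.2)
    · intro a _ ha
      rw [map_neg, map_neg, show -a - -C (constantCoeff a) = -(a - C (constantCoeff a)) by ring]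
      intro i
      induction i using Nat.strong_induction_on with
      | _ i ih =>
        cases i with
        | zero => simp [ordIdeal_zero]
        | succ i =>
          have h := congrArg (PowerSeries.coeff (i + 1))
            (gammaSeries_add (a - C (constantCoeff a)) (-(a - C (constantCoeff a))))
          rw [add_neg_cancel, PowerSeries.coeff_mul, coeff_gammaSeries, gamma_of_zero _ (Nat.succ_ne_zero i),
            Finset.Nat.sum_antidiagonal_eq_sum_range_succ
              (fun p q => PowerSeries.coeff p (gammaSeries (a - C (constantCoeff a))) *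
                PowerSeries.coeff q (gammaSeries (-(a - C (constantCoeff a))))), Finset.sum_range_succ'] at h
          simp only [coeff_gammaSeries, gamma_zero_op, one_mul, Nat.sub_zero] at h
          rw [eq_neg_of_add_eq_zero_right h.symm]
          refine neg_mem (Ideal.sum_mem _ fun j hj => ?_)
          have hj' := Finset.mem_range.1 hj
          have := mul_mem_ordIdeal (ha (j + 1)) (ih (i + 1 - (j + 1)) (by omega))
          rwa [show j + 1 + (i + 1 - (j + 1)) = i + 1 by omega] at this
  have := key f i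
  rwa [mem_ordIdeal_one_iff.1 hf, map_zero, sub_zero] at this

/-- elements whose positive γ's lie in an ideal form a subgroup -/
def gammaStable {R : Type u} [CommRing R] [LambdaOps R] (I : Ideal R) : AddSubgroup R where
  carrier := {f | ∀ i, 1 ≤ i → gamma i f ∈ I}
  zero_mem' := fun i hi => by rw [gamma_of_zero i (by omega)]; exact zero_mem _
  add_mem' := fun {a b} ha hb i hi => by
    rw [← coeff_gammaSeries, gammaSeries_add, PowerSeries.coeff_mul]
    refine Ideal.sum_mem _ fun x hx => ?_
    rw [coeff_gammaSeries, coeff_gammaSeries]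
    rcases Nat.eq_zero_or_pos x.1 with h | h
    · refine Ideal.mul_mem_left _ _ (hb _ ?_)
      have := Finset.mem_antidiagonal.1 hx; omega
    · exact Ideal.mul_mem_right _ _ (ha _ h)
  neg_mem' := fun {a} ha i => by
    induction i using Nat.strong_induction_on with
    | _ i ih =>
      intro hi
      obtain ⟨n, rfl⟩ : ∃ n, i = n + 1 := ⟨i - 1, by omega⟩
      have h := congrArg (PowerSeries.coeff (n + 1)) (gammaSeries_add a (-a))
      rw [add_neg_cancel, PowerSeries.coeff_mul, coeff_gammaSeries, gamma_of_zero _ (Nat.succ_ne_zero n),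
        Finset.Nat.sum_antidiagonal_eq_sum_range_succ
          (fun p q => PowerSeries.coeff p (gammaSeries a) * PowerSeries.coeff q (gammaSeries (-a))),
        Finset.sum_range_succ'] at h
      simp only [coeff_gammaSeries, gamma_zero_op, one_mul, Nat.sub_zero] at h
      rw [eq_neg_of_add_eq_zero_right h.symm]
      exact neg_mem (Ideal.sum_mem _ fun j _ => Ideal.mul_mem_right _ _ (ha _ (Nat.succ_pos j)))

/-- the product of the variables of `Mod (Fin m)` -/
def allVars (m : ℕ) : Mod (Fin m) := ∏ j : Fin m, X ⟨j⟩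

theorem mem_ordIdeal_of_kills {m : ℕ} (p : Mod (Fin m))
    (h : ∀ j : Fin m, aeval (Function.update (X : MVar (Fin m) → Mod (Fin m)) ⟨j⟩ 0) p = 0) :
    p ∈ ordIdeal ℤ (degW (Fin m)) m := by
  classical
  intro d hd
  by_cases hz : ∃ j : Fin m, d ⟨j⟩ = 0
  · obtain ⟨j, hj⟩ := hz
    rw [← coeff_aeval_update_zero p ⟨j⟩ d hj, h j, coeff_zero]
  · exfalso
    simp only [not_exists] at hz
    have hinj : Function.Injective (MVar.mk : Fin m → MVar (Fin m)) := fun a b h => by cases h; rfl
    have : m ≤ Finsupp.weight (degW (Fin m)) d := by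
      rw [Finsupp.weight_apply, Finsupp.sum]
      calc m = ∑ _j : Fin m, 1 := by simp
        _ ≤ ∑ j : Fin m, d ⟨j⟩ • 1 := Finset.sum_le_sum fun j _ => by
            have := hz j; simp; omega
        _ = ∑ x ∈ Finset.univ.map ⟨_, hinj⟩, d x • degW (Fin m) x := by simp [degW]
        _ ≤ _ := Finset.sum_le_sum_of_subset fun x hx => by
            obtain ⟨j, -, rfl⟩ := Finset.mem_map.1 hx
            exact Finsupp.mem_support_iff.2 (hz j)
    omega

theorem modMap_kill_eq {m : ℕ} (j : Fin m) :
    modMap (fun i => if i = ⟨j⟩ then none else some i) =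
      (aeval (Function.update (X : MVar (Fin m) → Mod (Fin m)) ⟨j⟩ 0) : Mod (Fin m) →ₐ[ℤ] Mod (Fin m)) := by
  classical
  refine MvPolynomial.algHom_ext fun i => ?_
  rw [modMap, aeval_X, aeval_X, Function.update_apply]
  split <;> rfl

theorem allVars_kill {m : ℕ} (j : Fin m) :
    aeval (Function.update (X : MVar (Fin m) → Mod (Fin m)) ⟨j⟩ 0) (allVars m) = 0 := by
  rw [allVars, map_prod]
  exact Finset.prod_eq_zero (Finset.mem_univ j) (by simp)

/-- transfer to squarefree monomials -/
theorem exists_modMap_allVars (d : MVar ι →₀ ℕ) :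
    ∃ (m : ℕ) (g : MVar (Fin m) → Option (MVar ι)),
      m = Finsupp.weight (degW ι) d ∧ modMap g (allVars m) = monomial d 1 := by
  classical
  obtain ⟨l, hl⟩ : ∃ l : List (MVar ι), Finsupp.toMultiset d = (l : Multiset (MVar ι)) :=
    ⟨(Finsupp.toMultiset d).toList, by simp⟩
  refine ⟨l.length, fun i => some (l.get i.idx), ?_, ?_⟩
  · rw [Finsupp.weight_apply]
    have := Finsupp.card_toMultiset d
    rw [hl, Multiset.coe_card] at this
    rw [this]
    simp [degW, Finsupp.sum]
  · rw [allVars, map_prod]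
    simp only [modMap, aeval_X, Option.elim_some]
    have h1 : ((Finsupp.toMultiset d).map (X : MVar ι → Mod ι)).prod = monomial d 1 := by
      rw [Finset.prod_multiset_map_count, monomial_eq, map_one, one_mul, Finsupp.toFinset_toMultiset,
        Finsupp.prod]
      exact Finset.prod_congr rfl fun x _ => by rw [Finsupp.count_toMultiset]
    rw [← h1, hl, Multiset.map_coe, Multiset.prod_coe]
    conv_rhs => rw [← List.ofFn_get l, List.map_ofFn, List.prod_ofFn]
    rfl

theorem gamma_mem_ordIdeal {m : ℕ} {f : Mod ι} (hf : f ∈ ordIdeal ℤ (degW ι) m) (i : ℕ) (hi : 1 ≤ i) :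
    gamma i f ∈ ordIdeal ℤ (degW ι) m := by
  classical
  suffices h : f ∈ gammaStable (ordIdeal ℤ (degW ι) m) from h i hi
  rw [f.as_sum]
  refine AddSubgroup.sum_mem _ fun d hd => ?_
  have hw : m ≤ Finsupp.weight (degW ι) d := by
    by_contra hlt
    exact (mem_support_iff.1 hd) (hf d (not_le.1 hlt))
  have key : monomial d (1 : ℤ) ∈ gammaStable (ordIdeal ℤ (degW ι) m) := by
    intro i hi
    obtain ⟨n, g, hn, hg⟩ := exists_modMap_allVars d
    rw [← hg, show modMap g (allVars n) = (modMap g).toRingHom (allVars n) from rfl,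
      ← (lHom_modMap g).map_gamma]
    refine modMap_mem_ordIdeal g (ordIdeal_antitone _ (hw.trans hn.ge) (mem_ordIdeal_of_kills _ fun j => ?_))
    rw [← modMap_kill_eq j, show modMap _ (gamma i (allVars n)) = (modMap _).toRingHom _ from rfl,
      (lHom_modMap _).map_gamma]
    show gamma i (modMap _ (allVars n)) = 0
    rw [modMap_kill_eq, allVars_kill, gamma_of_zero i (by omega)]
  rw [show monomial d (coeff d f) = coeff d f • monomial d (1 : ℤ) by simp [smul_monomial]]
  exact AddSubgroup.zsmul_mem _ key _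

/-! ### the leading term of `γ^m` on order `m` -/

/-- `f ↦ ψ_m (γ_t f)` -/
def psiGamma (m : ℕ) : Mod ι →+ Mod ι where
  toFun f := psi (gammaSeries f) m
  map_zero' := by rw [gammaSeries_zero, psi_one_series]
  map_add' a b := by rw [gammaSeries_add, psi_mul (cc_gammaSeries a) (cc_gammaSeries b)]

theorem coeff_dlog_gamma_mem {R : Type u} [CommRing R] [LambdaOps R] (I : Ideal R) (f : R)
    (hf : ∀ i, 1 ≤ i → gamma i f ∈ I) (n : ℕ) : PowerSeries.coeff n (dlog (gammaSeries f)) ∈ I := by
  rw [← Ideal.Quotient.eq_zero_iff_mem, ← PowerSeries.coeff_map, map_dlog (cc_gammaSeries f)]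
  have : PowerSeries.map (Ideal.Quotient.mk I) (gammaSeries f) = 1 := by
    ext k
    rw [PowerSeries.coeff_map, coeff_gammaSeries, PowerSeries.coeff_one]
    cases k with
    | zero => simp [gamma_zero_op]
    | succ k => rw [if_neg (Nat.succ_ne_zero k)]; exact Ideal.Quotient.eq_zero_iff_mem.2 (hf _ (Nat.succ_pos k))
  rw [this, dlog_one, map_zero]

theorem psiGamma_congr {m : ℕ} {f : Mod ι} (hm : 1 ≤ m) (hf : f ∈ ordIdeal ℤ (degW ι) m) :
    psiGamma m f - (-1) ^ (m - 1) * ((m : Mod ι) * gamma m f) ∈ ordIdeal ℤ (degW ι) (m + 1) := by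
  obtain ⟨n, rfl⟩ : ∃ n, m = n + 1 := ⟨m - 1, by omega⟩
  have h := coeff_succ_mul_eq (cc_gammaSeries f) n
  rw [Finset.sum_range_succ', coeff_gammaSeries] at h
  simp only [coeff_gammaSeries, gamma_zero_op, one_mul, Nat.sub_zero] at h
  rw [show n + 1 - 1 = n from rfl, show psiGamma (n + 1) f = psi (gammaSeries f) (n + 1) from rfl,
    psi_succ, ← mul_sub]
  refine Ideal.mul_mem_left _ _ ?_
  rw [show ((n + 1 : ℕ) : Mod ι) * gamma (n + 1) f = gamma (n + 1) f * ((n : Mod ι) + 1) by push_cast; ring, h,
    show ∀ (a b : Mod ι), a - (b + a) = -b by intros; ring]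
  refine neg_mem (Ideal.sum_mem _ fun k _ => ?_)
  refine ordIdeal_antitone _ (show n + 1 + 1 ≤ (n + 1) + (n + 1) by omega) (mul_mem_ordIdeal ?_ ?_)
  · exact gamma_mem_ordIdeal hf _ (Nat.succ_pos k)
  · exact coeff_dlog_gamma_mem _ f (fun i hi => gamma_mem_ordIdeal hf i hi) _

/-- `V ↦ T` -/
def collapse (m : ℕ) : Mod (Fin m) →ₐ[ℤ] Polynomial ℤ := aeval fun _ => Polynomial.X

theorem collapse_coeff_eq_zero {m n : ℕ} {p : Mod (Fin m)} (hp : p ∈ ordIdeal ℤ (degW (Fin m)) n) (k : ℕ)
    (hk : k < n) : (collapse m p).coeff k = 0 := by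
  rw [p.as_sum, map_sum, Polynomial.finsetSum_coeff]
  refine Finset.sum_eq_zero fun d hd => ?_
  have hw : n ≤ Finsupp.weight (degW (Fin m)) d := by
    by_contra hlt
    exact (mem_support_iff.1 hd) (hp d (not_le.1 hlt))
  rw [Finsupp.weight_apply] at hw
  simp only [Finsupp.sum, degW, smul_eq_mul, mul_one] at hw
  rw [collapse, aeval_monomial, Finsupp.prod, Finset.prod_pow_eq_pow_sum, Polynomial.coeff_mul_X_pow',
    if_neg (by omega)]

theorem coeff_pow_top (k n : ℕ) :
    (((1 + Polynomial.X : Polynomial ℤ) ^ k - 1) ^ n).coeff n = (k : ℤ) ^ n := by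
  obtain ⟨q, hq⟩ : Polynomial.X ∣ ((1 + Polynomial.X : Polynomial ℤ) ^ k - 1) := by
    rw [Polynomial.X_dvd_iff, Polynomial.coeff_zero_eq_eval_zero]; simp
  have hq0 : q.coeff 0 = (k : ℤ) := by
    have := congrArg (fun p : Polynomial ℤ => p.coeff 1) hq
    simpa [Polynomial.coeff_one_add_X_pow, Polynomial.coeff_one] using this.symm
  rw [hq, mul_pow, Polynomial.coeff_X_pow_mul', if_pos le_rfl, Nat.sub_self,
    Polynomial.coeff_zero_eq_eval_zero, Polynomial.eval_pow, ← Polynomial.coeff_zero_eq_eval_zero, hq0]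

theorem collapse_psiGamma {m : ℕ} (hm : 1 ≤ m) :
    (collapse m (psiGamma m (allVars m))).coeff m = (m.factorial : ℤ) := by
  classical
  have hF : allVars m = ∑ t ∈ (univ : Finset (Fin m)).powerset,
      (-1 : ℤ) ^ (m - t.card) • ∏ j ∈ t, ((X ⟨j⟩ : Mod (Fin m)) + 1) := by
    rw [allVars]
    conv_lhs => rw [show (fun j : Fin m => (X ⟨j⟩ : Mod (Fin m))) = fun j => ((X ⟨j⟩ : Mod (Fin m)) + 1) + (-1) by
      funext j; ring]
    rw [Finset.prod_add]
    refine Finset.sum_congr rfl fun t _ => ?_
    rw [Finset.prod_const, Finset.card_univ_diff, Fintype.card_fin, zsmul_eq_mul]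
    push_cast
    ring
  have hsign : ∑ t ∈ (univ : Finset (Fin m)).powerset, (-1 : ℤ) ^ (m - t.card) = 0 := by
    have := congrArg constantCoeff hF
    rw [allVars, map_prod, map_sum] at this
    simp only [constantCoeff_X, Finset.prod_const, Finset.card_univ, Fintype.card_fin, zero_pow (by omega : m ≠ 0),
      map_zsmul, map_prod, map_add, map_one, zero_add, Finset.prod_const_one, one_pow, smul_eq_mul, mul_one] at this
    exact this.symm
  have hline : ∀ t : Finset (Fin m), ∀ i, 2 ≤ i →
      LambdaOps.lam i (∏ j ∈ t, ((X ⟨j⟩ : Mod (Fin m)) + 1)) = 0 := by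
    intro t i hi
    obtain ⟨d, hd⟩ : ∏ j ∈ t, ((X ⟨j⟩ : Mod (Fin m)) + 1) ∈ lineMonoid (Fin m) :=
      Submonoid.prod_mem _ fun j _ => ⟨_, lineBasis_single _⟩
    rw [← hd]; exact isLine_basis d i hi
  have hval : ∀ t : Finset (Fin m), psiGamma m (∏ j ∈ t, ((X ⟨j⟩ : Mod (Fin m)) + 1)) =
      (∏ j ∈ t, ((X ⟨j⟩ : Mod (Fin m)) + 1) - 1) ^ m + psiGamma m 1 := by
    intro t
    conv_lhs => rw [show ∏ j ∈ t, ((X ⟨j⟩ : Mod (Fin m)) + 1) =
      (∏ j ∈ t, ((X ⟨j⟩ : Mod (Fin m)) + 1) - 1) + 1 by ring, map_add]
    congr 1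
    show psi (gammaSeries _) m = _
    rw [gammaSeries_sub_one model_lam_one (hline t), psi_lin _ m hm]
  rw [hF, map_sum]
  simp only [map_zsmul, hval, smul_add, Finset.sum_add_distrib, ← Finset.sum_smul, hsign, zero_smul,
    add_zero, map_sum, Polynomial.finsetSum_coeff, map_pow, map_sub, map_one, map_prod, collapse, map_add,
    aeval_X, Finset.prod_const, Polynomial.coeff_smul]
  rw [Finset.sum_powerset_apply_card
    (fun k => (-1 : ℤ) ^ (m - k) • (((Polynomial.X + 1 : Polynomial ℤ) ^ k - 1) ^ m).coeff m)]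
  have := congrFun (fwdDiff_iter_eq_factorial (R := ℤ) (n := m)) 0
  rw [fwdDiff_iter_eq_sum_shift] at this
  simp only [Pi.natCast_apply] at this
  rw [← this, Finset.card_univ, Fintype.card_fin]
  refine Finset.sum_congr rfl fun k _ => ?_
  rw [show (Polynomial.X + 1 : Polynomial ℤ) = 1 + Polynomial.X by ring, coeff_pow_top]
  simp
  ring

theorem gamma_lead_allVars {m : ℕ} (hm : 1 ≤ m) :
    gamma m (allVars m) - (-1) ^ (m - 1) * ((m - 1).factorial : Mod (Fin m)) * allVars m ∈
      ordIdeal ℤ (degW (Fin m)) (m + 1) := by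
  classical
  have hkill : ∀ j : Fin m, aeval (Function.update (X : MVar (Fin m) → Mod (Fin m)) ⟨j⟩ 0)
      (psiGamma m (allVars m)) = 0 := by
    intro j
    rw [← modMap_kill_eq]
    show (modMap _).toRingHom (psi (gammaSeries (allVars m)) m) = 0
    rw [map_psi (cc_gammaSeries _), (lHom_modMap _).map_gammaSeries]
    show psi (gammaSeries (modMap _ (allVars m))) m = 0
    rw [modMap_kill_eq, allVars_kill, gammaSeries_zero, psi_one_series]
  have hF : allVars m ∈ ordIdeal ℤ (degW (Fin m)) m := mem_ordIdeal_of_kills _ allVars_kill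
  set e : MVar (Fin m) →₀ ℕ := ∑ j : Fin m, Finsupp.single ⟨j⟩ 1 with he
  have hFe : allVars m = monomial e 1 := by
    rw [he, allVars, monomial_sum_one]
    rfl
  set G := psiGamma m (allVars m) with hG
  set c := coeff e G with hc
  have hGc : G - C c * allVars m ∈ ordIdeal ℤ (degW (Fin m)) (m + 1) := by
    intro d hd
    rw [coeff_sub, hFe, C_mul_monomial, mul_one, coeff_monomial]
    by_cases hde : e = d
    · rw [if_pos hde, ← hde, hc, sub_self]
    · rw [if_neg hde, sub_zero]
      by_cases hz : ∃ j : Fin m, d ⟨j⟩ = 0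
      · obtain ⟨j, hj⟩ := hz
        rw [← coeff_aeval_update_zero G ⟨j⟩ d hj, hkill j, coeff_zero]
      · exfalso
        simp only [not_exists] at hz
        apply hde
        have hev : ∀ j : Fin m, e ⟨j⟩ = 1 := by
          intro j
          rw [he, Finsupp.finsetSum_apply, Finset.sum_eq_single j]
          · simp
          · intro i _ hi; rw [Finsupp.single_eq_of_ne]; intro h; exact hi (by cases h; rfl)
          · simp
        have hle : e ≤ d := by
          intro x
          obtain ⟨j⟩ := x
          rw [hev]; exact Nat.one_le_iff_ne_zero.2 (hz j)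
        obtain ⟨r, hr⟩ := exists_add_of_le hle
        rw [hr, map_add] at hd
        have hwe : Finsupp.weight (degW (Fin m)) e = m := by
          rw [he, map_sum]; simp [Finsupp.weight_apply, degW]
        have hr0 : r = 0 := by
          ext x
          by_contra hne
          have := Finsupp.le_weight (degW (Fin m)) (s := x) one_ne_zero r
          simp only [Finsupp.coe_zero, Pi.zero_apply] at hne
          omega
        rw [hr, hr0, add_zero]
  have hcv : c = (m.factorial : ℤ) := by
    have h0 := collapse_coeff_eq_zero hGc m (Nat.lt_succ_self m)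
    rw [map_sub, map_mul, Polynomial.coeff_sub, hG, collapse_psiGamma hm, allVars, map_prod] at h0
    simp only [collapse, aeval_X, Finset.prod_const, Finset.card_univ, Fintype.card_fin,
      MvPolynomial.aeval_C, algebraMap_int_eq, eq_intCast, map_intCast] at h0
    rw [← Polynomial.C_eq_intCast, Polynomial.coeff_C_mul, Polynomial.coeff_X_pow, if_pos rfl, mul_one] at h0
    simp only [Int.cast_id, id_eq] at h0
    linarith
  have h1 := psiGamma_congr hm hF
  rw [← hG] at h1
  have h2 := sub_mem hGc h1
  rw [hcv] at h2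
  obtain ⟨n, rfl⟩ : ∃ n, m = n + 1 := ⟨m - 1, by omega⟩
  rw [show n + 1 - 1 = n from rfl] at h2 ⊢
  intro d hd
  have h3 := h2 d hd
  have e1 : G - C ((n + 1).factorial : ℤ) * allVars (n + 1) -
      (G - (-1) ^ n * (((n + 1 : ℕ) : Mod (Fin (n + 1))) * gamma (n + 1) (allVars (n + 1)))) =
      C ((-1 : ℤ) ^ n * ((n + 1 : ℕ) : ℤ)) *
        (gamma (n + 1) (allVars (n + 1)) - (-1) ^ n * (n.factorial : Mod (Fin (n + 1))) * allVars (n + 1)) := by
    have hs : ((-1 : Mod (Fin (n + 1))) ^ n) * ((-1) ^ n) = 1 := by rw [← mul_pow]; simp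
    simp only [map_mul, map_pow, map_neg, map_one, map_natCast, Nat.factorial_succ, Nat.cast_mul]
    linear_combination ((n + 1 : ℕ) : Mod (Fin (n + 1))) * (n.factorial : Mod (Fin (n + 1))) *
      allVars (n + 1) * hs
  rw [e1, coeff_C_mul] at h3
  rcases mul_eq_zero.1 h3 with h | h
  · rcases mul_eq_zero.1 h with h' | h'
    · exact absurd (pow_eq_zero_iff'.1 h').1 (by norm_num)
    · exact absurd (Nat.cast_eq_zero.1 h') (Nat.succ_ne_zero n)
  · exact h

theorem gamma_lead {m : ℕ} (hm : 1 ≤ m) {f : Mod ι} (hf : f ∈ ordIdeal ℤ (degW ι) m) :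
    gamma m f - (-1) ^ (m - 1) * ((m - 1).factorial : Mod ι) * f ∈ ordIdeal ℤ (degW ι) (m + 1) := by
  classical
  set c : Mod ι := (-1) ^ (m - 1) * ((m - 1).factorial : Mod ι) with hc
  let W : AddSubgroup (Mod ι) :=
    { carrier := {f | f ∈ ordIdeal ℤ (degW ι) m ∧ gamma m f - c * f ∈ ordIdeal ℤ (degW ι) (m + 1)}
      zero_mem' := ⟨zero_mem _, by rw [gamma_of_zero m (by omega)]; simp⟩
      add_mem' := fun {a b} ha hb => by
        refine ⟨add_mem ha.1 hb.1, ?_⟩
        have h : gamma m (a + b) - (gamma m a + gamma m b) ∈ ordIdeal ℤ (degW ι) (m + 1) := by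
          obtain ⟨n, rfl⟩ : ∃ n, m = n + 1 := ⟨m - 1, by omega⟩
          rw [← coeff_gammaSeries (a + b), gammaSeries_add, PowerSeries.coeff_mul,
            Finset.Nat.sum_antidiagonal_eq_sum_range_succ
              (fun p q => PowerSeries.coeff p (gammaSeries a) * PowerSeries.coeff q (gammaSeries b)),
            Finset.sum_range_succ, Finset.sum_range_succ']
          simp only [coeff_gammaSeries, gamma_zero_op, one_mul, Nat.sub_zero, Nat.sub_self, mul_one]
          rw [show ∀ (s x y : Mod ι), s + y + x - (x + y) = s by intros; ring]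
          refine Ideal.sum_mem _ fun k hk => ?_
          have hk' := Finset.mem_range.1 hk
          exact ordIdeal_antitone _ (show n + 1 + 1 ≤ (n + 1) + (n + 1) by omega)
            (mul_mem_ordIdeal (gamma_mem_ordIdeal ha.1 _ (Nat.succ_pos k))
              (gamma_mem_ordIdeal hb.1 _ (by omega)))
        have := add_mem h (add_mem ha.2 hb.2)
        convert this using 1
        ring
      neg_mem' := fun {a} ha => by
        refine ⟨neg_mem ha.1, ?_⟩
        obtain ⟨n, rfl⟩ : ∃ n, m = n + 1 := ⟨m - 1, by omega⟩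
        have h := congrArg (PowerSeries.coeff (n + 1)) (gammaSeries_add a (-a))
        rw [add_neg_cancel, coeff_gammaSeries, gamma_of_zero _ (Nat.succ_ne_zero n), PowerSeries.coeff_mul,
          Finset.Nat.sum_antidiagonal_eq_sum_range_succ
            (fun p q => PowerSeries.coeff p (gammaSeries a) * PowerSeries.coeff q (gammaSeries (-a))),
          Finset.sum_range_succ, Finset.sum_range_succ'] at h
        simp only [coeff_gammaSeries, gamma_zero_op, one_mul, Nat.sub_zero, Nat.sub_self, mul_one] at h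
        have hS : ∑ k ∈ range n, gamma (k + 1) a * gamma (n + 1 - (k + 1)) (-a) ∈
            ordIdeal ℤ (degW ι) (n + 1 + 1) :=
          Ideal.sum_mem _ fun k hk => by
            have hk' := Finset.mem_range.1 hk
            exact ordIdeal_antitone _ (show n + 1 + 1 ≤ (n + 1) + (n + 1) by omega)
              (mul_mem_ordIdeal (gamma_mem_ordIdeal ha.1 _ (Nat.succ_pos k))
                (gamma_mem_ordIdeal (neg_mem ha.1) _ (by omega)))
        have := sub_mem (neg_mem hS) ha.2
        convert this using 1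
        linear_combination -h }
  suffices h : f ∈ W from h.2
  rw [f.as_sum]
  refine AddSubgroup.sum_mem _ fun d hd => ?_
  have hw : m ≤ Finsupp.weight (degW ι) d := by
    by_contra hlt
    exact (mem_support_iff.1 hd) (hf d (not_le.1 hlt))
  rw [show monomial d (coeff d f) = coeff d f • monomial d (1 : ℤ) by simp [smul_monomial]]
  refine AddSubgroup.zsmul_mem W (show monomial d (1 : ℤ) ∈ W from ⟨monomial_mem_ordIdeal _ d _ hw, ?_⟩) _
  rcases hw.lt_or_eq with hlt | heq
  · have h1 : monomial d (1 : ℤ) ∈ ordIdeal ℤ (degW ι) (m + 1) := monomial_mem_ordIdeal _ d _ hlt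
    exact sub_mem (gamma_mem_ordIdeal h1 m hm) (Ideal.mul_mem_left _ c h1)
  · obtain ⟨n, g, hn, hg⟩ := exists_modMap_allVars d
    obtain rfl : n = m := hn.trans heq.symm
    have := modMap_mem_ordIdeal g (gamma_lead_allVars hm)
    rw [map_sub, map_mul, hg, show modMap g (gamma n (allVars n)) = (modMap g).toRingHom _ from rfl,
      (lHom_modMap g).map_gamma, show (modMap g).toRingHom (allVars n) = modMap g (allVars n) from rfl, hg] at this
    simpa [hc] using this

end Groth.Agent.Lambda
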