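import Groth.Agent.Lambda.Binom
import Groth.Agent.Lambda.ModelGamma

/-!
# The γ-filtration of an augmented special λ-algebra over a binomial ring
-/

noncomputable section

set_option linter.style.haveILetI false
set_option linter.unusedSectionVars false
set_option linter.unusedSimpArgs false

open Finset LambdaRing MvPolynomial

namespace Groth.Agent.Lambda

universe u v w

/-- a multiplicative decreasing family of ideals starting from the whole ring -/
structure FiltFam {A : Type v} [CommRing A] (J : ℕ → Ideal A) : Prop where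
  zero : J 0 = ⊤
  anti : ∀ {m n : ℕ}, m ≤ n → J n ≤ J m
  mul : ∀ {m n : ℕ} {a b : A}, a ∈ J m → b ∈ J n → a * b ∈ J (m + n)

/-! ### universal statements -/

section Universal

variable {σ : Type u}

theorem fr_gamma_mem {m : ℕ} {u : Fr σ} (hm : 1 ≤ m) (hu : u ∈ ordIdeal ℤ (genW σ) m) (i : ℕ)
    (hi : 1 ≤ i) : gamma i u ∈ ordIdeal ℤ (genW σ) (max i m) :=
  mem_ordIdeal_of_theta fun N => by
    have h := theta_mem_ordIdeal N hu
    rw [theta_gamma]
    rcases max_cases i m with ⟨he, -⟩ | ⟨he, -⟩ <;> rw [he]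
    · exact gamma_mem_ordIdeal_self (ordIdeal_antitone _ hm h) i
    · exact gamma_mem_ordIdeal h i hi

theorem fr_gamma_lead {m : ℕ} {u : Fr σ} (hm : 1 ≤ m) (hu : u ∈ ordIdeal ℤ (genW σ) m) :
    gamma m u - (-1) ^ (m - 1) * ((m - 1).factorial : Fr σ) * u ∈ ordIdeal ℤ (genW σ) (m + 1) :=
  mem_ordIdeal_of_theta fun N => by
    have := gamma_lead hm (theta_mem_ordIdeal N hu)
    simpa [theta_gamma] using this

theorem fr_gamma_gen_mem (g : σ) (r : ℕ) : gamma r (gen g : Fr σ) ∈ ordIdeal ℤ (genW σ) r := by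
  cases r with
  | zero => simp [ordIdeal_zero]
  | succ r => rw [← X_eq_gamma_gen]; exact X_mem_ordIdeal (genW σ) ⟨g, r⟩

theorem gen_mem_ord_one (g : σ) : (gen g : Fr σ) ∈ ordIdeal ℤ (genW σ) 1 := by
  rw [← gamma_one_op (gen g)]; exact fr_gamma_gen_mem g 1

end Universal

variable {A : Type v} [CommRing A] [LambdaOps A]

theorem evalAt_mem_of_fam {σ : Type u} {J : ℕ → Ideal A} (hJ : FiltFam J) (x : σ → A)
    (hx : ∀ g k, gamma k (x g) ∈ J k) {n : ℕ} {u : Fr σ} (hu : u ∈ ordIdeal ℤ (genW σ) n) :
    evalAt x u ∈ J n := by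
  rw [u.as_sum, map_sum]
  refine Ideal.sum_mem _ fun d hd => ?_
  have hw : n ≤ Finsupp.weight (genW σ) d := by
    by_contra hlt
    exact (mem_support_iff.1 hd) (hu d (not_le.1 hlt))
  rw [evalAt, aeval_monomial]
  refine Ideal.mul_mem_left _ _ (hJ.anti hw ?_)
  clear hw hd
  rw [Finsupp.prod, Finsupp.weight_apply, Finsupp.sum]
  have hpow : ∀ {m : ℕ} {a : A}, a ∈ J m → ∀ k : ℕ, a ^ k ∈ J (k * m) := by
    intro m a ha k
    induction k with
    | zero => simp [hJ.zero]
    | succ k ih => rw [pow_succ, Nat.succ_mul]; exact hJ.mul ih ha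
  generalize d.support = s
  induction s using Finset.cons_induction with
  | empty => simp [hJ.zero]
  | cons a s ha ih =>
    rw [Finset.prod_cons, Finset.sum_cons]
    exact hJ.mul (by simpa using hpow (hx a.idx (a.lev + 1)) (d a)) ih

variable {K : Type w} [CommRing K] [LambdaOps K]

/-- scalar multiples: the coefficient of a power of `γ_t(w) - 1` -/
theorem coeff_pow_mem {J : ℕ → Ideal A} (hJ : FiltFam J) (w : A) {m : ℕ}
    (hw : ∀ i, 1 ≤ i → gamma i w ∈ J (max i m)) :
    ∀ k i, 1 ≤ k → PowerSeries.coeff i ((gammaSeries w - 1) ^ k) ∈ J (max i (k * m)) := by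
  intro k
  induction k with
  | zero => intro i h; omega
  | succ k ih =>
    intro i _
    have hbase : ∀ i, PowerSeries.coeff i (gammaSeries w - 1) ∈ J (max i m) := by
      intro i
      cases i with
      | zero => simp [map_sub, coeff_gammaSeries, gamma_zero_op]
      | succ i => simpa [map_sub, coeff_gammaSeries] using hw (i + 1) (by omega)
    rcases Nat.eq_zero_or_pos k with rfl | hk
    · simpa using hbase i
    rw [pow_succ, PowerSeries.coeff_mul]
    refine Ideal.sum_mem _ fun x hx => hJ.anti ?_ (hJ.mul (ih x.1 hk) (hbase x.2))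
    have := Finset.mem_antidiagonal.1 hx
    have : (k + 1) * m = k * m + m := Nat.succ_mul k m
    omega

section Scalar

variable [BinomialRing K] [Algebra K A]

/-- `γ^i` of a scalar multiple, modulo deeper terms -/
theorem gamma_scalar_congr (hKb : IsBinomial K) (hA : IsSpecial A) (hKA : IsLambdaAlg K A)
    {J : ℕ → Ideal A} (hJ : FiltFam J) {w : A} {m : ℕ}
    (hw : ∀ i, 1 ≤ i → gamma i w ∈ J (max i m)) (c : K) (i : ℕ) (hi : 1 ≤ i) :
    gamma i (algebraMap K A c * w) - algebraMap K A c * gamma i w ∈ J (max i (2 * m)) := by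
  obtain ⟨n, rfl⟩ : ∃ n, i = n + 1 := ⟨i - 1, by omega⟩
  rw [gamma_scalar_mul hKb hA hKA, Finset.sum_range_succ', Finset.sum_range_succ']
  have h1 : algebraMap K A (Ring.choose c (0 + 1)) * PowerSeries.coeff (n + 1) ((gammaSeries w - 1) ^ (0 + 1)) =
      algebraMap K A c * gamma (n + 1) w := by
    simp [Ring.choose_one_right, coeff_gammaSeries, PowerSeries.coeff_one]
  have h0 : algebraMap K A (Ring.choose c 0) * PowerSeries.coeff (n + 1) ((gammaSeries w - 1) ^ 0) = 0 := by
    simp [PowerSeries.coeff_one]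
  rw [h1, h0, add_zero, add_sub_cancel_right]
  refine Ideal.sum_mem _ fun k _ => Ideal.mul_mem_left _ _ ?_
  refine hJ.anti ?_ (coeff_pow_mem hJ w hw (k + 1 + 1) (n + 1) (by omega))
  have : 2 * m ≤ (k + 1 + 1) * m := Nat.mul_le_mul_right m (by omega)
  omega

/-- elements whose `γ^i` lie in `J_{max i m}` -/
def goodSub (hKb : IsBinomial K) (hA : IsSpecial A) (hKA : IsLambdaAlg K A)
    {J : ℕ → Ideal A} (hJ : FiltFam J) (m : ℕ) : Submodule K A where
  carrier := {w | ∀ i, 1 ≤ i → gamma i w ∈ J (max i m)}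
  zero_mem' := fun i hi => by rw [gamma_of_zero i (by omega)]; exact zero_mem _
  add_mem' := fun {a b} ha hb i hi => by
    rw [← coeff_gammaSeries, gammaSeries_add, PowerSeries.coeff_mul]
    refine Ideal.sum_mem _ fun x hx => ?_
    have hx' := Finset.mem_antidiagonal.1 hx
    rw [coeff_gammaSeries, coeff_gammaSeries]
    rcases Nat.eq_zero_or_pos x.1 with h1 | h1
    · rw [show x.2 = i by omega]; exact Ideal.mul_mem_left _ _ (hb i hi)
    rcases Nat.eq_zero_or_pos x.2 with h2 | h2
    · rw [show x.1 = i by omega]; exact Ideal.mul_mem_right _ _ (ha i hi)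
    exact hJ.anti (by omega) (hJ.mul (ha _ h1) (hb _ h2))
  smul_mem' := fun c w hw i hi => by
    rw [Algebra.smul_def]
    have h := hJ.anti (show max i m ≤ max i (2 * m) by omega) (gamma_scalar_congr hKb hA hKA hJ hw c i hi)
    have := add_mem h (Ideal.mul_mem_left _ (algebraMap K A c) (hw i hi))
    rwa [sub_add_cancel] at this

theorem evalAt_mem_good (hKb : IsBinomial K) (hA : IsSpecial A) (hKA : IsLambdaAlg K A)
    {J : ℕ → Ideal A} (hJ : FiltFam J) {σ : Type u} (x : σ → A) (hx : ∀ g k, gamma k (x g) ∈ J k)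
    {m : ℕ} (hm : 1 ≤ m) {u : Fr σ} (hu : u ∈ ordIdeal ℤ (genW σ) m) :
    evalAt x u ∈ goodSub hKb hA hKA hJ m := fun i hi => by
  rw [← evalAt_gamma hA x i u]
  exact evalAt_mem_of_fam hJ x hx (fr_gamma_mem hm hu i hi)

end Scalar

/-! ### the filtration -/

section Fil

/-- the generators -/
def filGens (ε : A → K) (n : ℕ) : Set A :=
  {y | ∃ l : List (ℕ × A), (∀ p ∈ l, ε p.2 = 0) ∧ n ≤ (l.map Prod.fst).sum ∧
    y = (l.map fun p => gamma p.1 p.2).prod}

theorem filFam (ε : A →+* K) : FiltFam (gammaFil ε) where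
  zero := by
    rw [eq_top_iff]
    intro a _
    have : (1 : A) ∈ gammaFil ε 0 := Ideal.subset_span ⟨[], by simp, by simp, by simp⟩
    simpa using Ideal.mul_mem_left _ a this
  anti h := Ideal.span_mono fun y ⟨l, hl, hs, hy⟩ => ⟨l, hl, h.trans hs, hy⟩
  mul {m n a b} ha hb := by
    induction ha using Submodule.span_induction with
    | mem x hx =>
      induction hb using Submodule.span_induction with
      | mem y hy =>
        obtain ⟨l, hl, hs, rfl⟩ := hx
        obtain ⟨l', hl', hs', rfl⟩ := hy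
        refine Ideal.subset_span ⟨l ++ l', ?_, ?_, by simp⟩
        · intro p hp; rcases List.mem_append.1 hp with h | h; exacts [hl p h, hl' p h]
        · rw [List.map_append, List.sum_append]; omega
      | zero => rw [mul_zero]; exact zero_mem _
      | add y z _ _ hy hz => rw [mul_add]; exact add_mem hy hz
      | smul c y _ hy => rw [smul_eq_mul, mul_left_comm]; exact Ideal.mul_mem_left _ _ hy
    | zero => rw [zero_mul]; exact zero_mem _
    | add x y _ _ hx hy => rw [add_mul]; exact add_mem hx hy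
    | smul c x _ hx => rw [smul_eq_mul, mul_assoc]; exact Ideal.mul_mem_left _ _ hx

theorem gamma_mem_gammaFil (ε : A →+* K) {x : A} (hx : ε x = 0) (k : ℕ) :
    gamma k x ∈ gammaFil ε k :=
  Ideal.subset_span ⟨[(k, x)], by simp [hx], by simp, by simp⟩

theorem evalAt_mem_gammaFil (ε : A →+* K) {σ : Type u} (x : σ → A) (hx : ∀ g, ε (x g) = 0) {n : ℕ}
    {u : Fr σ} (hu : u ∈ ordIdeal ℤ (genW σ) n) : evalAt x u ∈ gammaFil ε n :=
  evalAt_mem_of_fam (filFam ε) x (fun g k => gamma_mem_gammaFil ε (hx g) k) hu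

/-- a product of γ's is the image of an element of the free ring of the same weight -/
theorem exists_fr_of_list (hA : IsSpecial A) (l : List (ℕ × A)) :
    ∃ u : Fr (Fin l.length), u ∈ ordIdeal ℤ (genW _) (l.map Prod.fst).sum ∧
      evalAt (fun j : Fin l.length => (l.get j).2) u = (l.map fun p => gamma p.1 p.2).prod := by
  refine ⟨∏ j : Fin l.length, gamma (l.get j).1 (gen j), ?_, ?_⟩
  · have := prod_mem_ordIdeal (w := genW (Fin l.length)) (R := ℤ) (univ : Finset (Fin l.length))
      (fun j => gamma (l.get j).1 (gen j)) (fun j => (l.get j).1) fun j _ => fr_gamma_gen_mem j _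
    rwa [show ∑ j : Fin l.length, (l.get j).1 = (l.map Prod.fst).sum by
      conv_rhs => rw [← List.ofFn_get l, List.map_ofFn, List.sum_ofFn]
      rfl] at this
  · rw [map_prod]
    conv_rhs => rw [← List.ofFn_get l, List.map_ofFn, List.prod_ofFn]
    refine Finset.prod_congr rfl fun j _ => ?_
    rw [evalAt_gamma hA, evalAt_gen]
    rfl

variable [Algebra K A]

theorem gammaFil_le_span (ε : A →ₐ[K] K) (n : ℕ) :
    (gammaFil (ε : A →+* K) n).restrictScalars K = Submodule.span K (filGens ε n) := by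
  refine le_antisymm ?_ (Submodule.span_le.2 fun y hy => Ideal.subset_span hy)
  intro z hz
  rw [Submodule.restrictScalars_mem] at hz
  induction hz using Submodule.span_induction with
  | mem x hx => exact Submodule.subset_span hx
  | zero => exact zero_mem _
  | add x y _ _ hx hy => exact add_mem hx hy
  | smul a x hmem hx =>
    rw [smul_eq_mul]
    clear hmem
    induction hx using Submodule.span_induction with
    | mem y hy =>
      obtain ⟨l, hl, hs, rfl⟩ := hy
      rw [show a = (a - algebraMap K A (ε a)) + algebraMap K A (ε a) by ring, add_mul, ← Algebra.smul_def]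
      refine add_mem (Submodule.subset_span ⟨(1, a - algebraMap K A (ε a)) :: l, ?_, ?_, ?_⟩)
        (Submodule.smul_mem _ _ (Submodule.subset_span ⟨l, hl, hs, rfl⟩))
      · intro p hp
        rcases List.mem_cons.1 hp with rfl | hp
        · simp
        · exact hl p hp
      · rw [List.map_cons, List.sum_cons]; omega
      · simp [gamma_one_op]
    | zero => rw [mul_zero]; exact zero_mem _
    | add y z _ _ hy hz => rw [mul_add]; exact add_mem hy hz
    | smul c y _ hy => rw [mul_smul_comm]; exact Submodule.smul_mem _ c hy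

variable [BinomialRing K]

theorem gammaFil_le_good (hKb : IsBinomial K) (hA : IsSpecial A) (hKA : IsLambdaAlg K A) (ε : A →ₐ[K] K)
    {m : ℕ} (hm : 1 ≤ m) :
    (gammaFil (ε : A →+* K) m).restrictScalars K ≤ goodSub hKb hA hKA (filFam (ε : A →+* K)) m := by
  rw [gammaFil_le_span]
  refine Submodule.span_le.2 ?_
  rintro _ ⟨l, hl, hs, rfl⟩
  obtain ⟨u, hu, he⟩ := exists_fr_of_list hA l
  rw [← he]
  exact evalAt_mem_good hKb hA hKA _ _
    (fun g k => gamma_mem_gammaFil (ε : A →+* K) (hl _ (List.get_mem l g)) k) hm (ordIdeal_antitone _ hs hu)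

theorem gamma_gammaFil_mem (hKb : IsBinomial K) (hA : IsSpecial A) (hKA : IsLambdaAlg K A) (ε : A →ₐ[K] K)
    {m : ℕ} (hm : 1 ≤ m) {z : A} (hz : z ∈ gammaFil (ε : A →+* K) m) (i : ℕ) (hi : 1 ≤ i) :
    gamma i z ∈ gammaFil (ε : A →+* K) (max i m) :=
  gammaFil_le_good hKb hA hKA ε hm hz i hi

theorem gammaFil_lead (hKb : IsBinomial K) (hA : IsSpecial A) (hKA : IsLambdaAlg K A) (ε : A →ₐ[K] K)
    {m : ℕ} (hm : 1 ≤ m) {z : A} (hz : z ∈ gammaFil (ε : A →+* K) m) :
    gamma m z - (-1 : A) ^ (m - 1) * ((m - 1).factorial : A) * z ∈ gammaFil (ε : A →+* K) (m + 1) := by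
  set c : A := (-1 : A) ^ (m - 1) * ((m - 1).factorial : A) with hc
  have hJ := filFam (ε : A →+* K)
  have hz' : z ∈ Submodule.span K (filGens ε m) := by rw [← gammaFil_le_span]; exact hz
  clear hz
  induction hz' using Submodule.span_induction with
  | mem x hx =>
    obtain ⟨l, hl, hs, rfl⟩ := hx
    obtain ⟨u, hu, he⟩ := exists_fr_of_list hA l
    have := evalAt_mem_gammaFil (ε : A →+* K) (fun j : Fin l.length => (l.get j).2)
      (fun g => hl _ (List.get_mem l g)) (fr_gamma_lead hm (ordIdeal_antitone _ hs hu))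
    rw [map_sub, map_mul, evalAt_gamma hA, he] at this
    simpa [hc] using this
  | zero => rw [gamma_of_zero m (by omega)]; simp
  | add a b ha hb hra hrb =>
    have ha' := gamma_gammaFil_mem hKb hA hKA ε hm (show a ∈ gammaFil (ε : A →+* K) m from by
      have := (gammaFil_le_span ε m).ge ha; exact this)
    have hb' := gamma_gammaFil_mem hKb hA hKA ε hm (show b ∈ gammaFil (ε : A →+* K) m from by
      have := (gammaFil_le_span ε m).ge hb; exact this)
    have h : gamma m (a + b) - (gamma m a + gamma m b) ∈ gammaFil (ε : A →+* K) (m + 1) := by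
      obtain ⟨n, rfl⟩ : ∃ n, m = n + 1 := ⟨m - 1, by omega⟩
      rw [← coeff_gammaSeries (a + b), gammaSeries_add, PowerSeries.coeff_mul,
        Finset.Nat.sum_antidiagonal_eq_sum_range_succ
          (fun p q => PowerSeries.coeff p (gammaSeries a) * PowerSeries.coeff q (gammaSeries b)),
        Finset.sum_range_succ, Finset.sum_range_succ']
      simp only [coeff_gammaSeries, gamma_zero_op, one_mul, Nat.sub_zero, Nat.sub_self, mul_one]
      rw [show ∀ (s x y : A), s + y + x - (x + y) = s by intros; ring]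
      refine Ideal.sum_mem _ fun k hk => ?_
      have hk' := Finset.mem_range.1 hk
      exact hJ.anti (show n + 1 + 1 ≤ max (k + 1) (n + 1) + max (n + 1 - (k + 1)) (n + 1) by omega)
        (hJ.mul (ha' _ (Nat.succ_pos k)) (hb' _ (by omega)))
    have := add_mem h (add_mem hra hrb)
    convert this using 1
    ring
  | smul r a ha hra =>
    have ha' : a ∈ gammaFil (ε : A →+* K) m := (gammaFil_le_span ε m).ge ha
    have h := hJ.anti (show m + 1 ≤ max m (2 * m) by omega)
      (gamma_scalar_congr hKb hA hKA hJ (gamma_gammaFil_mem hKb hA hKA ε hm ha') r m hm)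
    rw [Algebra.smul_def]
    have := add_mem h (Ideal.mul_mem_left _ (algebraMap K A r) hra)
    convert this using 1
    ring

/-- the γ-filtration is contained in any stable family -/
theorem gammaFil_le_fam (ε : A →+* K) {J : ℕ → Ideal A} (hJ : FiltFam J)
    (h : ∀ z, ε z = 0 → ∀ i, gamma i z ∈ J i) (n : ℕ) : gammaFil ε n ≤ J n := by
  refine Ideal.span_le.2 ?_
  rintro _ ⟨l, hl, hs, rfl⟩
  refine hJ.anti hs ?_
  clear hs
  induction l with
  | nil => simp [hJ.zero]
  | cons p l ih =>
    rw [List.map_cons, List.map_cons, List.sum_cons, List.prod_cons]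
    exact hJ.mul (h _ (hl p List.mem_cons_self) _) (ih fun q hq => hl q (List.mem_cons_of_mem _ hq))

end Fil

end Groth.Agent.Lambda
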