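import Groth.Prelude.Def_KGr
import Groth.Agent.Lambda.EigenDecomp

/-!
# The associated graded ring and the Chern classes
-/

noncomputable section

open Finset LambdaRing LaurentPolynomial
open scoped TensorProduct

namespace Groth.Agent.Lambda

universe u

variable {K : Type u} [CommRing K] [LambdaOps K] {P : PosStructure K}

theorem fil_mul {m n : ℕ} {x y : K} (hx : x ∈ gammaFiltration P m) (hy : y ∈ gammaFiltration P n) :
    x * y ∈ gammaFiltration P (m + n) := by
  letI := intOps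
  rw [mem_gammaFiltration_iff] at hx hy ⊢
  exact (filFam P.aug).mul hx hy

theorem fil_ideal {n : ℕ} (a : K) {x : K} (hx : x ∈ gammaFiltration P n) : a * x ∈ gammaFiltration P n := by
  letI := intOps
  rw [mem_gammaFiltration_iff] at hx ⊢
  exact Ideal.mul_mem_left _ a hx

theorem fil_zero (x : K) : x ∈ gammaFiltration P 0 := by simp [gammaFiltration]

theorem gamma_mem_fil {x : K} (hx : P.aug x = 0) (k : ℕ) : gamma k x ∈ gammaFiltration P k := by
  letI := intOps
  rw [mem_gammaFiltration_iff]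
  exact gamma_mem_gammaFil P.aug hx k

theorem fil_aug {x : K} (hx : P.aug x = 0) : x ∈ gammaFiltration P 1 := by
  rw [← gamma_one_op x]; exact gamma_mem_fil hx 1

theorem aug_sub (x : K) : P.aug (x - (P.aug x : K)) = 0 := by
  rw [map_sub, map_intCast, Int.cast_id, sub_self]

/-- coefficient description of the Rees ring -/
theorem coeff_mem_of_rees {p : LaurentPolynomial K} (hp : p ∈ KGr.rees P) (n : ℕ) :
    p.coeff (-(n : ℤ)) ∈ gammaFiltration P n := by
  have key : ∀ n : ℤ, p.coeff n ∈ gammaFiltration P (-n).toNat := by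
    induction hp using Subring.closure_induction with
    | mem q hq =>
      intro n
      rcases hq with rfl | ⟨k, x, hx, rfl⟩
      · rw [LaurentPolynomial.T_apply]
        split
        · next h => subst h; exact fil_zero 1
        · exact zero_mem _
      · rw [← LaurentPolynomial.single_eq_C_mul_T, AddMonoidAlgebra.coeff_single, Finsupp.single_apply]
        split
        · next h => subst h; simpa using hx
        · exact zero_mem _
    | zero => intro n; simp
    | one =>
      intro n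
      rw [← LaurentPolynomial.T_zero, LaurentPolynomial.T_apply]
      split
      · next h => subst h; exact fil_zero 1
      · exact zero_mem _
    | add a b _ _ ha hb => intro n; rw [AddMonoidAlgebra.coeff_add, Finsupp.add_apply]; exact add_mem (ha n) (hb n)
    | neg a _ ha => intro n; rw [AddMonoidAlgebra.coeff_neg, Finsupp.neg_apply]; exact neg_mem (ha n)
    | mul a b _ _ ha hb =>
      intro n
      rw [AddMonoidAlgebra.coeff_mul, Finsupp.sum]
      refine AddSubgroup.sum_mem _ fun i _ => ?_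
      rw [Finsupp.sum]
      refine AddSubgroup.sum_mem _ fun j _ => ?_
      split
      · next h =>
        subst h
        exact gammaFiltration_anti P (by omega) (fil_mul (ha i) (hb j))
      · exact zero_mem _
  simpa using key (-(n : ℤ))

theorem C_mul_T_mem_rees {n : ℕ} {x : K} (hx : x ∈ gammaFiltration P n) :
    C x * T (-(n : ℤ)) ∈ KGr.rees P :=
  Subring.subset_closure (Set.mem_insert_of_mem _ ⟨n, x, hx, rfl⟩)

variable (P) in
/-- the class of `x ∈ F^n` in degree `n` -/
def cls (n : ℕ) : gammaFiltration P n →+ KGr.Gr P :=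
  AddMonoidHom.mk' (fun x => (1 : ℚ) ⊗ₜ[ℤ] Ideal.Quotient.mk (Ideal.span {KGr.tGen P})
    ⟨C (x : K) * T (-(n : ℤ)), C_mul_T_mem_rees x.2⟩) fun x y => by
      rw [← TensorProduct.tmul_add, ← map_add]
      congr 2
      apply Subtype.ext
      show C ((x : K) + y) * T (-(n : ℤ)) = C (x : K) * T (-(n : ℤ)) + C (y : K) * T (-(n : ℤ))
      rw [map_add, add_mul]

theorem cls_eq_zero {n : ℕ} {x : K} (hx : x ∈ gammaFiltration P n) (hx' : x ∈ gammaFiltration P (n + 1)) :
    cls P n ⟨x, hx⟩ = 0 := by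
  show (1 : ℚ) ⊗ₜ[ℤ] _ = 0
  rw [Ideal.Quotient.eq_zero_iff_mem.2, TensorProduct.tmul_zero]
  refine Ideal.mem_span_singleton'.2 ⟨⟨_, C_mul_T_mem_rees hx'⟩, Subtype.ext ?_⟩
  show C x * T (-((n + 1 : ℕ) : ℤ)) * T 1 = C x * T (-(n : ℤ))
  rw [mul_assoc, ← T_add]
  congr 2
  push_cast
  ring

theorem cls_congr {m n : ℕ} {x y : K} (hx : x ∈ gammaFiltration P m) (hy : y ∈ gammaFiltration P n)
    (hmn : m = n) (hxy : x = y) : cls P m ⟨x, hx⟩ = cls P n ⟨y, hy⟩ := by subst hmn hxy; rfl

theorem cls_mul {m n : ℕ} {x y : K} (hx : x ∈ gammaFiltration P m) (hy : y ∈ gammaFiltration P n) :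
    cls P m ⟨x, hx⟩ * cls P n ⟨y, hy⟩ = cls P (m + n) ⟨x * y, fil_mul hx hy⟩ := by
  show ((1 : ℚ) ⊗ₜ[ℤ] _) * ((1 : ℚ) ⊗ₜ[ℤ] _) = (1 : ℚ) ⊗ₜ[ℤ] _
  rw [Algebra.TensorProduct.tmul_mul_tmul, mul_one, ← map_mul]
  congr 2
  apply Subtype.ext
  show C x * T (-(m : ℤ)) * (C y * T (-(n : ℤ))) = C (x * y) * T (-((m + n : ℕ) : ℤ))
  rw [mul_mul_mul_comm, ← map_mul, ← T_add]
  congr 2
  push_cast
  ring

theorem cls_one : cls P 0 ⟨1, fil_zero 1⟩ = 1 := by
  show (1 : ℚ) ⊗ₜ[ℤ] _ = (1 : KGr.Gr P)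
  rw [Algebra.TensorProduct.one_def]
  congr 1
  rw [← map_one (Ideal.Quotient.mk (Ideal.span {KGr.tGen P}))]
  congr 1
  apply Subtype.ext
  show C (1 : K) * T (-((0 : ℕ) : ℤ)) = 1
  rw [map_one, one_mul]
  simp

/-- an element of `F^n` has class `cls n` -/
theorem grK_eq_cls {n : ℕ} {x : K} (hx : x ∈ gammaFiltration P n) : KGr.grK P n x = cls P n ⟨x, hx⟩ := by
  classical
  have h : ∃ N : ℕ, 1 ≤ N ∧ C ((N : K) * x) * T (-(n : ℤ)) ∈ KGr.rees P :=
    ⟨1, le_rfl, by rw [Nat.cast_one, one_mul]; exact C_mul_T_mem_rees hx⟩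
  rw [KGr.grK, dif_pos h]
  suffices aux : ∀ N : ℕ, 1 ≤ N → ∀ hmem : C ((N : K) * x) * T (-(n : ℤ)) ∈ KGr.rees P,
      ((1 : ℚ) / (N : ℚ)) ⊗ₜ[ℤ] Ideal.Quotient.mk (Ideal.span {KGr.tGen P}) ⟨C ((N : K) * x) * T (-(n : ℤ)), hmem⟩ =
        cls P n ⟨x, hx⟩ from aux _ h.choose_spec.1 h.choose_spec.2
  intro N hN hmem
  have hNx : (⟨C ((N : K) * x) * T (-(n : ℤ)), hmem⟩ : KGr.rees P) =
      N • ⟨C x * T (-(n : ℤ)), C_mul_T_mem_rees hx⟩ := by
    apply Subtype.ext
    show C ((N : K) * x) * T (-(n : ℤ)) = _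
    rw [AddSubmonoidClass.coe_nsmul, nsmul_eq_mul, map_mul, map_natCast, mul_assoc]
  rw [hNx, map_nsmul, TensorProduct.tmul_smul, TensorProduct.smul_tmul', nsmul_eq_mul, mul_one_div_cancel
    (Nat.cast_ne_zero.2 (by omega))]
  rfl

theorem chern_eq_cls (i : ℕ) (x : K) :
    KGr.chern P i x = cls P i ⟨gamma i (x - (P.aug x : K)), gamma_mem_fil (aug_sub x) i⟩ :=
  grK_eq_cls _

variable (P) in
/-- the total Chern class -/
def cSer (x : K) : PowerSeries (KGr.Gr P) := PowerSeries.mk fun i => KGr.chern P i x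

theorem coeff_cSer (x : K) (i : ℕ) : PowerSeries.coeff i (cSer P x) = KGr.chern P i x := PowerSeries.coeff_mk i _

theorem cc_cSer (x : K) : CC (cSer P x) := by
  show PowerSeries.constantCoeff _ = 1
  rw [← PowerSeries.coeff_zero_eq_constantCoeff_apply, coeff_cSer, chern_eq_cls, ← cls_one]
  exact cls_congr _ _ rfl (gamma_zero_op _)

theorem cSer_add (x y : K) : cSer P (x + y) = cSer P x * cSer P y := by
  ext n
  rw [coeff_cSer, chern_eq_cls, PowerSeries.coeff_mul, Finset.Nat.sum_antidiagonal_eq_sum_range_succ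
    (fun i j => PowerSeries.coeff i (cSer P x) * PowerSeries.coeff j (cSer P y))]
  have hx := aug_sub (P := P) x
  have hy := aug_sub (P := P) y
  have hmem : ∀ i ∈ range (n + 1), gamma i (x - (P.aug x : K)) * gamma (n - i) (y - (P.aug y : K)) ∈
      gammaFiltration P n := fun i hi =>
    gammaFiltration_anti P (by have := Finset.mem_range_succ_iff.1 hi; omega)
      (fil_mul (gamma_mem_fil hx i) (gamma_mem_fil hy (n - i)))
  rw [show (⟨gamma n (x + y - (P.aug (x + y) : K)), gamma_mem_fil (aug_sub _) n⟩ : gammaFiltration P n) =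
      ∑ i ∈ (range (n + 1)).attach, ⟨_, hmem i.1 i.2⟩ by
    apply Subtype.ext
    rw [AddSubmonoidClass.coe_finsetSum, Finset.sum_attach (range (n + 1))
        (fun i => gamma i (x - (P.aug x : K)) * gamma (n - i) (y - (P.aug y : K)))]
    show gamma n (x + y - (P.aug (x + y) : K)) = _
    rw [
      show x + y - (P.aug (x + y) : K) = (x - (P.aug x : K)) + (y - (P.aug y : K)) by
        rw [map_add, Int.cast_add]; ring,
      ← coeff_gammaSeries, gammaSeries_add, PowerSeries.coeff_mul, Finset.Nat.sum_antidiagonal_eq_sum_range_succ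
        (fun i j => PowerSeries.coeff i (gammaSeries (x - (P.aug x : K))) *
          PowerSeries.coeff j (gammaSeries (y - (P.aug y : K))))]
    simp only [coeff_gammaSeries]]
  rw [map_sum, ← Finset.sum_attach (range (n + 1))
    (fun i => PowerSeries.coeff i (cSer P x) * PowerSeries.coeff (n - i) (cSer P y))]
  refine Finset.sum_congr rfl fun i _ => ?_
  rw [coeff_cSer, coeff_cSer, chern_eq_cls, chern_eq_cls, cls_mul]
  exact cls_congr _ _ (by have := Finset.mem_range_succ_iff.1 i.2; omega) rfl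

end Groth.Agent.Lambda
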