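import Groth.Agent.Lambda.Splitting
import Groth.Prelude.Def_W4bkmilneecrracsp2Inv

/-!
# Involutions of λ-rings with positive structure
-/

noncomputable section

open Finset LambdaRing

namespace Groth.Agent.Lambda

universe u

theorem esymm_eq_prod_mul {R : Type u} [CommRing R] (g : R → R) (s : Multiset R) :
    (∀ u ∈ s, g u * u = 1) → ∀ i, i ≤ Multiset.card s →
      s.esymm i = (s.map g).esymm (Multiset.card s - i) * s.prod := by
  induction s using Multiset.induction with
  | empty => intro _ i hi; simp at hi; subst hi; simp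
  | cons a s ih =>
    intro hg i hi
    have hga := hg a (Multiset.mem_cons_self a s)
    have hgs : ∀ u ∈ s, g u * u = 1 := fun u hu => hg u (Multiset.mem_cons_of_mem hu)
    have h0 : ∀ t : Multiset R, t.esymm 0 = 1 := fun t => by simp [Multiset.esymm]
    have hgt : (s.map g).esymm (Multiset.card s) * s.prod = 1 := by
      rw [← h0 s, ih hgs 0 (Nat.zero_le _), Nat.sub_zero]
    have hbig : ∀ t : Multiset R, ∀ k, Multiset.card t < k → t.esymm k = 0 := fun t k hk => by
      simp [Multiset.esymm, Multiset.powersetCard_eq_empty k hk]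
    rw [Multiset.card_cons] at hi ⊢
    rw [Multiset.prod_cons, Multiset.map_cons]
    cases i with
    | zero =>
      rw [h0, Nat.sub_zero, esymm_cons_succ, hbig _ _ (by simp), zero_add]
      linear_combination (-(g a * a)) * hgt - hga
    | succ i =>
      rw [esymm_cons_succ, show Multiset.card s + 1 - (i + 1) = Multiset.card s - i by omega]
      rcases (Nat.le_of_succ_le_succ hi).lt_or_eq with hlt | rfl
      · rw [show Multiset.card s - i = (Multiset.card s - (i + 1)) + 1 by omega, esymm_cons_succ,
          ih hgs i (by omega), ih hgs (i + 1) (by omega),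
          show Multiset.card s - i = (Multiset.card s - (i + 1)) + 1 by omega]
        linear_combination (-((s.map g).esymm (Multiset.card s - (i + 1)) * s.prod)) * hga
      · rw [Nat.sub_self, h0, hbig s _ (Nat.lt_succ_self _), zero_add, ih hgs _ le_rfl, Nat.sub_self, h0,
          one_mul, one_mul]

variable {K : Type u} [CommRing K] [LambdaOps K]

theorem IsInvolution.map_sum {P : PosStructure K} {inv : K → K} (hV : IsInvolution P inv) (s : Multiset K) :
    inv s.sum = (s.map inv).sum := by
  have h0 : inv 0 = 0 := by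
    have := hV.map_add 0 0
    rw [add_zero] at this
    exact left_eq_add.1 this
  induction s using Multiset.induction with
  | empty => simpa using h0
  | cons a s ih => rw [Multiset.sum_cons, hV.map_add, ih, Multiset.map_cons, Multiset.sum_cons]

/-- the rank facts about `e` and its dual -/
theorem inv_lam {P : PosStructure K} {inv : K → K} (hS : HasInvSplitting P inv) {e : K} (he : e ∈ P.pos) :
    (∀ i, i ≤ (P.aug e).toNat →
      LambdaOps.lam i e = LambdaOps.lam ((P.aug e).toNat - i) (inv e) * LambdaOps.lam (P.aug e).toNat e) ∧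
    (∀ i, i ≤ (P.aug e).toNat →
      LambdaOps.lam i (inv e) =
        LambdaOps.lam ((P.aug e).toNat - i) e * LambdaOps.lam (P.aug e).toNat (inv e)) ∧
    P.aug (LambdaOps.lam (P.aug e).toNat (inv e)) = 1 := by
  obtain ⟨L, inv', f, hf, hV', hinv, s, hs, hse⟩ := hS e he
  have hm : P.aug e = (Multiset.card s : ℤ) := by rw [← hf.aug_comp, ← hse, aug_sum_lines s hs]
  rw [hm, Int.toNat_natCast]
  have hlam : ∀ i, f (LambdaOps.lam i e) = s.esymm i := fun i => by
    rw [(IsExtension.lHom hf).map_lam, ← hse, lam_sum_lines s fun v hv => line_lam (hs v hv)]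
  have hs' : ∀ v ∈ s.map inv', L.posStr.IsLine v := fun v hv => by
    obtain ⟨w, hw, rfl⟩ := Multiset.mem_map.1 hv
    exact hV'.inv_line w (hs w hw)
  have hlam' : ∀ i, f (LambdaOps.lam i (inv e)) = (s.map inv').esymm i := fun i => by
    rw [(IsExtension.lHom hf).map_lam, hinv, ← hse, IsInvolution.map_sum hV',
      lam_sum_lines _ fun v hv => line_lam (hs' v hv)]
  refine ⟨fun i hi => hf.injective ?_, fun i hi => hf.injective ?_, ?_⟩
  · rw [map_mul, hlam, hlam, hlam', esymm_eq_prod_mul inv' s (fun v hv => hV'.inv_mul_self v (hs v hv)) i hi]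
    congr 1
    simp [Multiset.esymm, Multiset.powersetCard_self]
  · rw [map_mul, hlam', hlam, hlam']
    have h := esymm_eq_prod_mul inv' (s.map inv') (fun v hv => hV'.inv_mul_self v (hs' v hv)) i
      (by rw [Multiset.card_map]; exact hi)
    rw [Multiset.map_map, show inv' ∘ inv' = id from funext hV'.inv_inv, Multiset.map_id,
      Multiset.card_map] at h
    rw [h]
    congr 1
    rw [show Multiset.card s = Multiset.card (s.map inv') by simp, Multiset.esymm, Multiset.powersetCard_self]
    simp
  · rw [← hf.aug_comp, hlam', Multiset.esymm, show Multiset.card s = Multiset.card (s.map inv') by simp,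
      Multiset.powersetCard_self]
    simp only [Multiset.map_singleton, Multiset.sum_singleton, map_multiset_prod]
    exact Multiset.prod_eq_one fun a ha => by
      obtain ⟨v, hv, rfl⟩ := Multiset.mem_map.1 ha
      exact (hs' v hv).2

theorem gamma_rank_eq (P : PosStructure K) (e : K) (m : ℕ) :
    gamma m (e - (m : K)) = (-1 : K) ^ m * ∑ i ∈ range (m + 1), (-1 : K) ^ i * LambdaOps.lam i e := by
  rw [gamma_eq_lam_add (pos_lam_one P), sub_add_cancel, lam_add_sub_one (pos_lam_one P)]

theorem gamma_rank_inv {P : PosStructure K} {inv : K → K} (hS : HasInvSplitting P inv) {e : K}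
    (he : e ∈ P.pos) :
    gamma (P.aug e).toNat (e - ((P.aug e).toNat : K)) =
      (∑ i ∈ range ((P.aug e).toNat + 1), (-1 : K) ^ i * LambdaOps.lam i (inv e)) *
        LambdaOps.lam (P.aug e).toNat e := by
  obtain ⟨h, -, -⟩ := inv_lam hS he
  rw [gamma_rank_eq P]
  generalize (P.aug e).toNat = m at h ⊢
  rw [Finset.mul_sum, Finset.sum_mul, ← Finset.sum_range_reflect _ (m + 1)]
  refine Finset.sum_congr rfl fun i hi => ?_
  have := Finset.mem_range_succ_iff.1 hi
  rw [show m + 1 - 1 - i = m - i by omega, h (m - i) (Nat.sub_le m i), show m - (m - i) = i by omega,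
    ← mul_assoc, ← mul_assoc, ← pow_add, show m + (m - i) = i + 2 * (m - i) by omega, pow_add, pow_mul,
    neg_one_sq, one_pow, mul_one]

theorem gamma_rank_inv' {P : PosStructure K} {inv : K → K} (hS : HasInvSplitting P inv) {e : K}
    (he : e ∈ P.pos) :
    gamma (P.aug e).toNat (inv e - ((P.aug e).toNat : K)) =
      (∑ i ∈ range ((P.aug e).toNat + 1), (-1 : K) ^ i * LambdaOps.lam i e) *
        LambdaOps.lam (P.aug e).toNat (inv e) := by
  obtain ⟨-, h, -⟩ := inv_lam hS he
  rw [gamma_rank_eq P]
  generalize (P.aug e).toNat = m at h ⊢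
  rw [Finset.mul_sum, Finset.sum_mul, ← Finset.sum_range_reflect _ (m + 1)]
  refine Finset.sum_congr rfl fun i hi => ?_
  have := Finset.mem_range_succ_iff.1 hi
  rw [show m + 1 - 1 - i = m - i by omega, h (m - i) (Nat.sub_le m i), show m - (m - i) = i by omega,
    ← mul_assoc, ← mul_assoc, ← pow_add, show m + (m - i) = i + 2 * (m - i) by omega, pow_add, pow_mul,
    neg_one_sq, one_pow, mul_one]

end Groth.Agent.Lambda
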