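import Groth.Agent.Lambda.SymPoly

/-!
# The filtration of a polynomial ring by weighted order
-/

noncomputable section

set_option linter.style.haveILetI false
set_option linter.unusedSectionVars false
set_option linter.unusedSimpArgs false

open Finset MvPolynomial

namespace Groth.Agent.Lambda

universe u v w

variable {R : Type u} [CommRing R] {σ : Type v} {τ : Type w}

/-- polynomials all of whose monomials have weight at least `n` -/
def ordIdeal (R : Type u) [CommRing R] (w : σ → ℕ) (n : ℕ) : Ideal (MvPolynomial σ R) where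
  carrier := {p | ∀ d, Finsupp.weight w d < n → coeff d p = 0}
  add_mem' := fun ha hb d hd => by rw [coeff_add, ha d hd, hb d hd, add_zero]
  zero_mem' := fun d _ => coeff_zero d
  smul_mem' := by
    classical
    intro c p hp d hd
    rw [smul_eq_mul, coeff_mul]
    refine Finset.sum_eq_zero fun x hx => ?_
    rw [Finset.mem_antidiagonal] at hx
    have : Finsupp.weight w x.2 ≤ Finsupp.weight w d := by rw [← hx, map_add]; omega
    rw [hp x.2 (by omega), mul_zero]

theorem mem_ordIdeal {w : σ → ℕ} {n : ℕ} {p : MvPolynomial σ R} :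
    p ∈ ordIdeal R w n ↔ ∀ d, Finsupp.weight w d < n → coeff d p = 0 := Iff.rfl

theorem ordIdeal_zero (w : σ → ℕ) : ordIdeal R w 0 = ⊤ := by
  rw [eq_top_iff]; intro p _ d hd; omega

theorem ordIdeal_antitone (w : σ → ℕ) {m n : ℕ} (h : m ≤ n) : ordIdeal R w n ≤ ordIdeal R w m :=
  fun _ hp d hd => hp d (lt_of_lt_of_le hd h)

theorem monomial_mem_ordIdeal (w : σ → ℕ) {n : ℕ} (d : σ →₀ ℕ) (r : R)
    (h : n ≤ Finsupp.weight w d) : monomial d r ∈ ordIdeal R w n := by
  classical
  intro e he
  rw [coeff_monomial, if_neg]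
  rintro rfl
  omega

theorem X_mem_ordIdeal (w : σ → ℕ) (i : σ) : (X i : MvPolynomial σ R) ∈ ordIdeal R w (w i) :=
  monomial_mem_ordIdeal w _ _ (by simp [Finsupp.weight_apply])

theorem mul_mem_ordIdeal {w : σ → ℕ} {m n : ℕ} {p q : MvPolynomial σ R}
    (hp : p ∈ ordIdeal R w m) (hq : q ∈ ordIdeal R w n) : p * q ∈ ordIdeal R w (m + n) := by
  classical
  intro d hd
  rw [coeff_mul]
  refine Finset.sum_eq_zero fun x hx => ?_
  rw [Finset.mem_antidiagonal] at hx
  rw [← hx, map_add] at hd
  by_cases h : Finsupp.weight w x.1 < m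
  · rw [hp x.1 h, zero_mul]
  · rw [hq x.2 (by omega), mul_zero]

theorem prod_mem_ordIdeal {w : σ → ℕ} {ι : Type*} (s : Finset ι) (f : ι → MvPolynomial σ R)
    (n : ι → ℕ) (h : ∀ i ∈ s, f i ∈ ordIdeal R w (n i)) :
    ∏ i ∈ s, f i ∈ ordIdeal R w (∑ i ∈ s, n i) := by
  classical
  induction s using Finset.induction with
  | empty => simp [ordIdeal_zero]
  | @insert a s ha ih =>
    rw [Finset.prod_insert ha, Finset.sum_insert ha]
    exact mul_mem_ordIdeal (h a (Finset.mem_insert_self a s)) (ih fun i hi => h i (Finset.mem_insert_of_mem hi))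

theorem pow_mem_ordIdeal {w : σ → ℕ} {p : MvPolynomial σ R} {n : ℕ} (hp : p ∈ ordIdeal R w n)
    (k : ℕ) : p ^ k ∈ ordIdeal R w (k * n) := by
  induction k with
  | zero => simp [ordIdeal_zero]
  | succ k ih => rw [pow_succ, Nat.succ_mul]; exact mul_mem_ordIdeal ih hp

theorem mem_ordIdeal_of_isWH {w : σ → ℕ} {n : ℕ} {p : MvPolynomial σ R}
    (hp : IsWeightedHomogeneous w p n) : p ∈ ordIdeal R w n := by
  intro d hd
  by_contra h
  have := hp h
  omega

theorem aeval_mem_ordIdeal {w : σ → ℕ} {w' : τ → ℕ} {g : σ → MvPolynomial τ R}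
    (hg : ∀ i, g i ∈ ordIdeal R w' (w i)) {n : ℕ} {p : MvPolynomial σ R} (hp : p ∈ ordIdeal R w n) :
    aeval g p ∈ ordIdeal R w' n := by
  rw [p.as_sum, map_sum]
  refine Ideal.sum_mem _ fun d hd => ?_
  rw [aeval_monomial]
  refine Ideal.mul_mem_left _ _ (ordIdeal_antitone w' (m := n) (n := ∑ i ∈ d.support, d i * w i) ?_
    (prod_mem_ordIdeal _ _ _ fun i _ => pow_mem_ordIdeal (hg i) (d i)))
  by_contra h
  exact (mem_support_iff.1 hd) (hp d (by rw [Finsupp.weight_apply, Finsupp.sum]; simpa using not_le.1 h))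

/-- homogeneous substitutions commute with taking components -/
theorem aeval_component {w : σ → ℕ} {w' : τ → ℕ} {g : σ → MvPolynomial τ R}
    (hg : ∀ i, IsWeightedHomogeneous w' (g i) (w i)) (n : ℕ) (p : MvPolynomial σ R) :
    aeval g (weightedHomogeneousComponent w n p) = weightedHomogeneousComponent w' n (aeval g p) := by
  classical
  conv_rhs => rw [p.as_sum, map_sum, map_sum]
  rw [weightedHomogeneousComponent_apply, map_sum, Finset.sum_filter]
  refine Finset.sum_congr rfl fun e _ => ?_
  have he : IsWeightedHomogeneous w' (aeval g (monomial e (coeff e p))) (Finsupp.weight w e) :=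
    IsWH_aeval hg (isWeightedHomogeneous_monomial w e _ rfl)
  split
  · next h => subst h; rw [he.weightedHomogeneousComponent_same]
  · next h => rw [he.weightedHomogeneousComponent_ne n (by simpa [eq_comm] using h)]

theorem component_eq_zero_of_mem_ordIdeal {w : σ → ℕ} {n k : ℕ} {p : MvPolynomial σ R}
    (hp : p ∈ ordIdeal R w n) (hk : k < n) : weightedHomogeneousComponent w k p = 0 := by
  classical
  ext d
  rw [coeff_weightedHomogeneousComponent, coeff_zero]
  split
  · next h => exact hp d (by omega)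
  · rfl

theorem mem_ordIdeal_iff_component {w : σ → ℕ} {n : ℕ} {p : MvPolynomial σ R} :
    p ∈ ordIdeal R w n ↔ ∀ k < n, weightedHomogeneousComponent w k p = 0 := by
  classical
  refine ⟨fun hp k hk => component_eq_zero_of_mem_ordIdeal hp hk, fun h d hd => ?_⟩
  have := congrArg (coeff d) (h _ hd)
  rwa [coeff_weightedHomogeneousComponent, if_pos rfl, coeff_zero] at this

theorem component_vars_subset [DecidableEq σ] (w : σ → ℕ) (k : ℕ) (p : MvPolynomial σ R) :
    (weightedHomogeneousComponent w k p).vars ⊆ p.vars := by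
  classical
  intro i hi
  rw [mem_vars_iff_mem_support] at hi ⊢
  obtain ⟨d, hd, hid⟩ := hi
  refine ⟨d, ?_, hid⟩
  rw [mem_support_iff] at hd ⊢
  rw [coeff_weightedHomogeneousComponent] at hd
  split at hd
  · exact hd
  · exact absurd rfl hd

end Groth.Agent.Lambda
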