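import Groth.Agent.Lambda.Special
import Groth.Agent.Lambda.Gamma
import Groth.Agent.Lambda.Ord
import Mathlib.RingTheory.MvPolynomial.Basic

/-!
# The λ-ring ℤ[V] in which the products of the `1 + V_i` are line elements
-/

noncomputable section

set_option linter.style.haveILetI false
set_option linter.unusedSectionVars false
set_option linter.unusedSimpArgs false

open Finset LambdaRing MvPolynomial

namespace Groth.Agent.Lambda

universe u

/-- variables of a model -/
structure MVar (ι : Type u) : Type u where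
  /-- the underlying index -/
  idx : ι

variable {ι : Type u}

/-- the model ring -/
abbrev Mod (ι : Type u) := MvPolynomial (MVar ι) ℤ

/-- the automorphism `V ↦ V + 1` -/
def shift : Mod ι ≃ₐ[ℤ] Mod ι :=
  AlgEquiv.ofAlgHom (aeval fun i => X i + 1) (aeval fun i => X i - 1)
    (MvPolynomial.algHom_ext fun i => by simp)
    (MvPolynomial.algHom_ext fun i => by simp)

theorem shift_apply (p : Mod ι) : shift p = aeval (fun i => X i + 1) p := rfl

/-- the basis of line elements -/
def lineBasis : Module.Basis (MVar ι →₀ ℕ) ℤ (Mod ι) :=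
  (MvPolynomial.basisMonomials (MVar ι) ℤ).map shift.toLinearEquiv

theorem lineBasis_apply (d : MVar ι →₀ ℕ) :
    lineBasis d = d.prod fun i e => ((X i : Mod ι) + 1) ^ e := by
  rw [lineBasis, Module.Basis.map_apply, MvPolynomial.coe_basisMonomials]
  show shift (monomial d 1) = _
  rw [shift_apply, aeval_monomial]
  simp

/-- the unit `1 + a t` -/
def linUnit (a : Mod ι) : (PowerSeries (Mod ι))ˣ :=
  ⟨lin a, inv1 (lin a), mul_inv1 (cc_lin a), by rw [mul_comm]; exact mul_inv1 (cc_lin a)⟩

/-- the logarithm-like additive map to units -/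
def sigHom : Mod ι →ₗ[ℤ] Additive (PowerSeries (Mod ι))ˣ :=
  lineBasis.constr ℤ fun d => Additive.ofMul (linUnit (lineBasis d))

/-- the generating series of the model -/
def sigSer (f : Mod ι) : PowerSeries (Mod ι) := (Additive.toMul (sigHom f) : (PowerSeries (Mod ι))ˣ)

theorem sigSer_add (f g : Mod ι) : sigSer (f + g) = sigSer f * sigSer g := by
  simp [sigSer]

theorem sigSer_basis (d : MVar ι →₀ ℕ) : sigSer (lineBasis d) = lin (lineBasis d) := by
  simp [sigSer, sigHom, linUnit]

theorem sigSer_zero : sigSer (0 : Mod ι) = 1 := by simp [sigSer]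

theorem sigSer_spec (f : Mod ι) : CC (sigSer f) ∧ PowerSeries.coeff 1 (sigSer f) = f := by
  have hf : f ∈ Submodule.span ℤ (Set.range (lineBasis (ι := ι))) := by
    rw [Module.Basis.span_eq]; trivial
  induction hf using Submodule.span_induction with
  | mem x hx =>
    obtain ⟨d, rfl⟩ := hx
    rw [sigSer_basis]
    exact ⟨cc_lin _, by simp [coeff_lin_succ (lineBasis d) 0]⟩
  | zero => rw [sigSer_zero]; exact ⟨CC.one, by simp⟩
  | add x y _ _ hx hy =>
    rw [sigSer_add]
    refine ⟨hx.1.mul hy.1, ?_⟩
    rw [← psi_one (hx.1.mul hy.1), psi_mul hx.1 hy.1, psi_one hx.1, psi_one hy.1, hx.2, hy.2]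
  | smul n x _ hx =>
    have hneg : ∀ z : Mod ι, CC (sigSer z) → PowerSeries.coeff 1 (sigSer z) = z →
        CC (sigSer (-z)) ∧ PowerSeries.coeff 1 (sigSer (-z)) = -z := by
      intro z hz hz1
      have hm : sigSer z * sigSer (-z) = 1 := by rw [← sigSer_add, add_neg_cancel, sigSer_zero]
      rw [← inv1_eq_of_mul_eq_one hz hm]
      refine ⟨cc_inv1 _, ?_⟩
      have h0 : psi (inv1 (sigSer z)) 1 = - psi (sigSer z) 1 := by
        have := psi_mul hz (cc_inv1 (sigSer z)) 1
        rw [mul_inv1 hz, psi_one_series] at this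
        linear_combination -this
      rw [psi_one (cc_inv1 _), psi_one hz, hz1] at h0
      exact h0
    induction n using Int.induction_on with
    | zero => rw [zero_smul, sigSer_zero]; exact ⟨CC.one, by simp⟩
    | succ n ih =>
      rw [add_smul, one_smul, sigSer_add]
      exact ⟨ih.1.mul hx.1, by
        rw [← psi_one (ih.1.mul hx.1), psi_mul ih.1 hx.1, psi_one ih.1, psi_one hx.1, ih.2, hx.2]⟩
    | pred n ih =>
      obtain ⟨h1, h2⟩ := hneg x hx.1 hx.2
      rw [sub_smul, one_smul, sub_eq_add_neg, sigSer_add]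
      exact ⟨ih.1.mul h1, by
        rw [← psi_one (ih.1.mul h1), psi_mul ih.1 h1, psi_one ih.1, psi_one h1, ih.2, h2]⟩

/-- the λ-structure of the model -/
instance modelOps : LambdaOps (Mod ι) :=
  ofSeries sigSer (fun f => (sigSer_spec f).1) (fun f => (sigSer_spec f).2) sigSer_add

theorem lamSeries_model (f : Mod ι) : lamSeries f = sigSer f :=
  lamSeries_ofSeries sigSer (fun f => (sigSer_spec f).1) (fun f => (sigSer_spec f).2) sigSer_add f

theorem isLine_basis (d : MVar ι →₀ ℕ) (i : ℕ) (hi : 2 ≤ i) :
    LambdaOps.lam i (lineBasis d) = 0 := by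
  obtain ⟨m, rfl⟩ : ∃ m, i = m + 1 := ⟨i - 1, by omega⟩
  rw [← coeff_lamSeries, lamSeries_model, sigSer_basis, coeff_lin_succ, if_neg (by omega)]

theorem natTorsionFree_model : NatTorsionFree (Mod ι) := by
  intro n hn a ha
  rcases mul_eq_zero.1 ha with h | h
  · exact absurd (Nat.cast_eq_zero.1 h) hn
  · exact h

theorem lineBasis_zero : lineBasis (ι := ι) 0 = 1 := by simp [lineBasis_apply]

theorem lineBasis_single (i : MVar ι) : lineBasis (Finsupp.single i 1) = (X i : Mod ι) + 1 := by
  simp [lineBasis_apply]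

/-- the endomorphism `V ↦ (1 + V)^k - 1` -/
def modelAdams (k : ℕ) : Mod ι →ₐ[ℤ] Mod ι := aeval fun i => ((X i : Mod ι) + 1) ^ k - 1

theorem adamsOp_model (k : ℕ) (hk : 1 ≤ k) (f : Mod ι) : adamsOp k f = modelAdams k f := by
  have h : (adamsAdd (K := Mod ι) k).toIntLinearMap = (modelAdams k).toLinearMap := by
    refine lineBasis.ext fun d => ?_
    show adamsOp k (lineBasis d) = modelAdams k (lineBasis d)
    rw [adamsOp_line (isLine_basis d) k hk, lineBasis_apply, map_finsuppProd, Finsupp.prod, Finsupp.prod,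
      ← Finset.prod_pow]
    refine Finset.prod_congr rfl fun i _ => ?_
    rw [map_pow, map_add, map_one, modelAdams, aeval_X, sub_add_cancel, ← pow_mul, ← pow_mul, Nat.mul_comm]
  exact LinearMap.congr_fun h f

theorem isSpecial_model : IsSpecial (Mod ι) := by
  refine isSpecial_of_adams natTorsionFree_model (fun k hk => ?_) (fun k hk x y => ?_) (fun k k' hk hk' x => ?_)
  · rw [adamsOp_model k hk, map_one]
  · simp only [adamsOp_model k hk, map_mul]
  · rw [adamsOp_model k hk, adamsOp_model k' hk', adamsOp_model (k * k') (Nat.mul_pos hk hk'),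
      ← AlgHom.comp_apply]
    congr 1
    refine MvPolynomial.algHom_ext fun i => ?_
    simp [modelAdams, ← pow_mul, Nat.mul_comm]

theorem model_lam_one (i : ℕ) (hi : 2 ≤ i) : LambdaOps.lam i (1 : Mod ι) = 0 := by
  rw [← lineBasis_zero]; exact isLine_basis 0 i hi

theorem model_line (i : MVar ι) (j : ℕ) (hj : 2 ≤ j) :
    LambdaOps.lam j ((X i : Mod ι) + 1) = 0 := by
  rw [← lineBasis_single]; exact isLine_basis _ j hj

theorem gammaSeries_sum_X (s : Multiset (MVar ι)) :
    gammaSeries (s.map (X : MVar ι → Mod ι)).sum = prodLin (s.map X) := by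
  induction s using Multiset.induction with
  | empty => simp [gammaSeries_zero, prodLin]
  | cons a s ih =>
    have := gammaSeries_sub_one model_lam_one (model_line a)
    rw [add_sub_cancel_right] at this
    rw [Multiset.map_cons, Multiset.sum_cons, gammaSeries_add, ih, prodLin_cons, this]

/-- the degree in the variables -/
abbrev degW (ι : Type u) : MVar ι → ℕ := fun _ => 1

end Groth.Agent.Lambda
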