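import Groth.Prelude.Def_LambdaSp
import Groth.Agent.Lambda.Series
import Mathlib.RingTheory.MvPolynomial.Symmetric.FundamentalTheorem
import Mathlib.RingTheory.MvPolynomial.WeightedHomogeneous
import Mathlib.Algebra.MvPolynomial.Funext
import Mathlib.Algebra.MvPolynomial.Equiv
import Mathlib.FieldTheory.IsAlgClosed.AlgebraicClosure
import Mathlib.RingTheory.Polynomial.Vieta

/-!
# The universal polynomials P_n and Q_{i,j}: existence, and their values on arbitrary multisets
-/

noncomputable section

set_option linter.style.haveILetI false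
set_option linter.unusedSectionVars false
set_option linter.unusedSimpArgs false

open Finset MvPolynomial

namespace Groth.Agent.Lambda

universe u v w

/-! ### multisets -/

section Multisets

variable {R : Type u} [CommRing R] {S : Type v} [CommRing S]

/-- all products `a * b` -/
def prodsMS (a b : Multiset R) : Multiset R := (a ×ˢ b).map fun p => p.1 * p.2

/-- products over the `i`-element sub-multisets -/
def powMS (a : Multiset R) (i : ℕ) : Multiset R := (a.powersetCard i).map Multiset.prod

theorem prodsMS_cons_left (x : R) (a b : Multiset R) :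
    prodsMS (x ::ₘ a) b = b.map (x * ·) + prodsMS a b := by
  simp [prodsMS, Function.comp_def]

theorem prodsMS_zero_right (a : Multiset R) : prodsMS a (0 : Multiset R) = 0 := by simp [prodsMS]

theorem map_prodsMS (f : R →+* S) (a b : Multiset R) :
    (prodsMS a b).map f = prodsMS (a.map f) (b.map f) := by
  induction a using Multiset.induction with
  | empty => simp [prodsMS]
  | cons x a ih =>
    rw [prodsMS_cons_left, Multiset.map_add, ih, Multiset.map_cons, prodsMS_cons_left]
    congr 1
    simp [Function.comp_def]

theorem prodsMS_comm (a b : Multiset R) : prodsMS a b = prodsMS b a := by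
  induction a using Multiset.induction with
  | empty => simp [prodsMS]
  | cons x a ih =>
    rw [prodsMS_cons_left, ih]
    clear ih
    induction b using Multiset.induction with
    | empty => simp [prodsMS]
    | cons y b ih =>
      simp only [prodsMS_cons_left, Multiset.map_cons, Multiset.cons_add, ← ih, mul_comm y x]
      congr 1
      abel

theorem map_powMS (f : R →+* S) (a : Multiset R) (i : ℕ) :
    (powMS a i).map f = powMS (a.map f) i := by
  simp only [powMS, Multiset.powersetCard_map, Multiset.map_map]
  exact Multiset.map_congr rfl fun s _ => map_multiset_prod f s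

theorem powMS_cons_succ (x : R) (a : Multiset R) (i : ℕ) :
    powMS (x ::ₘ a) (i + 1) = powMS a (i + 1) + (powMS a i).map (x * ·) := by
  simp [powMS, Multiset.powersetCard_cons, Function.comp_def]

theorem map_esymm' (f : R →+* S) (a : Multiset R) (k : ℕ) : f (a.esymm k) = (a.map f).esymm k := by
  rw [← coeff_prodLin, ← coeff_prodLin, ← map_prodLin, PowerSeries.coeff_map]

theorem prodLin_replicate_zero (m : ℕ) : prodLin (Multiset.replicate m (0 : R)) = 1 := by
  induction m with
  | zero => rfl
  | succ m ih => rw [Multiset.replicate_succ, prodLin_cons, ih]; simp [lin]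

theorem prodLin_map_zero_mul (b : Multiset R) : prodLin (b.map ((0 : R) * ·)) = 1 := by
  simp [prodLin_replicate_zero]

theorem prodLin_cons_zero (a : Multiset R) : prodLin ((0 : R) ::ₘ a) = prodLin a := by
  simp [prodLin_cons, lin]

theorem prodLin_prods_cons_zero (a b : Multiset R) :
    prodLin (prodsMS ((0 : R) ::ₘ a) b) = prodLin (prodsMS a b) := by
  rw [prodsMS_cons_left, prodLin_add, prodLin_map_zero_mul, one_mul]

theorem prodLin_pow_cons_zero (a : Multiset R) (i : ℕ) :
    prodLin (powMS ((0 : R) ::ₘ a) i) = prodLin (powMS a i) := by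
  cases i with
  | zero => simp [powMS]
  | succ i => rw [powMS_cons_succ, prodLin_add, prodLin_map_zero_mul, mul_one]

theorem hom_aeval {σ : Type*} (φ : R →+* S) (g : σ → R) (p : MvPolynomial σ ℤ) :
    φ (aeval g p) = aeval (fun i => φ (g i)) p := by
  induction p using MvPolynomial.induction_on with
  | C a => simp
  | add p q hp hq => simp [hp, hq]
  | mul_X p i hp => simp [hp]

theorem esymm_of_card_lt (a : Multiset R) (k : ℕ) (h : Multiset.card a < k) : a.esymm k = 0 := by
  simp [Multiset.esymm, Multiset.powersetCard_eq_empty k h]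

end Multisets

/-! ### weights -/

section Weights

variable {R : Type u} [CommRing R] {σ : Type v} {τ : Type w}

theorem IsWH_comp {M N : Type*} [AddCommMonoid M] [AddCommMonoid N] {w : σ → M} {m : M}
    {p : MvPolynomial σ R} (hp : IsWeightedHomogeneous w p m) (f : M →+ N) :
    IsWeightedHomogeneous (f ∘ w) p (f m) := by
  intro d hd
  rw [← hp hd, Finsupp.weight_apply, Finsupp.weight_apply, map_finsuppSum]
  exact Finset.sum_congr rfl fun x _ => (map_nsmul f (d x) (w x)).symm

variable {M : Type*} [AddCommMonoid M]

theorem IsWH_aeval {w : σ → M} {w' : τ → M} {g : σ → MvPolynomial τ R}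
    (hg : ∀ i, IsWeightedHomogeneous w' (g i) (w i)) {m : M} {p : MvPolynomial σ R}
    (hp : IsWeightedHomogeneous w p m) : IsWeightedHomogeneous w' (aeval g p) m := by
  rw [p.as_sum, map_sum]
  refine IsWeightedHomogeneous.sum _ _ _ fun d hd => ?_
  rw [aeval_monomial]
  refine (IsWeightedHomogeneous.C_mul ?_ _)
  have := IsWeightedHomogeneous.prod d.support (fun i => g i ^ d i) (fun i => d i • w i)
    (w := w') (fun i _ => (hg i).pow (d i))
  have hm : m = ∑ i ∈ d.support, d i • w i := by
    rw [← hp (mem_support_iff.1 hd), Finsupp.weight_apply, Finsupp.sum]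
  rw [hm]
  exact this

theorem IsWH_multiset_esymm {w : σ → M} {d : M} (a : Multiset (MvPolynomial σ R))
    (h : ∀ x ∈ a, IsWeightedHomogeneous w x d) (k : ℕ) :
    IsWeightedHomogeneous w (a.esymm k) (k • d) := by
  induction a using Multiset.induction generalizing k with
  | empty =>
    cases k with
    | zero => rw [esymm_zero_eq_one, zero_smul]; exact isWeightedHomogeneous_one R w
    | succ k => rw [esymm_empty_succ]; exact isWeightedHomogeneous_zero R w _
  | cons x a ih =>
    cases k with
    | zero => rw [esymm_zero_eq_one, zero_smul]; exact isWeightedHomogeneous_one R w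
    | succ k =>
      rw [esymm_cons_succ]
      have h' : ∀ y ∈ a, IsWeightedHomogeneous w y d := fun y hy => h y (Multiset.mem_cons_of_mem hy)
      refine (ih h' (k + 1)).add ?_
      rw [succ_nsmul']
      exact (h x (Multiset.mem_cons_self x a)).mul (ih h' k)

/-- An injective substitution with homogeneous values reflects homogeneity. -/
theorem IsWH_of_aeval {w : σ → M} {w' : τ → M} {g : σ → MvPolynomial τ R}
    (hg : ∀ i, IsWeightedHomogeneous w' (g i) (w i))
    (hinj : Function.Injective (aeval g : MvPolynomial σ R →ₐ[R] MvPolynomial τ R))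
    {m : M} {p : MvPolynomial σ R} (hp : IsWeightedHomogeneous w' (aeval g p) m) :
    IsWeightedHomogeneous w p m := by
  classical
  intro d hd
  by_contra hne
  have hq : weightedHomogeneousComponent w (Finsupp.weight w d) p = 0 := by
    apply hinj
    rw [map_zero]
    have key : ∀ n, aeval g (weightedHomogeneousComponent w n p) =
        weightedHomogeneousComponent w' n (aeval g p) := by
      intro n
      conv_rhs => rw [p.as_sum, map_sum, map_sum]
      rw [weightedHomogeneousComponent_apply, map_sum, Finset.sum_filter]
      refine Finset.sum_congr rfl fun e _ => ?_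
      have he : IsWeightedHomogeneous w' (aeval g (monomial e (coeff e p))) (Finsupp.weight w e) :=
        IsWH_aeval hg (isWeightedHomogeneous_monomial w e _ rfl)
      split
      · next h => subst h; rw [he.weightedHomogeneousComponent_same]
      · next h => rw [he.weightedHomogeneousComponent_ne n (by simpa [eq_comm] using h)]
    rw [key, hp.weightedHomogeneousComponent_ne _ (fun h => hne h)]
  have := congrArg (coeff d) hq
  rw [coeff_weightedHomogeneousComponent, if_pos rfl, coeff_zero] at this
  exact hd this

/-- Setting a variable to zero keeps the coefficients of the monomials without it. -/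
theorem coeff_aeval_update_zero [DecidableEq σ] (p : MvPolynomial σ R) (i : σ) (d : σ →₀ ℕ)
    (hd : d i = 0) :
    coeff d (aeval (Function.update (X : σ → MvPolynomial σ R) i 0) p) = coeff d p := by
  induction p using MvPolynomial.induction_on' with
  | monomial e r =>
    by_cases he : e i = 0
    · have : aeval (Function.update (X : σ → MvPolynomial σ R) i 0) (monomial e r) = monomial e r := by
        rw [aeval_monomial, monomial_eq, algebraMap_eq]
        congr 1
        refine Finset.prod_congr rfl fun j hj => ?_
        have : j ≠ i := by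
          rintro rfl
          exact Finsupp.mem_support_iff.1 hj he
        simp [this]
      rw [this]
    · have h0 : aeval (Function.update (X : σ → MvPolynomial σ R) i 0) (monomial e r) = 0 := by
        rw [aeval_monomial]
        refine mul_eq_zero_of_right _ (Finset.prod_eq_zero (Finsupp.mem_support_iff.2 he) ?_)
        simp [he]
      rw [h0, coeff_zero, coeff_monomial, if_neg]
      rintro rfl
      exact he hd
  | add p q hp hq => rw [map_add, coeff_add, coeff_add, hp, hq]

/-- A polynomial homogeneous of degree `n` in a group of more than `n` variables, vanishing when any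
one of these variables is set to zero, is zero. -/
theorem eq_zero_of_update_zero {ι : Type*} [Fintype ι] [DecidableEq σ] (e : ι → σ) (w : σ → ℕ)
    (hw : ∀ i, w (e i) = 1) (he : Function.Injective e)
    (p : MvPolynomial σ R) (n : ℕ) (hp : IsWeightedHomogeneous w p n) (hn : n < Fintype.card ι)
    (h : ∀ i, aeval (Function.update (X : σ → MvPolynomial σ R) (e i) 0) p = 0) : p = 0 := by
  ext d
  rw [coeff_zero]
  by_contra hd
  have hwt := hp hd
  have hall : ∀ i, d (e i) ≠ 0 := by
    intro i hi
    apply hd
    rw [← coeff_aeval_update_zero p (e i) d hi, h i, coeff_zero]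
  have : Fintype.card ι ≤ Finsupp.weight w d := by
    rw [Finsupp.weight_apply, Finsupp.sum]
    calc Fintype.card ι = ∑ _i : ι, 1 := by simp
      _ ≤ ∑ i : ι, d (e i) • w (e i) := Finset.sum_le_sum fun i _ => by
          simp [hw, Nat.one_le_iff_ne_zero.2 (hall i)]
      _ = ∑ x ∈ Finset.univ.map ⟨e, he⟩, d x • w x := by simp
      _ ≤ _ := Finset.sum_le_sum_of_subset fun x hx => by
          obtain ⟨i, -, rfl⟩ := Finset.mem_map.1 hx
          exact Finsupp.mem_support_iff.2 (hall i)
  omega

end Weights

/-! ### joint injectivity of the substitutions by elementary symmetric functions -/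

section Injective

variable {F : Type u} [Field F] [IsAlgClosed F]

theorem exists_esymm_eq (N : ℕ) (c : Fin N → F) :
    ∃ V : Fin N → F, ∀ k : Fin N, ((univ : Finset (Fin N)).val.map V).esymm ((k : ℕ) + 1) = c k := by
  classical
  let p : Polynomial F := Polynomial.X ^ N + ∑ k : Fin N, Polynomial.C (c k) * Polynomial.X ^ (N - 1 - (k : ℕ))
  have hdeg : (∑ k : Fin N, Polynomial.C (c k) * Polynomial.X ^ (N - 1 - (k : ℕ))).degree < (N : WithBot ℕ) := by
    refine (Polynomial.degree_sum_le _ _).trans_lt ((Finset.sup_lt_iff (WithBot.bot_lt_coe N)).2 ?_)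
    intro k _
    refine (Polynomial.degree_C_mul_X_pow_le _ _).trans_lt ?_
    exact WithBot.coe_lt_coe.mpr (by omega : N - 1 - (k : ℕ) < N)
  have hm : p.Monic := Polynomial.monic_X_pow_add hdeg
  have hnd : p.natDegree = N := Polynomial.natDegree_eq_of_degree_eq_some (by
    rw [Polynomial.degree_add_eq_left_of_degree_lt] <;> rw [Polynomial.degree_X_pow]
    exact hdeg)
  have hs : p.Splits := IsAlgClosed.splits p
  have hcard : Multiset.card p.roots = N := by rw [← hs.natDegree_eq_card_roots, hnd]
  obtain ⟨l, hl⟩ : ∃ l : List F, p.roots = (l : Multiset F) := ⟨p.roots.toList, by simp⟩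
  have hlen : l.length = N := by rw [← hcard, hl]; rfl
  refine ⟨fun k => - l.get (k.cast hlen.symm), fun k => ?_⟩
  have hmap : ((univ : Finset (Fin N)).val.map fun k => - l.get (k.cast hlen.symm)) =
      p.roots.map Neg.neg := by
    subst hlen
    rw [hl, Fin.univ_val_map, Multiset.map_coe]
    exact congrArg _ (by
      rw [show (fun k : Fin l.length => - l.get (k.cast rfl)) = (Neg.neg ∘ l.get) from rfl,
        ← List.map_ofFn, List.ofFn_get])
  rw [hmap, Multiset.esymm_neg]
  have hk : N - 1 - (k : ℕ) ≤ Multiset.card p.roots := by omega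
  have hcoef := Multiset.prod_X_sub_C_coeff p.roots hk
  rw [← hs.eq_prod_roots_of_monic hm, hcard, show N - (N - 1 - (k : ℕ)) = (k : ℕ) + 1 by omega] at hcoef
  rw [← hcoef]
  simp only [p, Polynomial.coeff_add, Polynomial.coeff_X_pow, Polynomial.finsetSum_coeff,
    Polynomial.coeff_C_mul]
  rw [if_neg (by omega), zero_add, Finset.sum_eq_single k]
  · simp
  · intro j _ hj
    rw [if_neg, mul_zero]
    intro h
    exact hj (Fin.ext (by omega))
  · simp

end Injective

/-- substitution `X_(g,k) ↦ e_(k+1)(X_(g,·))` -/
def esubst (σ : Type u) (N : ℕ) : MvPolynomial (σ × Fin N) ℤ →ₐ[ℤ] MvPolynomial (σ × Fin N) ℤ :=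
  aeval fun gk => rename (Prod.mk gk.1) (esymm (Fin N) ℤ ((gk.2 : ℕ) + 1))

theorem esubst_injective (σ : Type u) (N : ℕ) : Function.Injective (esubst σ N) := by
  intro p q hpq
  apply MvPolynomial.map_injective (algebraMap ℤ (AlgebraicClosure ℚ))
    (Int.cast_injective (α := AlgebraicClosure ℚ))
  refine MvPolynomial.funext fun c => ?_
  choose V hV using fun g : σ => exists_esymm_eq N (fun k => c (g, k))
  have key : ∀ r : MvPolynomial (σ × Fin N) ℤ,
      eval₂ (algebraMap ℤ (AlgebraicClosure ℚ)) c r =
        aeval (fun gk : σ × Fin N => V gk.1 gk.2) (esubst σ N r) := by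
    intro r
    rw [← aeval_def, esubst, ← AlgHom.comp_apply]
    congr 1
    ext gk
    rw [AlgHom.comp_apply, aeval_X, aeval_X, aeval_rename, aeval_esymm_eq_multiset_esymm]
    exact (hV gk.1 gk.2).symm
  rw [eval_map, eval_map, key, key, hpq]

theorem univ_map_esymm' {ι : Type*} [Fintype ι] (R : Type*) [CommRing R] (k : ℕ) :
    esymm ι R k = ((univ : Finset ι).val.map X).esymm k := by
  rw [esymm_eq_multiset_esymm]

theorem univ_map_esymm {ι : Type*} [Fintype ι] (k : ℕ) :
    esymm ι ℤ k = ((univ : Finset ι).val.map X).esymm k := by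
  rw [esymm_eq_multiset_esymm]

/-- the substitution of the defining identity of `P_n` is injective -/
theorem mulSubst_injective (n : ℕ) :
    Function.Injective (aeval (R := ℤ) (Sum.elim
      (fun k : Fin n => rename (Sum.inl (β := Fin n)) (esymm (Fin n) ℤ ((k : ℕ) + 1)))
      (fun k : Fin n => rename (Sum.inr (α := Fin n)) (esymm (Fin n) ℤ ((k : ℕ) + 1))))) := by
  intro p q hpq
  apply MvPolynomial.map_injective (algebraMap ℤ (AlgebraicClosure ℚ))
    (Int.cast_injective (α := AlgebraicClosure ℚ))
  refine MvPolynomial.funext fun c => ?_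
  obtain ⟨V, hV⟩ := exists_esymm_eq n fun k => c (Sum.inl k)
  obtain ⟨W, hW⟩ := exists_esymm_eq n fun k => c (Sum.inr k)
  have key : ∀ r : MvPolynomial (Fin n ⊕ Fin n) ℤ,
      eval₂ (algebraMap ℤ (AlgebraicClosure ℚ)) c r =
        aeval (Sum.elim V W) (aeval (Sum.elim
          (fun k : Fin n => rename (Sum.inl (β := Fin n)) (esymm (Fin n) ℤ ((k : ℕ) + 1)))
          (fun k : Fin n => rename (Sum.inr (α := Fin n)) (esymm (Fin n) ℤ ((k : ℕ) + 1)))) r) := by
    intro r
    rw [← aeval_def, ← AlgHom.comp_apply (aeval (Sum.elim V W))]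
    congr 1
    ext (k | k) <;>
      rw [AlgHom.comp_apply, aeval_X, aeval_X] <;>
      simp only [Sum.elim_inl, Sum.elim_inr, aeval_rename, Sum.elim_comp_inl, Sum.elim_comp_inr,
        aeval_esymm_eq_multiset_esymm]
    · exact (hV k).symm
    · exact (hW k).symm
  rw [eval_map, eval_map, key, key, hpq]

theorem compSubst_injective (m : ℕ) :
    Function.Injective (aeval (R := ℤ) fun k : Fin m => esymm (Fin m) ℤ ((k : ℕ) + 1)) := by
  intro p q hpq
  apply esymmAlgHom_injective (σ := Fin m) (n := m) ℤ (by simp)
  apply Subtype.ext
  rw [esymmAlgHom_apply, esymmAlgHom_apply, hpq]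

/-! ### values of the universal polynomials on arbitrary multisets -/

theorem mulGen_eq (N k : ℕ) :
    LambdaRing.mulGen N k = (prodsMS
      ((univ : Finset (Fin N)).val.map fun a => (X (Sum.inl a) : MvPolynomial (Fin N ⊕ Fin N) ℤ))
      ((univ : Finset (Fin N)).val.map fun a => X (Sum.inr a))).esymm k := by
  rw [LambdaRing.mulGen, ← Finset.univ_product_univ, Finset.product_val]
  congr 1
  generalize (univ : Finset (Fin N)).val = s
  generalize hs : (fun a : Fin N => (X (Sum.inr a) : MvPolynomial (Fin N ⊕ Fin N) ℤ)) = g
  suffices ∀ t : Multiset (Fin N), (t ×ˢ s).map (fun ab : Fin N × Fin N =>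
      (X (Sum.inl ab.1) * X (Sum.inr ab.2) : MvPolynomial (Fin N ⊕ Fin N) ℤ)) =
      prodsMS (t.map fun a => X (Sum.inl a)) (s.map g) from this s
  intro t
  induction t using Multiset.induction with
  | empty => simp [prodsMS]
  | cons x t ih =>
    rw [Multiset.map_cons, prodsMS_cons_left, ← ih]
    simp [← hs, Function.comp_def]

theorem compGen_eq (N i j : ℕ) :
    LambdaRing.compGen N i j =
      (powMS ((univ : Finset (Fin N)).val.map (X : Fin N → MvPolynomial (Fin N) ℤ)) i).esymm j := by
  rw [LambdaRing.compGen, powMS, Multiset.powersetCard_map, ← Finset.map_val_val_powersetCard,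
    Multiset.map_map, Multiset.map_map]
  congr 1

theorem exists_univ_map {R : Type u} (N : ℕ) (a : Multiset R) (h : Multiset.card a = N) :
    ∃ f : Fin N → R, a = (univ : Finset (Fin N)).val.map f := by
  obtain ⟨l, rfl⟩ : ∃ l : List R, a = (l : Multiset R) := ⟨a.toList, by simp⟩
  rw [Multiset.coe_card] at h
  subst h
  refine ⟨l.get, ?_⟩
  rw [Fin.univ_val_map, List.ofFn_get]

theorem mulPoly_eval₀ {n : ℕ} {P : MvPolynomial (Fin n ⊕ Fin n) ℤ} (hP : LambdaRing.IsMulPoly n P)
    {R : Type} [CommRing R] (a b : Multiset R) :
    aeval (Sum.elim (fun k : Fin n => a.esymm ((k : ℕ) + 1)) (fun k : Fin n => b.esymm ((k : ℕ) + 1))) P =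
      (prodsMS a b).esymm n := by
  suffices H : ∀ (d p q : ℕ), p + q = d →
      ∀ (R : Type) [CommRing R] (a b : Multiset R), Multiset.card a = p → Multiset.card b = q →
      aeval (Sum.elim (fun k : Fin n => a.esymm ((k : ℕ) + 1)) (fun k : Fin n => b.esymm ((k : ℕ) + 1))) P =
        (prodsMS a b).esymm n from H _ _ _ rfl R a b rfl rfl
  intro d
  induction d using Nat.strong_induction_on with
  | _ d ih =>
    intro p q hpq R _ a b ha hb
    by_cases hsmall : p ≤ n ∧ q ≤ n
    · -- pad with zeros
      have pad : ∀ (c : Multiset R) (m k : ℕ),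
          (Multiset.replicate m 0 + c).esymm k = c.esymm k := by
        intro c m k
        rw [← coeff_prodLin, ← coeff_prodLin, prodLin_add, prodLin_replicate_zero, one_mul]
      have pad1 : ∀ (c e : Multiset R) (m : ℕ),
          prodLin (prodsMS (Multiset.replicate m 0 + c) e) = prodLin (prodsMS c e) := by
        intro c e m
        induction m with
        | zero => simp
        | succ m ihm => rw [Multiset.replicate_succ, Multiset.cons_add, prodLin_prods_cons_zero, ihm]
      obtain ⟨f, hf⟩ := exists_univ_map n (Multiset.replicate (n - p) (0 : R) + a)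
        (by rw [Multiset.card_add, Multiset.card_replicate]; omega)
      obtain ⟨g, hg⟩ := exists_univ_map n (Multiset.replicate (n - q) (0 : R) + b)
        (by rw [Multiset.card_add, Multiset.card_replicate]; omega)
      have hprods : (prodsMS (Multiset.replicate (n - p) (0 : R) + a)
          (Multiset.replicate (n - q) (0 : R) + b)).esymm n = (prodsMS a b).esymm n := by
        rw [← coeff_prodLin, ← coeff_prodLin, pad1, prodsMS_comm, pad1, prodsMS_comm]
      rw [← hprods, hf, hg]
      have := congrArg (aeval (Sum.elim f g) : MvPolynomial (Fin n ⊕ Fin n) ℤ →ₐ[ℤ] R) hP.1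
      rw [← AlgHom.comp_apply, comp_aeval, mulGen_eq] at this
      rw [show (aeval (Sum.elim f g) : MvPolynomial (Fin n ⊕ Fin n) ℤ →ₐ[ℤ] R) _ =
        (aeval (Sum.elim f g) : MvPolynomial (Fin n ⊕ Fin n) ℤ →ₐ[ℤ] R).toRingHom _ from rfl,
        map_esymm', map_prodsMS, Multiset.map_map, Multiset.map_map] at this
      convert this using 2
      · congr 1
        funext x
        rcases x with k | k <;>
          simp only [Sum.elim_inl, Sum.elim_inr, aeval_rename, Sum.elim_comp_inl,
            Sum.elim_comp_inr, aeval_esymm_eq_multiset_esymm]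
        · rw [← hf, pad]
        · rw [← hg, pad]
      · congr 1 <;> exact Multiset.map_congr rfl fun x _ => by simp
    · -- one group has more than `n` variables
      obtain ⟨f, rfl⟩ := exists_univ_map p a ha
      obtain ⟨g, rfl⟩ := exists_univ_map q b hb
      let A : Multiset (MvPolynomial (Fin p ⊕ Fin q) ℤ) :=
        (univ : Finset (Fin p)).val.map fun i => X (Sum.inl i)
      let B : Multiset (MvPolynomial (Fin p ⊕ Fin q) ℤ) :=
        (univ : Finset (Fin q)).val.map fun i => X (Sum.inr i)
      let D : MvPolynomial (Fin p ⊕ Fin q) ℤ :=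
        aeval (Sum.elim (fun k : Fin n => A.esymm ((k : ℕ) + 1)) (fun k : Fin n => B.esymm ((k : ℕ) + 1))) P -
          (prodsMS A B).esymm n
      have hD : D = 0 := by
        have hhom : ∀ (w : Fin p ⊕ Fin q → ℕ) (c : Bool),
            (∀ i, w (Sum.inl i) = if c then 1 else 0) → (∀ i, w (Sum.inr i) = if c then 0 else 1) →
            IsWeightedHomogeneous w D n := by
          intro w c hl hr
          let pr : ℕ × ℕ →+ ℕ := if c then AddMonoidHom.fst ℕ ℕ else AddMonoidHom.snd ℕ ℕ
          have hPw := IsWH_comp hP.2 pr
          have hprn : pr (n, n) = n := by cases c <;> simp [pr]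
          rw [hprn] at hPw
          have hA : ∀ x ∈ A, IsWeightedHomogeneous w x (if c then 1 else 0) := by
            intro x hx
            obtain ⟨i, -, rfl⟩ := Multiset.mem_map.1 hx
            rw [← hl i]; exact isWeightedHomogeneous_X _ w _
          have hB : ∀ x ∈ B, IsWeightedHomogeneous w x (if c then 0 else 1) := by
            intro x hx
            obtain ⟨i, -, rfl⟩ := Multiset.mem_map.1 hx
            rw [← hr i]; exact isWeightedHomogeneous_X _ w _
          refine IsWeightedHomogeneous.sub (IsWH_aeval ?_ hPw) ?_
          · rintro (k | k)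
            · have := IsWH_multiset_esymm A hA ((k : ℕ) + 1)
              cases c <;> simpa [pr] using this
            · have := IsWH_multiset_esymm B hB ((k : ℕ) + 1)
              cases c <;> simpa [pr] using this
          · have := IsWH_multiset_esymm (prodsMS A B) (d := 1) (w := w) ?_ n
            · simpa using this
            intro x hx
            obtain ⟨⟨y, z⟩, hyz, rfl⟩ := Multiset.mem_map.1 hx
            rw [Multiset.mem_product] at hyz
            have := (hA y hyz.1).mul (hB z hyz.2)
            cases c <;> simpa using this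
        have hspec : ∀ (x : Fin p ⊕ Fin q),
            aeval (Function.update (X : Fin p ⊕ Fin q → MvPolynomial (Fin p ⊕ Fin q) ℤ) x 0) D = 0 := by
          intro x
          set h := (aeval (Function.update (X : Fin p ⊕ Fin q → MvPolynomial (Fin p ⊕ Fin q) ℤ) x 0) :
            MvPolynomial (Fin p ⊕ Fin q) ℤ →ₐ[ℤ] MvPolynomial (Fin p ⊕ Fin q) ℤ) with hh
          have hDimg : h D = aeval (Sum.elim (fun k : Fin n => (A.map h.toRingHom).esymm ((k : ℕ) + 1))
              (fun k : Fin n => (B.map h.toRingHom).esymm ((k : ℕ) + 1))) P -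
              (prodsMS (A.map h.toRingHom) (B.map h.toRingHom)).esymm n := by
            show h (_ - _) = _
            rw [map_sub, ← AlgHom.comp_apply, comp_aeval]
            refine congrArg₂ _ ?_ ?_
            · congr 2
              funext y
              rcases y with k | k <;> exact map_esymm' h.toRingHom _ _
            · rw [show h _ = h.toRingHom _ from rfl, map_esymm', map_prodsMS]
          rw [hDimg, sub_eq_zero]
          rcases x with i | i
          · have hmem : h.toRingHom (X (Sum.inl i)) = 0 := by simp [hh]
            obtain ⟨A', hA'⟩ := Multiset.exists_cons_of_mem (show (0 : MvPolynomial (Fin p ⊕ Fin q) ℤ) ∈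
              A.map h.toRingHom from hmem ▸ Multiset.mem_map_of_mem _
                (Multiset.mem_map_of_mem _ (Finset.mem_univ_val i)))
            have hc : Multiset.card A' + 1 = p := by
              have := congrArg Multiset.card hA'; simp [A] at this; omega
            rw [hA', ← coeff_prodLin, prodLin_prods_cons_zero, coeff_prodLin]
            simp only [← coeff_prodLin, prodLin_cons_zero]
            simp only [coeff_prodLin]
            exact ih (Multiset.card A' + q) (by omega) (Multiset.card A') q rfl _ A' _ rfl (by simp [B])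
          · have hmem : h.toRingHom (X (Sum.inr i)) = 0 := by simp [hh]
            obtain ⟨B', hB'⟩ := Multiset.exists_cons_of_mem (show (0 : MvPolynomial (Fin p ⊕ Fin q) ℤ) ∈
              B.map h.toRingHom from hmem ▸ Multiset.mem_map_of_mem _
                (Multiset.mem_map_of_mem _ (Finset.mem_univ_val i)))
            have hc : Multiset.card B' + 1 = q := by
              have := congrArg Multiset.card hB'; simp [B] at this; omega
            rw [hB', prodsMS_comm, ← coeff_prodLin, prodLin_prods_cons_zero, coeff_prodLin, prodsMS_comm]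
            simp only [← coeff_prodLin, prodLin_cons_zero]
            simp only [coeff_prodLin]
            exact ih (p + Multiset.card B') (by omega) p (Multiset.card B') rfl _ _ B' (by simp [A]) rfl
        rcases not_and_or.1 hsmall with hp' | hq'
        · exact eq_zero_of_update_zero Sum.inl (Sum.elim (fun _ => 1) (fun _ => 0)) (fun i => rfl)
            Sum.inl_injective D n (hhom _ true (fun i => rfl) (fun i => rfl)) (by simpa using hp')
            (fun i => hspec _)
        · exact eq_zero_of_update_zero Sum.inr (Sum.elim (fun _ => 0) (fun _ => 1)) (fun i => rfl)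
            Sum.inr_injective D n (hhom _ false (fun i => rfl) (fun i => rfl)) (by simpa using hq')
            (fun i => hspec _)
      have := congrArg (aeval (Sum.elim f g) : MvPolynomial (Fin p ⊕ Fin q) ℤ →ₐ[ℤ] R) hD
      simp only [D, map_sub, map_zero, sub_eq_zero] at this
      rw [← AlgHom.comp_apply, comp_aeval] at this
      rw [show ((univ : Finset (Fin p)).val.map f) = A.map (aeval (Sum.elim f g)).toRingHom by
          simp [A, Function.comp_def],
        show ((univ : Finset (Fin q)).val.map g) = B.map (aeval (Sum.elim f g)).toRingHom by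
          simp [B, Function.comp_def], ← map_prodsMS, ← map_esymm']
      refine Eq.trans ?_ this
      congr 2
      funext y
      rcases y with k | k <;> simp only [Sum.elim_inl, Sum.elim_inr, ← map_esymm'] <;> rfl

/-- values of `P_n` -/
theorem mulPoly_eval {n : ℕ} {P : MvPolynomial (Fin n ⊕ Fin n) ℤ} (hP : LambdaRing.IsMulPoly n P)
    {R : Type u} [CommRing R] (a b : Multiset R) :
    aeval (Sum.elim (fun k : Fin n => a.esymm ((k : ℕ) + 1)) (fun k : Fin n => b.esymm ((k : ℕ) + 1))) P =
      (prodsMS a b).esymm n := by
  obtain ⟨f, hf⟩ := exists_univ_map (Multiset.card a) a rfl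
  obtain ⟨g, hg⟩ := exists_univ_map (Multiset.card b) b rfl
  let h : MvPolynomial (Fin (Multiset.card a) ⊕ Fin (Multiset.card b)) ℤ →ₐ[ℤ] R := aeval (Sum.elim f g)
  let A := (univ : Finset (Fin (Multiset.card a))).val.map
    fun i => (X (Sum.inl i) : MvPolynomial (Fin (Multiset.card a) ⊕ Fin (Multiset.card b)) ℤ)
  let B := (univ : Finset (Fin (Multiset.card b))).val.map
    fun i => (X (Sum.inr i) : MvPolynomial (Fin (Multiset.card a) ⊕ Fin (Multiset.card b)) ℤ)
  have hA : A.map h.toRingHom = a :=
    (show A.map h.toRingHom = (univ : Finset (Fin (Multiset.card a))).val.map f by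
      simp [A, h, Function.comp_def]).trans hf.symm
  have hB : B.map h.toRingHom = b :=
    (show B.map h.toRingHom = (univ : Finset (Fin (Multiset.card b))).val.map g by
      simp [B, h, Function.comp_def]).trans hg.symm
  have key := congrArg h (mulPoly_eval₀ hP A B)
  rw [show ∀ x, h x = h.toRingHom x from fun _ => rfl, hom_aeval,
    show ∀ x, h x = h.toRingHom x from fun _ => rfl, map_esymm', map_prodsMS, hA, hB] at key
  refine Eq.trans ?_ key
  congr 2
  funext y
  rcases y with k | k <;> simp only [Sum.elim_inl, Sum.elim_inr] <;>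
    rw [map_esymm']
  · rw [hA]
  · rw [hB]

theorem compPoly_eval₀ {i j : ℕ} {Q : MvPolynomial (Fin (i * j)) ℤ} (hQ : LambdaRing.IsCompPoly i j Q)
    {R : Type} [CommRing R] (a : Multiset R) :
    aeval (fun k : Fin (i * j) => a.esymm ((k : ℕ) + 1)) Q = (powMS a i).esymm j := by
  suffices H : ∀ (p : ℕ) (R : Type) [CommRing R] (a : Multiset R), Multiset.card a = p →
      aeval (fun k : Fin (i * j) => a.esymm ((k : ℕ) + 1)) Q = (powMS a i).esymm j from H _ R a rfl
  intro p
  induction p using Nat.strong_induction_on with
  | _ p ih =>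
    intro R _ a ha
    by_cases hsmall : p ≤ i * j
    · have pad : ∀ (m k : ℕ), (Multiset.replicate m 0 + a).esymm k = a.esymm k := by
        intro m k
        rw [← coeff_prodLin, ← coeff_prodLin, prodLin_add, prodLin_replicate_zero, one_mul]
      have pad1 : ∀ (m : ℕ), prodLin (powMS (Multiset.replicate m 0 + a) i) = prodLin (powMS a i) := by
        intro m
        induction m with
        | zero => simp
        | succ m ihm => rw [Multiset.replicate_succ, Multiset.cons_add, prodLin_pow_cons_zero, ihm]
      obtain ⟨f, hf⟩ := exists_univ_map (i * j) (Multiset.replicate (i * j - p) (0 : R) + a)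
        (by rw [Multiset.card_add, Multiset.card_replicate]; omega)
      rw [← coeff_prodLin (powMS a i), ← pad1 (i * j - p), coeff_prodLin, hf]
      have := congrArg (aeval f : MvPolynomial (Fin (i * j)) ℤ →ₐ[ℤ] R) hQ.1
      rw [← AlgHom.comp_apply, comp_aeval, compGen_eq] at this
      rw [show (aeval f : MvPolynomial (Fin (i * j)) ℤ →ₐ[ℤ] R) _ =
        (aeval f : MvPolynomial (Fin (i * j)) ℤ →ₐ[ℤ] R).toRingHom _ from rfl,
        map_esymm', map_powMS, Multiset.map_map] at this
      convert this using 2
      · congr 1
        funext k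
        rw [aeval_esymm_eq_multiset_esymm, ← hf, pad]
      · congr 1
        exact Multiset.map_congr rfl fun x _ => by simp
    · obtain ⟨f, rfl⟩ := exists_univ_map p a ha
      let A : Multiset (MvPolynomial (Fin p) ℤ) := (univ : Finset (Fin p)).val.map X
      let D : MvPolynomial (Fin p) ℤ :=
        aeval (fun k : Fin (i * j) => A.esymm ((k : ℕ) + 1)) Q - (powMS A i).esymm j
      have hD : D = 0 := by
        refine eq_zero_of_update_zero id (fun _ => 1) (fun _ => rfl) Function.injective_id D (i * j) ?_
          (by simpa using hsmall) fun x => ?_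
        · have hA : ∀ x ∈ A, IsWeightedHomogeneous (fun _ : Fin p => 1) x 1 := by
            intro x hx
            obtain ⟨l, -, rfl⟩ := Multiset.mem_map.1 hx
            exact isWeightedHomogeneous_X _ _ l
          refine IsWeightedHomogeneous.sub (IsWH_aeval (fun k => ?_) hQ.2) ?_
          · simpa using IsWH_multiset_esymm A hA ((k : ℕ) + 1)
          · have := IsWH_multiset_esymm (powMS A i) (d := i) (w := fun _ : Fin p => 1) ?_ j
            · simpa [mul_comm] using this
            intro x hx
            obtain ⟨s, hs, rfl⟩ := Multiset.mem_map.1 hx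
            rw [Multiset.mem_powersetCard] at hs
            have key : ∀ t : Multiset (MvPolynomial (Fin p) ℤ),
                (∀ y ∈ t, IsWeightedHomogeneous (fun _ : Fin p => 1) y 1) →
                IsWeightedHomogeneous (fun _ : Fin p => 1) t.prod (Multiset.card t) := by
              intro t
              induction t using Multiset.induction with
              | empty => intro _; simpa using isWeightedHomogeneous_one ℤ (fun _ : Fin p => 1)
              | cons y t iht =>
                intro hy
                rw [Multiset.prod_cons, Multiset.card_cons, Nat.add_comm]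
                exact (hy y (Multiset.mem_cons_self y t)).mul
                  (iht fun z hz => hy z (Multiset.mem_cons_of_mem hz))
            rw [← hs.2]
            exact key s fun y hy => hA y (Multiset.mem_of_le hs.1 hy)
        · set h := (aeval (Function.update (X : Fin p → MvPolynomial (Fin p) ℤ) (id x) 0) :
            MvPolynomial (Fin p) ℤ →ₐ[ℤ] MvPolynomial (Fin p) ℤ) with hh
          have hDimg : h D = aeval (fun k : Fin (i * j) => (A.map h.toRingHom).esymm ((k : ℕ) + 1)) Q -
              (powMS (A.map h.toRingHom) i).esymm j := by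
            show h (_ - _) = _
            rw [map_sub, ← AlgHom.comp_apply, comp_aeval]
            refine congrArg₂ _ ?_ ?_
            · congr 2
              funext k
              exact map_esymm' h.toRingHom _ _
            · rw [show h _ = h.toRingHom _ from rfl, map_esymm', map_powMS]
          have hmem : h.toRingHom (X x) = 0 := by simp [hh]
          obtain ⟨A', hA'⟩ := Multiset.exists_cons_of_mem (show (0 : MvPolynomial (Fin p) ℤ) ∈
            A.map h.toRingHom from hmem ▸ Multiset.mem_map_of_mem _
              (Multiset.mem_map_of_mem _ (Finset.mem_univ_val x)))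
          have hc : Multiset.card A' + 1 = p := by
            have := congrArg Multiset.card hA'; simp [A] at this; omega
          rw [hDimg, sub_eq_zero, hA', ← coeff_prodLin, prodLin_pow_cons_zero, coeff_prodLin]
          simp only [← coeff_prodLin, prodLin_cons_zero]
          simp only [coeff_prodLin]
          exact ih (Multiset.card A') (by omega) _ A' rfl
      have := congrArg (aeval f : MvPolynomial (Fin p) ℤ →ₐ[ℤ] R) hD
      simp only [D, map_sub, map_zero, sub_eq_zero] at this
      rw [← AlgHom.comp_apply, comp_aeval] at this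
      rw [show ((univ : Finset (Fin p)).val.map f) = A.map (aeval f).toRingHom by
          simp [A, Function.comp_def], ← map_powMS, ← map_esymm']
      refine Eq.trans ?_ this
      congr 2
      funext k
      rw [← map_esymm']; rfl

/-- values of `Q_{i,j}` -/
theorem compPoly_eval {i j : ℕ} {Q : MvPolynomial (Fin (i * j)) ℤ} (hQ : LambdaRing.IsCompPoly i j Q)
    {R : Type u} [CommRing R] (a : Multiset R) :
    aeval (fun k : Fin (i * j) => a.esymm ((k : ℕ) + 1)) Q = (powMS a i).esymm j := by
  obtain ⟨f, hf⟩ := exists_univ_map (Multiset.card a) a rfl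
  let h : MvPolynomial (Fin (Multiset.card a)) ℤ →ₐ[ℤ] R := aeval f
  let A := (univ : Finset (Fin (Multiset.card a))).val.map
    fun i => (X i : MvPolynomial (Fin (Multiset.card a)) ℤ)
  have hA : A.map h.toRingHom = a :=
    (show A.map h.toRingHom = (univ : Finset (Fin (Multiset.card a))).val.map f by
      simp [A, h, Function.comp_def]).trans hf.symm
  have key := congrArg h (compPoly_eval₀ hQ A)
  rw [show ∀ x, h x = h.toRingHom x from fun _ => rfl, hom_aeval,
    show ∀ x, h x = h.toRingHom x from fun _ => rfl, map_esymm', map_powMS, hA] at key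
  refine Eq.trans ?_ key
  congr 2
  funext k
  rw [map_esymm', hA]

/-! ### existence -/

theorem exists_isCompPoly (i j : ℕ) : ∃ Q, LambdaRing.IsCompPoly i j Q := by
  have hsym : (LambdaRing.compGen (i * j) i j).IsSymmetric := by
    intro e
    rw [compGen_eq, show rename e ((powMS _ i).esymm j) =
      (rename e).toRingHom ((powMS _ i).esymm j) from rfl, map_esymm', map_powMS, Multiset.map_map]
    refine congrArg (fun m => (powMS m i).esymm j) ?_
    calc _ = ((univ : Finset (Fin (i * j))).val.map e).map X := by
          rw [Multiset.map_map]; exact Multiset.map_congr rfl fun x _ => by simp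
      _ = _ := by rw [Multiset.map_univ_val_equiv]
  obtain ⟨Q, hQ⟩ := esymmAlgHom_surjective (σ := Fin (i * j)) (n := i * j) ℤ (by simp)
    ⟨_, hsym⟩
  have hQ' : aeval (fun k : Fin (i * j) => esymm (Fin (i * j)) ℤ ((k : ℕ) + 1)) Q =
      LambdaRing.compGen (i * j) i j := by
    rw [← esymmAlgHom_apply, hQ]
  refine ⟨Q, hQ', IsWH_of_aeval (w' := fun _ : Fin (i * j) => 1) ?_ (compSubst_injective _) ?_⟩
  · intro k
    rw [univ_map_esymm]
    simpa [nsmul_eq_mul] using IsWH_multiset_esymm (w := fun _ : Fin (i * j) => 1) (d := (1 : ℕ))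
      ((univ : Finset (Fin (i * j))).val.map (X : Fin (i * j) → MvPolynomial (Fin (i * j)) ℤ))
      (by
        intro x hx
        obtain ⟨l, -, rfl⟩ := Multiset.mem_map.1 hx
        exact isWeightedHomogeneous_X _ _ l) ((k : ℕ) + 1)
  · rw [hQ', LambdaRing.compGen]
    have := IsWH_multiset_esymm (w := fun _ : Fin (i * j) => 1) (d := i)
      (((Finset.univ : Finset (Fin (i * j))).powersetCard i).val.map
        fun s => (∏ a ∈ s, X a : MvPolynomial (Fin (i * j)) ℤ)) ?_ j
    · simpa [mul_comm] using this
    intro x hx
    obtain ⟨s, hs, rfl⟩ := Multiset.mem_map.1 hx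
    have h := IsWeightedHomogeneous.prod s (fun a => (X a : MvPolynomial (Fin (i * j)) ℤ))
      (fun _ => 1) (w := fun _ : Fin (i * j) => 1) (fun a _ => isWeightedHomogeneous_X _ _ a)
    have hs' : s ∈ Finset.powersetCard i (Finset.univ : Finset (Fin (i * j))) := hs
    simpa [(Finset.mem_powersetCard.1 hs').2] using h

theorem exists_isMulPoly (n : ℕ) : ∃ P, LambdaRing.IsMulPoly n P := by
  let R' := MvPolynomial (Fin n) ℤ
  let A : Multiset (MvPolynomial (Fin n) R') := (univ : Finset (Fin n)).val.map X
  let B : Multiset (MvPolynomial (Fin n) R') := (univ : Finset (Fin n)).val.map fun b => C (X b)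
  let f : MvPolynomial (Fin n) R' := (prodsMS A B).esymm n
  have hsym : f.IsSymmetric := by
    intro e
    rw [show rename e f = (rename e).toRingHom f from rfl, map_esymm', map_prodsMS]
    refine congrArg₂ (fun a b => (prodsMS a b).esymm n) ?_ ?_
    · calc _ = ((univ : Finset (Fin n)).val.map e).map X := by
            rw [Multiset.map_map, Multiset.map_map]; exact Multiset.map_congr rfl fun x _ => by simp
        _ = _ := by rw [Multiset.map_univ_val_equiv]
    · rw [Multiset.map_map]; exact Multiset.map_congr rfl fun x _ => by simp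
  obtain ⟨g, hg⟩ := esymmAlgHom_surjective (σ := Fin n) (n := n) R' (by simp) ⟨f, hsym⟩
  have hg' : aeval (fun k : Fin n => esymm (Fin n) R' ((k : ℕ) + 1)) g = f := by
    rw [← esymmAlgHom_apply, hg]
  -- the coefficients of `g` are symmetric
  have hcoef : ∀ m, (coeff m g).IsSymmetric := by
    intro m e
    have hmapf : MvPolynomial.map ((rename e).toRingHom : R' →+* R') f = f := by
      rw [map_esymm', map_prodsMS]
      refine congrArg₂ (fun a b => (prodsMS a b).esymm n) ?_ ?_
      · rw [Multiset.map_map]; exact Multiset.map_congr rfl fun x _ => by simp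
      · calc _ = ((univ : Finset (Fin n)).val.map e).map (fun b => (C (X b) : MvPolynomial (Fin n) R')) := by
              rw [Multiset.map_map, Multiset.map_map]; exact Multiset.map_congr rfl fun x _ => by simp
          _ = _ := by rw [Multiset.map_univ_val_equiv]
    have hmap : MvPolynomial.map ((rename e).toRingHom : R' →+* R') g = g := by
      apply esymmAlgHom_injective (σ := Fin n) (n := n) R' (by simp)
      apply Subtype.ext
      rw [esymmAlgHom_apply, esymmAlgHom_apply, hg']
      conv_rhs => rw [← hmapf, ← hg']
      generalize g = q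
      induction q using MvPolynomial.induction_on with
      | C a => simp [algebraMap_eq]
      | add q r hq hr => simp only [map_add, hq, hr]
      | mul_X q k hq =>
        simp only [map_mul, hq, map_X, aeval_X]
        congr 1
        exact (map_esymm _ _ _ _).symm
    have := congrArg (coeff m) hmap
    rw [coeff_map] at this
    exact this
  let E : R' →ₐ[ℤ] R' := aeval fun k : Fin n => esymm (Fin n) ℤ ((k : ℕ) + 1)
  have hE : ∀ m, ∃ h : R', E h = coeff m g := by
    intro m
    obtain ⟨h, hh⟩ := esymmAlgHom_surjective (σ := Fin n) (n := n) ℤ (by simp) ⟨_, hcoef m⟩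
    exact ⟨h, by rw [show E h = _ from (esymmAlgHom_apply h).symm, hh]⟩
  choose c hc using hE
  let g0 : MvPolynomial (Fin n) R' := ∑ m ∈ g.support, monomial m (c m)
  have hg0 : MvPolynomial.map E.toRingHom g0 = g := by
    conv_rhs => rw [g.as_sum]
    rw [map_sum]
    exact Finset.sum_congr rfl fun m _ => by rw [map_monomial]; exact congrArg _ (hc m)
  let T := MvPolynomial (Fin n ⊕ Fin n) ℤ
  let ι : R' →+* T := (rename (Sum.inr (α := Fin n))).toRingHom
  let J : MvPolynomial (Fin n) R' →+* T := eval₂Hom ι fun k => X (Sum.inl k)
  let sub : T →ₐ[ℤ] T := aeval (Sum.elim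
      (fun k : Fin n => rename (Sum.inl (β := Fin n)) (esymm (Fin n) ℤ ((k : ℕ) + 1)))
      (fun k : Fin n => rename (Sum.inr (α := Fin n)) (esymm (Fin n) ℤ ((k : ℕ) + 1))))
  refine ⟨J g0, ?_⟩
  have h1 : sub (J g0) = LambdaRing.mulGen n n := by
    have hJf : J f = LambdaRing.mulGen n n := by
      rw [mulGen_eq, map_esymm', map_prodsMS]
      refine congrArg₂ (fun a b => (prodsMS a b).esymm n) ?_ ?_ <;> rw [Multiset.map_map] <;>
        exact Multiset.map_congr rfl fun x _ => by
          simp [J, ι]
          try exact rename_X _ _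
    rw [← hJf, ← hg', ← hg0]
    have hcomp : (sub.toRingHom).comp J =
        J.comp ((aeval fun k : Fin n => esymm (Fin n) R' ((k : ℕ) + 1)).toRingHom.comp
          (MvPolynomial.map E.toRingHom)) := by
      apply MvPolynomial.ringHom_ext'
      · refine RingHom.ext fun x => ?_
        have hx : sub.comp (rename (Sum.inr (α := Fin n))) =
            (rename (Sum.inr (α := Fin n))).comp E := by
          apply MvPolynomial.algHom_ext
          intro k
          show aeval _ (rename (Sum.inr (α := Fin n)) (X k : MvPolynomial (Fin n) ℤ)) =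
            rename (Sum.inr (α := Fin n)) (aeval _ (X k : MvPolynomial (Fin n) ℤ))
          rw [rename_X, aeval_X, aeval_X]
          rfl
        have := DFunLike.congr_fun hx x
        simp [J, ι]
        exact this
      · intro k
        have hJ : ∀ q : MvPolynomial (Fin n) R',
            J q = eval₂Hom ι (fun k => X (Sum.inl k)) q := fun q => rfl
        show sub (J (X k)) = J (aeval (fun k : Fin n => esymm (Fin n) R' ((k : ℕ) + 1))
          (MvPolynomial.map E.toRingHom (X k)))
        rw [map_X, aeval_X, univ_map_esymm', map_esymm' J, Multiset.map_map]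
        have hX : J (X k) = X (Sum.inl k) := eval₂Hom_X' _ _ _
        rw [hX]
        show aeval _ (X (Sum.inl k)) = _
        rw [aeval_X, Sum.elim_inl, univ_map_esymm,
          show ∀ q, rename (R := ℤ) (Sum.inl (β := Fin n)) q =
            (rename (R := ℤ) (Sum.inl (β := Fin n))).toRingHom q from fun _ => rfl,
          map_esymm', Multiset.map_map]
        exact congrArg (fun m => Multiset.esymm m _) (Multiset.map_congr rfl fun x _ => by simp [J])
    exact congrArg (fun φ : MvPolynomial (Fin n) R' →+* T => φ g0) hcomp
  refine ⟨h1, ?_⟩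
  refine IsWH_of_aeval (w' := Sum.elim (fun _ : Fin n => ((1, 0) : ℕ × ℕ)) (fun _ : Fin n => ((0, 1) : ℕ × ℕ))) ?_
    (mulSubst_injective n) ?_
  · have key : ∀ (e : Fin n → Fin n ⊕ Fin n) (d : ℕ × ℕ) (k : ℕ),
        (∀ i, Sum.elim (fun _ : Fin n => ((1, 0) : ℕ × ℕ)) (fun _ : Fin n => ((0, 1) : ℕ × ℕ)) (e i) = d) →
        IsWeightedHomogeneous
          (Sum.elim (fun _ : Fin n => ((1, 0) : ℕ × ℕ)) (fun _ : Fin n => ((0, 1) : ℕ × ℕ)))
          (rename e (esymm (Fin n) ℤ k)) (k • d) := by
      intro e d k he
      rw [univ_map_esymm, show rename (R := ℤ) e (Multiset.esymm _ k) =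
        (rename (R := ℤ) e).toRingHom _ from rfl, map_esymm', Multiset.map_map]
      refine IsWH_multiset_esymm _ ?_ k
      intro x hx
      obtain ⟨l, -, rfl⟩ := Multiset.mem_map.1 hx
      rw [← he l]
      simpa using isWeightedHomogeneous_X ℤ _ (e l)
    rintro (k | k)
    · simpa using key Sum.inl (1, 0) ((k : ℕ) + 1) fun i => rfl
    · simpa using key Sum.inr (0, 1) ((k : ℕ) + 1) fun i => rfl
  · rw [show aeval _ (J g0) = sub (J g0) from rfl, h1, LambdaRing.mulGen]
    have := IsWH_multiset_esymm
      (w := Sum.elim (fun _ : Fin n => ((1, 0) : ℕ × ℕ)) (fun _ : Fin n => ((0, 1) : ℕ × ℕ)))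
      (d := ((1, 1) : ℕ × ℕ))
      ((Finset.univ : Finset (Fin n × Fin n)).val.map
        fun ab => (X (Sum.inl ab.1) * X (Sum.inr ab.2) : T)) ?_ n
    · simpa using this
    intro x hx
    obtain ⟨l, -, rfl⟩ := Multiset.mem_map.1 hx
    exact ((isWeightedHomogeneous_X _ _ _).mul (isWeightedHomogeneous_X _ _ _))

end Groth.Agent.Lambda
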