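import Groth.Agent.Lambda.Basic
import Groth.Agent.Lambda.SymPoly

/-!
# Special λ-rings and Adams operations
-/

noncomputable section

set_option linter.style.haveILetI false
set_option linter.unusedSectionVars false
set_option linter.unusedSimpArgs false

open Finset LambdaRing
open PowerSeries (coeff constantCoeff)

namespace Groth.Agent.Lambda

universe u v

/-- the universal polynomial `P_n` -/
def mulPoly (n : ℕ) : MvPolynomial (Fin n ⊕ Fin n) ℤ := (exists_isMulPoly n).choose

theorem isMulPoly_mulPoly (n : ℕ) : IsMulPoly n (mulPoly n) := (exists_isMulPoly n).choose_spec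

theorem mulPoly_unique {n : ℕ} {P : MvPolynomial (Fin n ⊕ Fin n) ℤ} (hP : IsMulPoly n P) :
    P = mulPoly n :=
  mulSubst_injective n (hP.1.trans (isMulPoly_mulPoly n).1.symm)

/-- the universal polynomial `Q_{i,j}` -/
def compPoly (i j : ℕ) : MvPolynomial (Fin (i * j)) ℤ := (exists_isCompPoly i j).choose

theorem isCompPoly_compPoly (i j : ℕ) : IsCompPoly i j (compPoly i j) :=
  (exists_isCompPoly i j).choose_spec

theorem compPoly_unique {i j : ℕ} {Q : MvPolynomial (Fin (i * j)) ℤ} (hQ : IsCompPoly i j Q) :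
    Q = compPoly i j :=
  compSubst_injective (i * j) (hQ.1.trans (isCompPoly_compPoly i j).1.symm)

variable {R : Type u} [CommRing R] {S : Type v} [CommRing S]

/-- the series with coefficients `P_n(f, g)` -/
def Pser (f g : PowerSeries R) : PowerSeries R :=
  PowerSeries.mk fun n => MvPolynomial.aeval
    (Sum.elim (fun k : Fin n => coeff ((k : ℕ) + 1) f) (fun k : Fin n => coeff ((k : ℕ) + 1) g))
    (mulPoly n)

/-- the series with coefficients `Q_{i,j}(f)` -/
def Qser (i : ℕ) (f : PowerSeries R) : PowerSeries R :=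
  PowerSeries.mk fun j => MvPolynomial.aeval
    (fun k : Fin (i * j) => coeff ((k : ℕ) + 1) f) (compPoly i j)

theorem coeff_Pser_congr {f f' g g' : PowerSeries R} (n : ℕ)
    (hf : ∀ m, 1 ≤ m → m ≤ n → coeff m f = coeff m f') (hg : ∀ m, 1 ≤ m → m ≤ n → coeff m g = coeff m g') :
    coeff n (Pser f g) = coeff n (Pser f' g') := by
  simp only [Pser, PowerSeries.coeff_mk]
  congr 2
  funext x
  rcases x with k | k
  · exact hf _ (by omega) k.2
  · exact hg _ (by omega) k.2

theorem coeff_Qser_congr {f f' : PowerSeries R} (i j : ℕ)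
    (hf : ∀ m, 1 ≤ m → m ≤ i * j → coeff m f = coeff m f') :
    coeff j (Qser i f) = coeff j (Qser i f') := by
  simp only [Qser, PowerSeries.coeff_mk]
  congr 2
  funext k
  exact hf _ (by omega) k.2

theorem map_Pser (φ : R →+* S) (f g : PowerSeries R) :
    PowerSeries.map φ (Pser f g) = Pser (PowerSeries.map φ f) (PowerSeries.map φ g) := by
  ext n
  simp only [Pser, PowerSeries.coeff_map, PowerSeries.coeff_mk, hom_aeval]
  congr 2
  funext x
  rcases x with k | k <;> simp

theorem map_Qser (φ : R →+* S) (i : ℕ) (f : PowerSeries R) :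
    PowerSeries.map φ (Qser i f) = Qser i (PowerSeries.map φ f) := by
  ext n
  simp only [Qser, PowerSeries.coeff_map, PowerSeries.coeff_mk, hom_aeval]

theorem Pser_prodLin (a b : Multiset R) : Pser (prodLin a) (prodLin b) = prodLin (prodsMS a b) := by
  ext n
  simp only [Pser, PowerSeries.coeff_mk, coeff_prodLin]
  exact mulPoly_eval (isMulPoly_mulPoly n) a b

theorem Qser_prodLin (i : ℕ) (a : Multiset R) : Qser i (prodLin a) = prodLin (powMS a i) := by
  ext n
  simp only [Qser, PowerSeries.coeff_mk, coeff_prodLin]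
  exact compPoly_eval (isCompPoly_compPoly i n) a

theorem cc_Pser (f g : PowerSeries R) : CC (Pser f g) := by
  show constantCoeff _ = 1
  rw [← PowerSeries.coeff_zero_eq_constantCoeff_apply,
    coeff_Pser_congr (f' := prodLin (0 : Multiset R)) (g' := prodLin (0 : Multiset R)) 0
      (fun m h1 h2 => absurd h2 (by omega)) (fun m h1 h2 => absurd h2 (by omega)),
    Pser_prodLin, coeff_prodLin, esymm_zero_eq_one]

theorem cc_Qser (i : ℕ) (f : PowerSeries R) : CC (Qser i f) := by
  show constantCoeff _ = 1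
  rw [← PowerSeries.coeff_zero_eq_constantCoeff_apply,
    coeff_Qser_congr (f' := prodLin (0 : Multiset R)) i 0
      (fun m h1 h2 => absurd h2 (by simp only [Nat.mul_zero]; omega)),
    Qser_prodLin, coeff_prodLin, esymm_zero_eq_one]

/-- the generic series with constant coefficient one and `n` further coefficients -/
def genSer {ι : Type} (n : ℕ) (e : Fin n → ι) : PowerSeries (MvPolynomial ι ℤ) :=
  PowerSeries.mk fun m =>
    if h : 1 ≤ m ∧ m ≤ n then MvPolynomial.X (e ⟨m - 1, by omega⟩) else if m = 0 then 1 else 0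

theorem cc_genSer {ι : Type} (n : ℕ) (e : Fin n → ι) : CC (genSer n e) := by
  show constantCoeff _ = 1
  rw [← PowerSeries.coeff_zero_eq_constantCoeff_apply]
  simp [genSer]

theorem genSer_spec {ι : Type} (n : ℕ) (e : Fin n → ι) {f : PowerSeries R} (hf : CC f)
    (φ : MvPolynomial ι ℤ →+* R) (hφ : ∀ k, φ (MvPolynomial.X (e k)) = coeff ((k : ℕ) + 1) f)
    (m : ℕ) (hm : m ≤ n) : coeff m (PowerSeries.map φ (genSer n e)) = coeff m f := by
  rw [PowerSeries.coeff_map, genSer, PowerSeries.coeff_mk]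
  cases m with
  | zero => simp [hf.coeff_zero]
  | succ m =>
    rw [dif_pos ⟨by omega, hm⟩, hφ]
    rfl

theorem genSer_prodLin {ι : Type} (n : ℕ) (e : Fin n → ι) (φ : MvPolynomial ι ℤ →+* R)
    (a : Multiset R) (ha : Multiset.card a = n)
    (hφ : ∀ k, φ (MvPolynomial.X (e k)) = a.esymm ((k : ℕ) + 1)) :
    PowerSeries.map φ (genSer n e) = prodLin a := by
  ext m
  rw [PowerSeries.coeff_map, genSer, PowerSeries.coeff_mk, coeff_prodLin]
  by_cases h : 1 ≤ m ∧ m ≤ n
  · rw [dif_pos h, hφ]
    congr 1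
    show m - 1 + 1 = m
    omega
  · rw [dif_neg h]
    by_cases h0 : m = 0
    · simp [h0, esymm_zero_eq_one]
    · rw [if_neg h0, map_zero, esymm_of_card_lt a m (by omega)]

theorem psi_Pser {f g : PowerSeries R} (hf : CC f) (hg : CC g) (k : ℕ) :
    psi (Pser f g) k = psi f k * psi g k := by
  rcases Nat.eq_zero_or_pos k with rfl | hk
  · simp [psi_zero]
  let u := genSer k (Sum.inl : Fin k → Fin k ⊕ Fin k)
  let v := genSer k (Sum.inr : Fin k → Fin k ⊕ Fin k)
  have key : psi (Pser u v) k = psi u k * psi v k := by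
    let θ : MvPolynomial (Fin k ⊕ Fin k) ℤ →+* MvPolynomial (Fin k ⊕ Fin k) ℤ :=
      (MvPolynomial.aeval (R := ℤ) (Sum.elim
      (fun l : Fin k => MvPolynomial.rename (Sum.inl (β := Fin k)) (MvPolynomial.esymm (Fin k) ℤ ((l : ℕ) + 1)))
      (fun l : Fin k => MvPolynomial.rename (Sum.inr (α := Fin k)) (MvPolynomial.esymm (Fin k) ℤ ((l : ℕ) + 1))))).toRingHom
    have hθ : Function.Injective θ := mulSubst_injective k
    have hu : ∀ (e : Fin k → Fin k ⊕ Fin k),
        (∀ l, θ (MvPolynomial.X (e l)) = MvPolynomial.rename e (MvPolynomial.esymm (Fin k) ℤ ((l : ℕ) + 1))) →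
        PowerSeries.map θ (genSer k e) =
          prodLin ((univ : Finset (Fin k)).val.map fun i => (MvPolynomial.X (e i) : MvPolynomial (Fin k ⊕ Fin k) ℤ)) := by
      intro e he
      refine genSer_prodLin k e θ _ (by simp) fun l => ?_
      rw [he l, univ_map_esymm, show ∀ q, MvPolynomial.rename (R := ℤ) e q =
        (MvPolynomial.rename (R := ℤ) e).toRingHom q from fun _ => rfl, map_esymm', Multiset.map_map]
      exact congrArg (fun m => Multiset.esymm m _) (Multiset.map_congr rfl fun x _ => by simp)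
    apply hθ
    rw [map_mul, map_psi (cc_Pser _ _), map_psi (cc_genSer _ _), map_psi (cc_genSer _ _), map_Pser,
      hu Sum.inl (fun l => by simp [θ]), hu Sum.inr (fun l => by simp [θ]), Pser_prodLin,
      psi_prodLin _ k hk, psi_prodLin _ k hk, psi_prodLin _ k hk]
    generalize ((univ : Finset (Fin k)).val.map fun i => (MvPolynomial.X (Sum.inl i) : MvPolynomial (Fin k ⊕ Fin k) ℤ)) = a
    generalize ((univ : Finset (Fin k)).val.map fun i => (MvPolynomial.X (Sum.inr i) : MvPolynomial (Fin k ⊕ Fin k) ℤ)) = b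
    induction a using Multiset.induction with
    | empty => simp [prodsMS]
    | cons x a ih =>
      simp [prodsMS_cons_left, ih, add_mul, Multiset.map_map, Function.comp_def, mul_pow,
        Multiset.sum_map_mul_left]
  let φ : MvPolynomial (Fin k ⊕ Fin k) ℤ →+* R :=
    (MvPolynomial.aeval (Sum.elim (fun l : Fin k => coeff ((l : ℕ) + 1) f)
      (fun l : Fin k => coeff ((l : ℕ) + 1) g))).toRingHom
  have hu := genSer_spec k Sum.inl hf φ (fun l => by simp [φ])
  have hv := genSer_spec k Sum.inr hg φ (fun l => by simp [φ])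
  have h := congrArg φ key
  rw [map_mul, map_psi (cc_Pser _ _), map_psi (cc_genSer _ _), map_psi (cc_genSer _ _), map_Pser,
    psi_congr ((cc_genSer _ _).map φ) hf hu k le_rfl, psi_congr ((cc_genSer _ _).map φ) hg hv k le_rfl,
    psi_congr (cc_Pser _ _) (cc_Pser f g) (fun m hm => coeff_Pser_congr m
      (fun l _ hl => hu l (hl.trans hm)) (fun l _ hl => hv l (hl.trans hm))) k le_rfl] at h
  exact h

theorem Qser_zero (f : PowerSeries R) : Qser 0 f = lin 1 := by
  have h : Qser 0 f = Qser 0 (prodLin (0 : Multiset R)) := by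
    ext j
    exact coeff_Qser_congr 0 j fun m h1 h2 => absurd h2 (by simp only [Nat.zero_mul]; omega)
  rw [h, Qser_prodLin]
  simp [powMS, prodLin]

/-- the series with coefficients `ψ_k(Q_i(f))` -/
def Rser (k : ℕ) (f : PowerSeries R) : PowerSeries R :=
  PowerSeries.mk fun i => psi (Qser i f) k

theorem cc_Rser {k : ℕ} (hk : 1 ≤ k) (f : PowerSeries R) : CC (Rser k f) := by
  show constantCoeff _ = 1
  rw [← PowerSeries.coeff_zero_eq_constantCoeff_apply, Rser, PowerSeries.coeff_mk, Qser_zero,
    psi_lin 1 k hk, one_pow]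

theorem map_Rser (φ : R →+* S) (k : ℕ) (f : PowerSeries R) :
    PowerSeries.map φ (Rser k f) = Rser k (PowerSeries.map φ f) := by
  ext i
  rw [PowerSeries.coeff_map, Rser, Rser, PowerSeries.coeff_mk, PowerSeries.coeff_mk,
    map_psi (cc_Qser i f), map_Qser]

theorem sum_pow_powMS (a : Multiset R) (i k : ℕ) :
    ((powMS a i).map (· ^ k)).sum = (a.map (· ^ k)).esymm i := by
  simp only [powMS, Multiset.esymm, Multiset.powersetCard_map, Multiset.map_map]
  refine congrArg Multiset.sum (Multiset.map_congr rfl fun s _ => ?_)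
  simp [Multiset.prod_map_pow]

theorem Rser_prodLin {k : ℕ} (hk : 1 ≤ k) (a : Multiset R) :
    Rser k (prodLin a) = prodLin (a.map (· ^ k)) := by
  ext i
  rw [Rser, PowerSeries.coeff_mk, Qser_prodLin, psi_prodLin _ k hk, coeff_prodLin, sum_pow_powMS]

theorem coeff_Rser_congr {f f' : PowerSeries R} (k i : ℕ)
    (h : ∀ m, 1 ≤ m → m ≤ i * k → coeff m f = coeff m f') :
    coeff i (Rser k f) = coeff i (Rser k f') := by
  rw [Rser, Rser, PowerSeries.coeff_mk, PowerSeries.coeff_mk]
  exact psi_congr (cc_Qser _ _) (cc_Qser _ _)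
    (fun j hj => coeff_Qser_congr i j fun m h1 h2 => h m h1 (h2.trans (Nat.mul_le_mul_left i hj))) k le_rfl

theorem psi_Rser {f : PowerSeries R} (hf : CC f) {k : ℕ} (hk : 1 ≤ k) (l : ℕ) :
    psi (Rser k f) l = psi f (l * k) := by
  rcases Nat.eq_zero_or_pos l with rfl | hl
  · simp [psi_zero]
  let u := genSer (l * k) (_root_.id : Fin (l * k) → Fin (l * k))
  have key : psi (Rser k u) l = psi u (l * k) := by
    let θ : MvPolynomial (Fin (l * k)) ℤ →+* MvPolynomial (Fin (l * k)) ℤ :=
      (MvPolynomial.aeval (R := ℤ) fun j : Fin (l * k) => MvPolynomial.esymm (Fin (l * k)) ℤ ((j : ℕ) + 1)).toRingHom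
    have hθ : Function.Injective θ := compSubst_injective (l * k)
    apply hθ
    have hu : PowerSeries.map θ u =
        prodLin ((univ : Finset (Fin (l * k))).val.map MvPolynomial.X) :=
      genSer_prodLin _ _ θ _ (by simp) fun j => by simp [θ, univ_map_esymm]
    rw [map_psi (cc_Rser hk _), map_psi (cc_genSer _ _), map_Rser, hu, Rser_prodLin hk,
      psi_prodLin _ l hl, psi_prodLin _ (l * k) (Nat.mul_pos hl hk), Multiset.map_map]
    exact congrArg Multiset.sum (Multiset.map_congr rfl fun x _ => by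
      simp [Function.comp, ← pow_mul, Nat.mul_comm])
  let φ : MvPolynomial (Fin (l * k)) ℤ →+* R :=
    (MvPolynomial.aeval fun j : Fin (l * k) => coeff ((j : ℕ) + 1) f).toRingHom
  have hu := genSer_spec (l * k) _root_.id hf φ (fun j => by simp [φ])
  have h := congrArg φ key
  rw [map_psi (cc_Rser hk _), map_psi (cc_genSer _ _), map_Rser,
    psi_congr ((cc_genSer _ _).map φ) hf hu (l * k) le_rfl,
    psi_congr (cc_Rser hk _) (cc_Rser hk f) (fun i hi => coeff_Rser_congr k i
      fun m _ hm => hu m (hm.trans (Nat.mul_le_mul_right k hi))) l le_rfl] at h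
  exact h

/-! ### special λ-rings -/

variable {K : Type u} [CommRing K] [LambdaOps K]

theorem isSpecial_of_series (h1 : ∀ n, 2 ≤ n → LambdaOps.lam n (1 : K) = 0)
    (hmul : ∀ x y : K, lamSeries (x * y) = Pser (lamSeries x) (lamSeries y))
    (hlam : ∀ (i : ℕ) (x : K), lamSeries (LambdaOps.lam i x) = Qser i (lamSeries x)) : IsSpecial K where
  lam_one_eq_zero := h1
  lam_mul n P hP x y := by
    rw [← coeff_lamSeries, hmul, Pser, PowerSeries.coeff_mk, ← mulPoly_unique hP]
    simp [coeff_lamSeries]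
  lam_lam i j Q hQ x := by
    rw [← coeff_lamSeries, hlam, Qser, PowerSeries.coeff_mk, ← compPoly_unique hQ]
    simp [coeff_lamSeries]

theorem Special.lamSeries_mul (hK : IsSpecial K) (x y : K) :
    lamSeries (x * y) = Pser (lamSeries x) (lamSeries y) := by
  ext n
  rw [coeff_lamSeries, hK.lam_mul n _ (isMulPoly_mulPoly n), Pser, PowerSeries.coeff_mk]
  simp [coeff_lamSeries]

theorem Special.lamSeries_lam (hK : IsSpecial K) (i : ℕ) (x : K) :
    lamSeries (LambdaOps.lam i x) = Qser i (lamSeries x) := by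
  ext n
  rw [coeff_lamSeries, hK.lam_lam i n _ (isCompPoly_compPoly i n), Qser, PowerSeries.coeff_mk]
  simp [coeff_lamSeries]

theorem Special.adamsOp_mul (hK : IsSpecial K) (k : ℕ) (x y : K) :
    adamsOp k (x * y) = adamsOp k x * adamsOp k y := by
  simp only [adamsOp_eq_psi, Special.lamSeries_mul hK, psi_Pser (cc_lamSeries x) (cc_lamSeries y)]

/-- `ψ^k` of a special λ-ring as a ring map -/
def Special.adamsHom (hK : IsSpecial K) (k : ℕ) (hk : 1 ≤ k) : K →+* K where
  toFun := adamsOp k
  map_zero' := adamsOp_zero_arg k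
  map_add' := adamsOp_add k
  map_one' := by rw [adamsOp_line hK.lam_one_eq_zero k hk, one_pow]
  map_mul' := Special.adamsOp_mul hK k

theorem Special.map_adamsHom_lamSeries (hK : IsSpecial K) {k : ℕ} (hk : 1 ≤ k) (x : K) :
    PowerSeries.map (Special.adamsHom hK k hk) (lamSeries x) = Rser k (lamSeries x) := by
  ext i
  rw [PowerSeries.coeff_map, coeff_lamSeries, Rser, PowerSeries.coeff_mk, ← Special.lamSeries_lam hK,
    ← adamsOp_eq_psi]
  rfl

theorem Special.adamsOp_adamsOp (hK : IsSpecial K) {k k' : ℕ} (hk : 1 ≤ k) (x : K) :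
    adamsOp k (adamsOp k' x) = adamsOp (k' * k) x := by
  rw [adamsOp_eq_psi k' x, adamsOp_eq_psi (k' * k) x]
  show Special.adamsHom hK k hk (psi (lamSeries x) k') = _
  rw [map_psi (cc_lamSeries x), Special.map_adamsHom_lamSeries hK hk x,
    psi_Rser (cc_lamSeries x) hk k']

/-- A pre-λ-ring without torsion whose Adams operations are multiplicative and compose is special. -/
theorem isSpecial_of_adams (hT : NatTorsionFree K) (h1 : ∀ k : ℕ, 1 ≤ k → adamsOp k (1 : K) = 1)
    (hmul : ∀ k : ℕ, 1 ≤ k → ∀ x y : K, adamsOp k (x * y) = adamsOp k x * adamsOp k y)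
    (hcomp : ∀ k k' : ℕ, 1 ≤ k → 1 ≤ k' → ∀ x : K, adamsOp k (adamsOp k' x) = adamsOp (k * k') x) :
    IsSpecial K := by
  have hone : lamSeries (1 : K) = lin 1 := eq_of_psi hT (cc_lamSeries _) (cc_lin _) fun k hk => by
    rw [← adamsOp_eq_psi, h1 k hk, psi_lin 1 k hk, one_pow]
  refine isSpecial_of_series (fun n hn => ?_) (fun x y => ?_) (fun i x => ?_)
  · rw [← coeff_lamSeries, hone]
    obtain ⟨m, rfl⟩ : ∃ m, n = m + 1 := ⟨n - 1, by omega⟩
    rw [coeff_lin_succ, if_neg (by omega)]
  · refine eq_of_psi hT (cc_lamSeries _) (cc_Pser _ _) fun k hk => ?_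
    rw [psi_Pser (cc_lamSeries x) (cc_lamSeries y), ← adamsOp_eq_psi, ← adamsOp_eq_psi, ← adamsOp_eq_psi,
      hmul k hk]
  · refine eq_of_psi hT (cc_lamSeries _) (cc_Qser _ _) fun k hk => ?_
    let ψ : K →+* K :=
      { toFun := adamsOp k, map_zero' := adamsOp_zero_arg k, map_add' := adamsOp_add k,
        map_one' := h1 k hk, map_mul' := hmul k hk }
    have hR : lamSeries (adamsOp k x) = Rser k (lamSeries x) :=
      eq_of_psi hT (cc_lamSeries _) (cc_Rser hk _) fun l hl => by
        rw [psi_Rser (cc_lamSeries x) hk, ← adamsOp_eq_psi, ← adamsOp_eq_psi, hcomp l k hl hk]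
    have hψ : PowerSeries.map ψ (lamSeries x) = lamSeries (adamsOp k x) :=
      eq_of_psi hT ((cc_lamSeries x).map ψ) (cc_lamSeries _) fun l hl => by
        rw [← map_psi (cc_lamSeries x), ← adamsOp_eq_psi, ← adamsOp_eq_psi]
        show adamsOp k (adamsOp l x) = _
        rw [hcomp k l hk hl, hcomp l k hl hk, Nat.mul_comm]
    have := congrArg (coeff i) (hψ.trans hR)
    rw [PowerSeries.coeff_map, coeff_lamSeries, Rser, PowerSeries.coeff_mk] at this
    rw [← adamsOp_eq_psi]
    exact this

theorem isSpecial_binomial [BinomialRing K] (hb : IsBinomial K) : IsSpecial K :=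
  isSpecial_of_adams natTorsionFree_binomial (fun k hk => adamsOp_binomial hb k hk 1)
    (fun k hk x y => by simp [adamsOp_binomial hb k hk])
    (fun k k' hk hk' x => by
      rw [adamsOp_binomial hb k hk, adamsOp_binomial hb k' hk',
        adamsOp_binomial hb (k * k') (Nat.mul_pos hk hk')])

theorem natTorsionFree_ratAlgebra (A : Type u) [CommRing A] [Algebra ℚ A] : NatTorsionFree A := by
  intro n hn a ha
  have : algebraMap ℚ A ((n : ℚ)⁻¹) * ((n : A) * a) = a := by
    rw [← mul_assoc, ← map_natCast (algebraMap ℚ A) n, ← map_mul,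
      inv_mul_cancel₀ (by exact_mod_cast hn), map_one, one_mul]
  rw [← this, ha, mul_zero]

/-- λ-homomorphisms are detected by the Adams operations. -/
theorem lHom_of_adams {L : Type v} [CommRing L] [LambdaOps L] (hT : NatTorsionFree L) (f : K →+* L)
    (h : ∀ k : ℕ, 1 ≤ k → ∀ x, f (adamsOp k x) = adamsOp k (f x)) : LHom f := fun x =>
  eq_of_psi hT ((cc_lamSeries x).map f) (cc_lamSeries _) fun k hk => by
    rw [← map_psi (cc_lamSeries x), ← adamsOp_eq_psi, ← adamsOp_eq_psi, h k hk]

end Groth.Agent.Lambda
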