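import Groth.Agent.Lambda.Special
import Mathlib.RingTheory.MvPolynomial.Symmetric.FundamentalTheorem

/-!
# Proving identities between series by splitting or by removing torsion
-/

noncomputable section

open Finset
open PowerSeries (coeff rescale)

namespace Groth.Agent.Lambda

universe u v

variable {R : Type u} [CommRing R] {S : Type v} [CommRing S]

theorem natTorsionFree_domain (A : Type u) [CommRing A] [IsDomain A] [CharZero A] : NatTorsionFree A :=
  fun _ hn _ ha => (mul_eq_zero.1 ha).resolve_left (Nat.cast_ne_zero.2 hn)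

theorem exists_cc_lift (φ : S →+* R) (hφ : Function.Surjective φ) {f : PowerSeries R} (hf : CC f) :
    ∃ F : PowerSeries S, CC F ∧ PowerSeries.map φ F = f ∧ ∀ i, i ≠ 0 → coeff i f = 0 → coeff i F = 0 := by
  classical
  refine ⟨PowerSeries.mk fun i =>
    if i = 0 then 1 else if coeff i f = 0 then 0 else Function.surjInv hφ (coeff i f), ?_, ?_, ?_⟩
  · show PowerSeries.constantCoeff _ = 1
    rw [← PowerSeries.coeff_zero_eq_constantCoeff_apply, PowerSeries.coeff_mk, if_pos rfl]
  · ext i
    rw [PowerSeries.coeff_map, PowerSeries.coeff_mk]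
    split_ifs with h0 h1
    · rw [h0, map_one, hf.coeff_zero]
    · rw [map_zero, h1]
    · rw [Function.surjInv_eq hφ]
  · intro i h0 h1
    rw [PowerSeries.coeff_mk, if_neg h0, if_pos h1]

/-- the torsion free ring covering `R` -/
abbrev Cover (R : Type u) [CommRing R] : Type u := MvPolynomial R ℤ

/-- the covering map -/
def coverMap (R : Type u) [CommRing R] : Cover R →+* R := (MvPolynomial.aeval (fun r : R => r)).toRingHom

theorem coverMap_surjective : Function.Surjective (coverMap R) :=
  fun r => ⟨MvPolynomial.X r, by simp [coverMap]⟩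

theorem natTorsionFree_cover : NatTorsionFree (Cover R) := natTorsionFree_domain _

/-- splitting of a series of bounded degree -/
theorem split_principle (n : ℕ) (f : PowerSeries R) (hf : CC f) (hb : ∀ i, n < i → coeff i f = 0) :
    ∃ (U : Type u) (_ : CommRing U) (L : Type u) (_ : CommRing L) (φ : U →+* R) (θ : U →+* L)
      (F : PowerSeries U) (a : Multiset L), Function.Surjective φ ∧ Function.Injective θ ∧ CC F ∧
      PowerSeries.map φ F = f ∧ PowerSeries.map θ F = prodLin a ∧ Multiset.card a = n ∧ NatTorsionFree L := by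
  let W := Cover R
  let φ : MvPolynomial (Fin n) W →+* R :=
    MvPolynomial.eval₂Hom (coverMap R) fun k : Fin n => coeff ((k : ℕ) + 1) f
  let θ : MvPolynomial (Fin n) W →+* MvPolynomial (Fin n) W :=
    ((MvPolynomial.symmetricSubalgebra (Fin n) W).val.comp (MvPolynomial.esymmAlgHom (Fin n) W n)).toRingHom
  refine ⟨MvPolynomial (Fin n) W, inferInstance, MvPolynomial (Fin n) W, inferInstance, φ, θ,
    PowerSeries.mk fun m => if h : 1 ≤ m ∧ m ≤ n then MvPolynomial.X ⟨m - 1, by omega⟩ else if m = 0 then 1 else 0,
    (univ : Finset (Fin n)).val.map MvPolynomial.X, ?_, ?_, ?_, ?_, ?_, ?_, natTorsionFree_domain _⟩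
  · intro r
    refine ⟨MvPolynomial.C (MvPolynomial.X r), ?_⟩
    simp [φ, coverMap]
    exact MvPolynomial.aeval_X _ _
  · exact Subtype.val_injective.comp (MvPolynomial.esymmAlgHom_injective W (by simp))
  · show PowerSeries.constantCoeff _ = 1
    rw [← PowerSeries.coeff_zero_eq_constantCoeff_apply]
    simp
  · ext m
    rw [PowerSeries.coeff_map, PowerSeries.coeff_mk]
    split_ifs with h h0
    · simp only [φ, MvPolynomial.eval₂Hom_X']
      rw [show m - 1 + 1 = m by omega]
    · rw [h0, map_one, hf.coeff_zero]
    · rw [map_zero, hb m (by omega)]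
  · ext m : 1
    rw [PowerSeries.coeff_map, PowerSeries.coeff_mk, coeff_prodLin]
    split_ifs with h h0
    · simp only [θ, MvPolynomial.esymmAlgHom, AlgHom.toRingHom_eq_coe, RingHom.coe_coe, AlgHom.comp_apply,
        MvPolynomial.aeval_X, Subalgebra.coe_val, show m - 1 + 1 = m by omega]
      rw [← MvPolynomial.aeval_esymm_eq_multiset_esymm (Fin n) W]
      exact ((MvPolynomial.aeval_X_left_apply _)).symm
    · rw [h0, map_one, esymm_zero_eq_one]
    · rw [map_zero, esymm_of_card_lt _ m (by simp; omega)]
  · simp

end Groth.Agent.Lambda
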