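import Groth.Agent.Lambda.ToddTot
import Groth.Agent.Lambda.ChernBij
import Groth.Agent.Lambda.Divide
import Groth.Agent.Lambda.Involution

/-!
# Todd class, Chern character and top Chern class
-/

noncomputable section

set_option autoImplicit false
set_option linter.style.haveILetI false
set_option linter.unusedSectionVars false

open Finset LambdaRing PowerSeries
open scoped TensorProduct

namespace Groth.Agent.Lambda

universe u

variable {K : Type u} [CommRing K] [LambdaOps K] {P : PosStructure K}

variable (P) in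
/-- the degree `k` part of the graded ring -/
def degPart (k : ℕ) : Submodule ℚ (KGr.Gr P) :=
  Submodule.span ℚ (Set.range (cls P k))

theorem degData {d : ℕ} (hd : gammaFiltration P (d + 1) = ⊥) : DegData (R := KGr.Gr P) (degPart P) d where
  one_mem := Submodule.subset_span ⟨_, cls_one⟩
  mul_mem := by
    intro i j a b ha hb
    induction ha using Submodule.span_induction with
    | mem a ha =>
      obtain ⟨⟨x, hx⟩, rfl⟩ := ha
      induction hb using Submodule.span_induction with
      | mem b hb =>
        obtain ⟨⟨y, hy⟩, rfl⟩ := hb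
        rw [cls_mul hx hy]
        exact Submodule.subset_span ⟨_, rfl⟩
      | zero => rw [mul_zero]; exact zero_mem _
      | add a b _ _ h₁ h₂ => rw [mul_add]; exact add_mem h₁ h₂
      | smul c a _ h => rw [mul_smul_comm]; exact Submodule.smul_mem _ c h
    | zero => rw [zero_mul]; exact zero_mem _
    | add a b _ _ h₁ h₂ => rw [add_mul]; exact add_mem h₁ h₂
    | smul c a _ h => rw [smul_mul_assoc]; exact Submodule.smul_mem _ c h
  eq_zero := by
    intro k hk a ha
    have h0 : degPart P k = ⊥ := by
      rw [degPart, Submodule.span_eq_bot]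
      rintro _ ⟨⟨x, hx⟩, rfl⟩
      have h0 : x = 0 := by
        have := gammaFiltration_anti P hk hx
        rwa [hd, AddSubgroup.mem_bot] at this
      subst h0
      exact map_zero _
    rwa [h0, Submodule.mem_bot] at ha

theorem coeff_cSer_mem (x : K) (i : ℕ) : coeff i (cSer P x) ∈ degPart P i := by
  rw [coeff_cSer, chern_eq_cls]
  exact Submodule.subset_span ⟨_, rfl⟩

/-- the Chern character as a ring map -/
def chHom (hK : HasSplitting K P) {d : ℕ} (hd : gammaFiltration P (d + 1) = ⊥) : K →+* KGr.Gr P where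
  toFun := KGr.chK P d
  map_zero' := by rw [← chRat_one_tmul, TensorProduct.tmul_zero, map_zero]
  map_add' := fun x y => by
    rw [← chRat_one_tmul, ← chRat_one_tmul, ← chRat_one_tmul, TensorProduct.tmul_add, map_add]
  map_one' := by
    have hc : cSer P (1 : K) = 1 := by
      ext i
      rw [coeff_cSer, KGr.chern, map_one, Int.cast_one, sub_self, PowerSeries.coeff_one]
      cases i with
      | zero =>
        rw [gamma_zero_op, if_pos rfl, grK_eq_cls (fil_zero 1)]
        exact cls_one
      | succ i =>
        rw [gamma_of_zero _ (Nat.succ_ne_zero i), if_neg (Nat.succ_ne_zero i), grK_eq_cls (zero_mem _)]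
        exact map_zero (cls P (i + 1))
    rw [chK_eq, Finset.sum_range_succ', Finset.sum_eq_zero (fun k _ => by
      rw [chDeg, if_neg (Nat.succ_ne_zero k), hc, psi_one_series, smul_zero]), zero_add, chDeg,
      if_pos rfl, map_one, Int.cast_one, map_one]
  map_mul' := fun x y => by
    rw [← chRat_one_tmul, ← chRat_one_tmul, ← chRat_one_tmul, ← chRat_mul hK hd,
      Algebra.TensorProduct.tmul_mul_tmul, mul_one]

theorem aug_cast {e : K} (he : e ∈ P.pos) {A : Type u} [CommRing A] :
    ((P.aug e : ℤ) : A) = (((P.aug e).toNat : ℕ) : A) := by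
  obtain ⟨n, hn⟩ := Int.eq_ofNat_of_zero_le (P.aug_pos e he).le
  rw [hn, Int.toNat_natCast, Int.cast_natCast]

theorem chern_eq_zero_of_rank {e : K} (he : e ∈ P.pos) {i : ℕ} (hi : (P.aug e).toNat < i) :
    KGr.chern P i e = 0 := by
  have h0 : gamma i (e - (P.aug e : K)) = 0 := by
    rw [aug_cast (A := K) he]
    exact gamma_eq_zero_of_rank (pos_lam_one P)
      (fun k hk => P.lam_eq_zero e he k (by have := P.aug_pos e he; omega)) i hi
  rw [KGr.chern, h0, grK_eq_cls (zero_mem _)]
  exact map_zero (cls P i)

theorem chHom_adams (hK : HasSplitting K P) {d : ℕ} (hd : gammaFiltration P (d + 1) = ⊥) {e : K} (he : e ∈ P.pos)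
    {j : ℕ} (hj : 1 ≤ j) :
    chHom hK hd (adamsOp j e) = ∑ k ∈ range (d + 1),
      (j : KGr.Gr P) ^ k * coeff k (chOf ((((P.aug e).toNat : ℕ) : KGr.Gr P)) (cSer P e)) := by
  show KGr.chK P d (adamsOp j e) = _
  rw [chK_eq]
  refine Finset.sum_congr rfl fun k _ => ?_
  rw [← adams_eq P hj, chDeg_adams hK hj, gr_smul_def, map_pow, map_natCast]
  congr 1
  show _ = coeff k (PowerSeries.mk _)
  rw [coeff_mk, chDeg]
  split_ifs with h
  · rw [map_intCast]; exact aug_cast (A := KGr.Gr P) he
  · exact gr_smul_def _ _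

/-- the main identity -/
theorem tdK_mul_chK (hK : HasSplitting K P) {d : ℕ} (hd : gammaFiltration P (d + 1) = ⊥) {inv : K → K}
    (hS : HasInvSplitting P inv) {e : K} (he : e ∈ P.pos) :
    KGr.tdK P d e *
        KGr.chK P d (∑ i ∈ range ((P.aug e).toNat + 1), (-1 : K) ^ i * LambdaOps.lam i (inv e)) =
      KGr.chern P (P.aug e).toNat e := by
  have hc : ∀ i, coeff i (PowerSeries.map (chHom hK hd) (lamSeries e)) = chHom hK hd (LambdaOps.lam i e) :=
    fun i => by rw [coeff_map, coeff_lamSeries]
  have h := (degData hd).todd_mul_eq (cc_cSer (P := P) e) (coeff_cSer_mem e) (m := (P.aug e).toNat)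
    (fun i hi => by rw [coeff_cSer]; exact chern_eq_zero_of_rank he hi)
    (L := PowerSeries.map (chHom hK hd) (lamSeries e)) ((cc_lamSeries e).map _)
    fun j hj => by
      rw [← map_psi (cc_lamSeries e), ← adamsOp_eq_psi]
      exact chHom_adams hK hd he hj
  have hΓ : chHom hK hd (∑ i ∈ range ((P.aug e).toNat + 1), (-1 : K) ^ i * LambdaOps.lam i (inv e)) *
      chHom hK hd (LambdaOps.lam (P.aug e).toNat e) =
      (-1) ^ (P.aug e).toNat * ∑ i ∈ range ((P.aug e).toNat + 1),
        (-1) ^ i * coeff i (PowerSeries.map (chHom hK hd) (lamSeries e)) := by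
    rw [← map_mul, ← gamma_rank_inv hS he, gamma_rank_eq P]
    simp only [map_mul, map_sum, map_pow, map_neg, map_one, hc]
  rw [← hΓ, hc, coeff_cSer, ← mul_assoc] at h
  refine ((P.isUnit_lam e he).map (chHom hK hd)).mul_right_cancel ?_
  have ht : KGr.tdK P d e = MvPolynomial.aeval (fun i : Fin d => coeff ((i : ℕ) + 1) (cSer P e)) (KGr.toddPoly d) := by
    rw [KGr.tdK]
    exact congrArg (fun c => MvPolynomial.aeval c (KGr.toddPoly d)) (funext fun i => (coeff_cSer e _).symm)
  rw [ht]
  exact h

end Groth.Agent.Lambda
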