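import Groth.Agent.Lambda.Chern
import Groth.Agent.Lambda.Special
import Groth.Agent.Lambda.SymPoly
import Mathlib.NumberTheory.Bernoulli
import Mathlib.RingTheory.PowerSeries.Exp
import Mathlib.RingTheory.PowerSeries.Trunc

/-!
# Todd series and exponential roots

For `f = ∏ (1 + a t)` over a `ℚ`-algebra: the series `todd f = ∏ β(a T)`, the series
`chOf f = ∑ exp (a T)` and the series in two variables `lamOf f = ∏ (1 + exp (a T) t)`.
-/

noncomputable section

set_option autoImplicit false
set_option linter.style.haveILetI false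
set_option linter.unusedSectionVars false

open Finset PowerSeries

namespace Groth.Agent.Lambda

universe u v

section general

variable {R : Type u} [CommRing R] [Algebra ℚ R] {S : Type v} [CommRing S] [Algebra ℚ S]

/-- series with prescribed power sums exist up to any order -/
theorem exists_psi_upto (p : ℕ → R) (n : ℕ) :
    ∃ f : R⟦X⟧, CC f ∧ ∀ k, 1 ≤ k → k ≤ n → psi f k = p k := by
  induction n with
  | zero => exact ⟨1, CC.one, fun k h1 h2 => by omega⟩
  | succ n ih =>
    obtain ⟨f, hf, h⟩ := ih
    let a : R := algebraMap ℚ R ((-1) ^ n / ((n : ℚ) + 1)) * (p (n + 1) - psi f (n + 1))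
    let g : R⟦X⟧ := 1 + C a * X ^ (n + 1)
    have hcg : ∀ i, coeff i g = (if i = 0 then 1 else 0) + if i = n + 1 then a else 0 := fun i => by
      rw [map_add, coeff_one, coeff_C_mul, coeff_X_pow]
      split_ifs <;> simp
    have hg : CC g := by simp [CC, g]
    refine ⟨f * g, hf.mul hg, fun k h1 h2 => ?_⟩
    rw [psi_mul hf hg]
    rcases Nat.lt_or_ge k (n + 1) with hk | hk
    · rw [h k h1 (by omega), psi_congr hg CC.one (n := n) (fun i hi => ?_) k (by omega), psi_one_series, add_zero]
      rw [hcg, coeff_one, if_neg (show i ≠ n + 1 by omega), add_zero]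
    · obtain rfl : k = n + 1 := by omega
      rw [psi_eq_of_low hg fun i hi hlt => by
        rw [hcg, if_neg (show i ≠ 0 by omega), if_neg (show i ≠ n + 1 by omega), add_zero]]
      rw [hcg, if_neg (Nat.succ_ne_zero n), if_pos rfl, zero_add]
      have hq : ((-1 : R) ^ n * ((n : R) + 1)) * algebraMap ℚ R ((-1) ^ n / ((n : ℚ) + 1)) = 1 := by
        have h0 : ((n : ℚ) + 1) ≠ 0 := Nat.cast_add_one_ne_zero n
        rw [show ((-1 : R) ^ n * ((n : R) + 1)) = algebraMap ℚ R ((-1) ^ n * ((n : ℚ) + 1)) by simp,
          ← map_mul, show ((-1 : ℚ) ^ n * ((n : ℚ) + 1)) * ((-1) ^ n / ((n : ℚ) + 1)) = 1 by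
            field_simp
            rw [← pow_mul, mul_comm, pow_mul, neg_one_sq, one_pow], map_one]
      linear_combination (p (n + 1) - psi f (n + 1)) * hq

theorem exists_psi (p : ℕ → R) : ∃ f : R⟦X⟧, CC f ∧ ∀ k, 1 ≤ k → psi f k = p k := by
  choose f hf hp using exists_psi_upto p
  let g : R⟦X⟧ := PowerSeries.mk fun m => coeff m (f m)
  have hg : CC g := by
    show constantCoeff g = 1
    rw [← coeff_zero_eq_constantCoeff_apply, coeff_mk, (hf 0).coeff_zero]
  refine ⟨g, hg, fun k hk => ?_⟩
  rw [psi_congr hg (hf k) (n := k) (fun i hi => ?_) k le_rfl, hp k k hk le_rfl]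
  rw [coeff_mk]
  exact coeff_congr_of_psi (natTorsionFree_ratAlgebra R) (hf i) (hf k)
    (fun l h1 h2 => by rw [hp i l h1 h2, hp k l h1 (le_trans h2 hi)]) i le_rfl

/-- the series with given power sums -/
def serOf (p : ℕ → R) : R⟦X⟧ := (exists_psi p).choose

theorem cc_serOf (p : ℕ → R) : CC (serOf p) := (exists_psi p).choose_spec.1

theorem psi_serOf (p : ℕ → R) {k : ℕ} (hk : 1 ≤ k) : psi (serOf p) k = p k :=
  (exists_psi p).choose_spec.2 k hk

theorem serOf_eq {p : ℕ → R} {f : R⟦X⟧} (hf : CC f) (h : ∀ k, 1 ≤ k → psi f k = p k) : serOf p = f :=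
  eq_of_psi (natTorsionFree_ratAlgebra R) (cc_serOf p) hf fun k hk => by rw [psi_serOf p hk, h k hk]

theorem map_serOf (φ : R →+* S) (p : ℕ → R) : PowerSeries.map φ (serOf p) = serOf fun k => φ (p k) :=
  (serOf_eq ((cc_serOf p).map φ) fun k hk => by rw [← map_psi (cc_serOf p), psi_serOf p hk]).symm

theorem map_exp' (φ : R →+* S) : PowerSeries.map φ (exp R) = exp S := map_exp φ

theorem map_bSer (φ : R →+* S) : PowerSeries.map φ (bernoulli'PowerSeries R) = bernoulli'PowerSeries S := by
  ext k
  rw [coeff_map, bernoulli'PowerSeries, bernoulli'PowerSeries, coeff_mk, coeff_mk]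
  exact RingHom.map_rat_algebraMap φ _

theorem cc_bSer : CC (bernoulli'PowerSeries R) := by
  show constantCoeff _ = 1
  rw [← coeff_zero_eq_constantCoeff_apply, bernoulli'PowerSeries, coeff_mk]
  simp

/-- the Todd series -/
def todd (f : R⟦X⟧) : R⟦X⟧ := serOf fun k => psi (bernoulli'PowerSeries R) k * psi f k

theorem map_todd {f : R⟦X⟧} (hf : CC f) (φ : R →+* S) :
    PowerSeries.map φ (todd f) = todd (PowerSeries.map φ f) := by
  rw [todd, map_serOf, todd]
  congr 1
  funext k
  rw [map_mul, map_psi cc_bSer, map_psi hf, map_bSer]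

theorem coeff_todd_congr {f g : R⟦X⟧} (hf : CC f) (hg : CC g) {d : ℕ}
    (h : ∀ i, i ≤ d → coeff i f = coeff i g) : ∀ k, k ≤ d → coeff k (todd f) = coeff k (todd g) :=
  coeff_congr_of_psi (natTorsionFree_ratAlgebra R) (cc_serOf _) (cc_serOf _) fun k h1 h2 => by
    rw [psi_serOf _ h1, psi_serOf _ h1, psi_congr hf hg h k h2]

theorem cc_prod (s : Multiset R⟦X⟧) (h : ∀ f ∈ s, CC f) : CC s.prod := by
  show constantCoeff _ = 1
  rw [map_multiset_prod]
  exact Multiset.prod_eq_one fun a ha => by
    obtain ⟨f, hf, rfl⟩ := Multiset.mem_map.1 ha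
    exact h f hf

theorem psi_multiset_prod (s : Multiset R⟦X⟧) (h : ∀ f ∈ s, CC f) (k : ℕ) :
    psi s.prod k = (s.map fun f => psi f k).sum := by
  induction s using Multiset.induction with
  | empty => simp [psi_one_series]
  | cons a s ih =>
    have hs : ∀ f ∈ s, CC f := fun f hf => h f (Multiset.mem_cons_of_mem hf)
    rw [Multiset.prod_cons, psi_mul (h a (Multiset.mem_cons_self a s)) (cc_prod s hs), ih hs,
      Multiset.map_cons, Multiset.sum_cons]

theorem cc_rescale_bSer (a : R) : CC (rescale a (bernoulli'PowerSeries R)) := cc_rescale' cc_bSer a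

theorem todd_prodLin (s : Multiset R) :
    todd (prodLin s) = (s.map fun a => rescale a (bernoulli'PowerSeries R)).prod := by
  have h : ∀ f ∈ s.map fun a => rescale a (bernoulli'PowerSeries R), CC f := fun f hf => by
    obtain ⟨a, -, rfl⟩ := Multiset.mem_map.1 hf
    exact cc_rescale_bSer a
  refine serOf_eq (cc_prod _ h) fun k hk => ?_
  rw [psi_multiset_prod _ h, Multiset.map_map, psi_prodLin s k hk, ← Multiset.sum_map_mul_left]
  refine congrArg Multiset.sum (Multiset.map_congr rfl fun a _ => ?_)
  rw [Function.comp_apply, psi_rescale cc_bSer, mul_comm]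

/-- the sum of the exponentials of the roots, `r` being their number -/
def chOf (r : R) (f : R⟦X⟧) : R⟦X⟧ :=
  PowerSeries.mk fun k => if k = 0 then r else algebraMap ℚ R (1 / (k.factorial : ℚ)) * psi f k

theorem map_chOf (r : R) {f : R⟦X⟧} (hf : CC f) (φ : R →+* S) :
    PowerSeries.map φ (chOf r f) = chOf (φ r) (PowerSeries.map φ f) := by
  ext k
  rw [coeff_map, chOf, chOf, coeff_mk, coeff_mk]
  split_ifs
  · rfl
  · rw [map_mul, RingHom.map_rat_algebraMap, map_psi hf]

theorem chOf_prodLin (s : Multiset R) :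
    chOf (Multiset.card s : R) (prodLin s) = (s.map fun a => rescale a (exp R)).sum := by
  ext k
  rw [chOf, coeff_mk, map_multiset_sum, Multiset.map_map]
  simp only [Function.comp_def, coeff_rescale, coeff_exp]
  split_ifs with h
  · subst h; simp
  · rw [psi_prodLin s k (Nat.pos_of_ne_zero h), ← Multiset.sum_map_mul_left]
    exact congrArg Multiset.sum (Multiset.map_congr rfl fun a _ => mul_comm _ _)

/-- the exterior powers of the exponential roots -/
def lamOf (r : R) (f : R⟦X⟧) : (R⟦X⟧)⟦X⟧ := serOf fun j => rescale (j : R) (chOf r f)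

theorem map_lamOf (r : R) {f : R⟦X⟧} (hf : CC f) (φ : R →+* S) :
    PowerSeries.map (PowerSeries.map φ) (lamOf r f) = lamOf (φ r) (PowerSeries.map φ f) := by
  rw [lamOf, map_serOf, lamOf]
  congr 1
  funext j
  rw [map_rescale', map_natCast, map_chOf r hf]

theorem lamOf_prodLin (s : Multiset R) :
    lamOf (Multiset.card s : R) (prodLin s) = prodLin (s.map fun a => rescale a (exp R)) := by
  refine serOf_eq (cc_prodLin _) fun j hj => ?_
  rw [psi_prodLin _ j hj, chOf_prodLin, map_multiset_sum, Multiset.map_map, Multiset.map_map]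
  refine congrArg Multiset.sum (Multiset.map_congr rfl fun a _ => ?_)
  simp only [Function.comp_apply]
  rw [← map_pow, exp_pow_eq_rescale_exp, rescale_rescale, rescale_rescale, mul_comm]

theorem sum_alt_esymm {A : Type*} [CommRing A] (s : Multiset A) :
    ∑ i ∈ range (Multiset.card s + 1), (-1 : A) ^ i * s.esymm i = (s.map fun y => 1 - y).prod := by
  induction s using Multiset.induction with
  | empty => simp [esymm_zero_eq_one]
  | cons a s ih =>
    rw [Multiset.card_cons, Multiset.map_cons, Multiset.prod_cons, ← ih, Finset.sum_range_succ']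
    simp only [esymm_cons_succ, esymm_zero_eq_one, pow_zero, mul_one, mul_add, Finset.sum_add_distrib]
    rw [Finset.sum_range_succ, esymm_of_card_lt s _ (Nat.lt_succ_self _), mul_zero, add_zero, sub_mul, one_mul,
      Finset.sum_range_succ' (fun i => (-1 : A) ^ i * s.esymm i), esymm_zero_eq_one, pow_zero, mul_one]
    have h2 : ∑ x ∈ range (Multiset.card s + 1), (-1 : A) ^ (x + 1) * (a * s.esymm x) =
        -(a * ∑ x ∈ range (Multiset.card s + 1), (-1 : A) ^ x * s.esymm x) := by
      rw [Finset.mul_sum, ← Finset.sum_neg_distrib]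
      exact Finset.sum_congr rfl fun x _ => by ring
    rw [h2, Finset.sum_range_succ' (fun i => (-1 : A) ^ i * s.esymm i), esymm_zero_eq_one, pow_zero, mul_one]
    ring

theorem esymm_card {A : Type*} [CommRing A] (t : Multiset A) : t.esymm (Multiset.card t) = t.prod := by
  simp [Multiset.esymm, Multiset.powersetCard_self]

/-- the identity for split series -/
theorem todd_identity_split (s : Multiset R) :
    todd (prodLin s) * ((-1) ^ Multiset.card s * ∑ i ∈ range (Multiset.card s + 1),
        (-1 : R⟦X⟧) ^ i * coeff i (lamOf (Multiset.card s : R) (prodLin s))) =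
      X ^ Multiset.card s * C (coeff (Multiset.card s) (prodLin s)) *
        coeff (Multiset.card s) (lamOf (Multiset.card s : R) (prodLin s)) := by
  let E : R → R⟦X⟧ := fun a => rescale a (exp R)
  simp only [lamOf_prodLin, coeff_prodLin]
  have hsum := sum_alt_esymm (s.map E)
  rw [Multiset.card_map] at hsum
  rw [hsum, todd_prodLin,
    esymm_card, show (s.map E).esymm (Multiset.card s) = (s.map E).prod by
      rw [← Multiset.card_map E s]; exact esymm_card _]
  induction s using Multiset.induction with
  | empty => simp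
  | cons a s ih =>
    have ih' := ih (by
      have := sum_alt_esymm (s.map E)
      rwa [Multiset.card_map] at this)
    simp only [Multiset.map_cons, Multiset.prod_cons, Multiset.card_cons, map_mul, pow_succ, Multiset.map_map,
      Function.comp_def] at ih' ⊢
    have key : rescale a (bernoulli'PowerSeries R) * (E a - 1) = C a * X * E a := by
      have := congrArg (rescale a) (bernoulli'PowerSeries_mul_exp_sub_one R)
      rw [map_mul, map_sub, map_one, map_mul, rescale_X] at this
      exact this
    linear_combination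
      ((s.map fun a => rescale a (bernoulli'PowerSeries R)).prod *
        ((-1) ^ Multiset.card s * (s.map fun a => 1 - E a).prod)) * key + (C a * X * E a) * ih'

end general

section universal

variable {R : Type u} [CommRing R] [Algebra ℚ R]

/-- the elementary symmetric polynomials as an algebra map -/
def esymHom (d : ℕ) : MvPolynomial (Fin d) ℚ →ₐ[ℚ] MvPolynomial (Fin d) ℚ :=
  (MvPolynomial.symmetricSubalgebra (Fin d) ℚ).val.comp (MvPolynomial.esymmAlgHom (Fin d) ℚ d)

theorem esymHom_injective (d : ℕ) : Function.Injective (esymHom d).toRingHom :=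
  Subtype.val_injective.comp (MvPolynomial.esymmAlgHom_injective ℚ (by simp))

theorem esymHom_X (d : ℕ) (i : Fin d) :
    esymHom d (MvPolynomial.X i) = ((univ : Finset (Fin d)).val.map MvPolynomial.X).esymm (i + 1) := by
  simp only [esymHom, MvPolynomial.esymmAlgHom, AlgHom.comp_apply, MvPolynomial.aeval_X, Subalgebra.coe_val]
  rw [← MvPolynomial.aeval_esymm_eq_multiset_esymm (Fin d) ℚ]
  exact (MvPolynomial.aeval_X_left_apply _).symm

theorem map_esymHom_varSer (d : ℕ) : PowerSeries.map (esymHom d).toRingHom (varSer d) =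
    prodLin ((univ : Finset (Fin d)).val.map MvPolynomial.X) := by
  ext m : 1
  rw [coeff_map, varSer, coeff_mk, coeff_prodLin]
  split_ifs with h h0
  · show esymHom d (MvPolynomial.X _) = _
    rw [esymHom_X, show m - 1 + 1 = m by omega]
  · rw [h0, map_one, esymm_zero_eq_one]
  · rw [map_zero, esymm_of_card_lt _ m (by simp; omega)]

/-- evaluation of the variables at the coefficients -/
def coeffHom (d : ℕ) (f : R⟦X⟧) : MvPolynomial (Fin d) ℚ →ₐ[ℚ] R :=
  MvPolynomial.aeval fun i : Fin d => coeff ((i : ℕ) + 1) f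

theorem map_coeffHom_varSer (d : ℕ) {f : R⟦X⟧} (hf : CC f) :
    PowerSeries.map (coeffHom d f).toRingHom (varSer d) =
      PowerSeries.mk fun i => if i ≤ d then coeff i f else 0 := by
  ext i
  rw [coeff_map, varSer, coeff_mk, coeff_mk]
  split_ifs with h h1 h2 h3
  · show coeffHom d f (MvPolynomial.X _) = _
    rw [coeffHom, MvPolynomial.aeval_X, show i - 1 + 1 = i by omega]
  · omega
  · rw [h2, map_one, hf.coeff_zero]
  · omega
  · omega
  · exact map_zero _

/-- the identity for series of degree `m` -/
theorem todd_identity {m : ℕ} {f : R⟦X⟧} (hf : CC f) (hb : ∀ i, m < i → coeff i f = 0) :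
    todd f * ((-1) ^ m * ∑ i ∈ range (m + 1), (-1 : R⟦X⟧) ^ i * coeff i (lamOf (m : R) f)) =
      X ^ m * C (coeff m f) * coeff m (lamOf (m : R) f) := by
  have hu : todd (varSer m) * ((-1) ^ m * ∑ i ∈ range (m + 1),
      (-1 : (MvPolynomial (Fin m) ℚ)⟦X⟧) ^ i * coeff i (lamOf (m : MvPolynomial (Fin m) ℚ) (varSer m))) =
      X ^ m * C (coeff m (varSer m)) * coeff m (lamOf (m : MvPolynomial (Fin m) ℚ) (varSer m)) := by
    apply PowerSeries.map_injective _ (esymHom_injective m)
    have h1 := map_lamOf (m : MvPolynomial (Fin m) ℚ) (cc_varSer m) (esymHom m).toRingHom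
    rw [map_natCast, map_esymHom_varSer] at h1
    have h2 := todd_identity_split
      ((univ : Finset (Fin m)).val.map (MvPolynomial.X : Fin m → MvPolynomial (Fin m) ℚ))
    rw [show Multiset.card ((univ : Finset (Fin m)).val.map
      (MvPolynomial.X : Fin m → MvPolynomial (Fin m) ℚ)) = m by simp] at h2
    simp only [map_mul, map_sum, map_pow, map_neg, map_one, map_X, map_C, map_todd (cc_varSer m),
      ← coeff_map (PowerSeries.map (esymHom m).toRingHom), h1, ← coeff_map (esymHom m).toRingHom,
      map_esymHom_varSer]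
    exact h2
  have hφ : PowerSeries.map (coeffHom m f).toRingHom (varSer m) = f := by
    rw [map_coeffHom_varSer m hf]
    ext i
    rw [coeff_mk]
    split_ifs with h
    · rfl
    · rw [hb i (by omega)]
  have h3 := congrArg (PowerSeries.map (coeffHom m f).toRingHom) hu
  simp only [map_mul, map_sum, map_pow, map_neg, map_one, map_X, map_C, map_todd (cc_varSer m),
    ← coeff_map (PowerSeries.map (coeffHom m f).toRingHom),
    map_lamOf (m : MvPolynomial (Fin m) ℚ) (cc_varSer m) (coeffHom m f).toRingHom, map_natCast,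
    ← coeff_map (coeffHom m f).toRingHom, hφ] at h3
  exact h3

theorem esymm_map_mul_const {A : Type*} [CommRing A] (s : Multiset A) (t : A) (k : ℕ) :
    (s.map (· * t)).esymm k = s.esymm k * t ^ k := by
  induction s using Multiset.induction generalizing k with
  | empty =>
    cases k with
    | zero => simp [esymm_zero_eq_one]
    | succ k => simp [esymm_empty_succ]
  | cons a s ih =>
    cases k with
    | zero => simp [esymm_zero_eq_one]
    | succ k => rw [Multiset.map_cons, esymm_cons_succ, esymm_cons_succ, ih, ih]; ring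

/-- the truncated Todd polynomial computes the Todd series -/
theorem coeff_aeval_toddPoly (d : ℕ) {f : R⟦X⟧} (hf : CC f) (k : ℕ) (hk : k ≤ d) :
    coeff k (MvPolynomial.aeval (fun i : Fin d => C (coeff ((i : ℕ) + 1) f) * X ^ ((i : ℕ) + 1))
      (KGr.toddPoly d)) = coeff k (todd f) := by
  let U := MvPolynomial (Fin d) ℚ
  let Pu : U⟦X⟧ := MvPolynomial.aeval (fun i : Fin d => C (MvPolynomial.X i : U) * X ^ ((i : ℕ) + 1))
    (KGr.toddPoly d)
  let ρ : U →ₐ[ℚ] U⟦X⟧ := MvPolynomial.aeval fun i : Fin d => C (MvPolynomial.X i : U) * X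
  have hu : ∀ k ≤ d, coeff k Pu = coeff k (todd (varSer d)) := by
    intro k hk
    apply esymHom_injective d
    rw [← coeff_map, ← coeff_map, map_todd (cc_varSer d), map_esymHom_varSer, todd_prodLin, Multiset.map_map]
    have hgen : ∀ i : Fin d, ρ (esymHom d (MvPolynomial.X i)) =
        C (esymHom d (MvPolynomial.X i)) * X ^ ((i : ℕ) + 1) := fun i => by
      rw [esymHom_X]
      show ρ.toRingHom _ = _
      rw [map_esymm' ρ.toRingHom, Multiset.map_map, map_esymm' (C : U →+* U⟦X⟧),
        Multiset.map_map, ← esymm_map_mul_const, Multiset.map_map]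
      refine congrArg (Multiset.esymm · _) (Multiset.map_congr rfl fun j _ => ?_)
      exact MvPolynomial.aeval_X _ _
    have hPu : PowerSeries.map (esymHom d).toRingHom Pu = ρ (esymHom d (KGr.toddPoly d)) := by
      have halg : ((PowerSeries.mapAlgHom (esymHom d)).comp (MvPolynomial.aeval
          fun i : Fin d => C (MvPolynomial.X i : U) * X ^ ((i : ℕ) + 1))) = ρ.comp (esymHom d) := by
        refine MvPolynomial.algHom_ext fun i => ?_
        simp only [AlgHom.comp_apply, MvPolynomial.aeval_X, hgen]
        show PowerSeries.map _ _ = _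
        rw [map_mul, map_C, map_pow, map_X]
        rfl
      exact DFunLike.congr_fun halg (KGr.toddPoly d)
    have htd : esymHom d (KGr.toddPoly d) =
        ∏ i : Fin d, Polynomial.aeval (MvPolynomial.X i) (KGr.toddTrunc d) := by
      show ((MvPolynomial.esymmAlgEquiv (Fin d) ℚ (Fintype.card_fin d)) (KGr.toddPoly d)).1 = _
      rw [KGr.toddPoly, AlgEquiv.apply_symm_apply]
    rw [hPu, htd, map_prod]
    let I : Ideal U⟦X⟧ := Ideal.span {X ^ (d + 1)}
    have hI : ∀ i : Fin d, Ideal.Quotient.mk I (ρ (Polynomial.aeval (MvPolynomial.X i) (KGr.toddTrunc d))) =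
        Ideal.Quotient.mk I (rescale (MvPolynomial.X i : U) (bernoulli'PowerSeries U)) := by
      intro i
      rw [Ideal.Quotient.eq, Ideal.mem_span_singleton, X_pow_dvd_iff]
      intro l hl
      rw [map_sub, ← Polynomial.aeval_algHom_apply, show ρ (MvPolynomial.X i) = C (MvPolynomial.X i : U) * X from
        MvPolynomial.aeval_X _ _, KGr.toddTrunc, map_sum, map_sum, coeff_rescale, bernoulli'PowerSeries, coeff_mk]
      rw [Finset.sum_eq_single l]
      · rw [map_mul, map_pow, Polynomial.aeval_C, Polynomial.aeval_X, mul_pow, ← map_pow,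
          PowerSeries.algebraMap_apply, ← mul_assoc, ← map_mul, coeff_C_mul, coeff_X_pow, if_pos rfl, mul_one,
          mul_comm, sub_self]
      · intro l' _ hne
        rw [map_mul, map_pow, Polynomial.aeval_C, Polynomial.aeval_X, mul_pow, ← map_pow,
          PowerSeries.algebraMap_apply, ← mul_assoc, ← map_mul, coeff_C_mul, coeff_X_pow, if_neg (Ne.symm hne),
          mul_zero]
      · intro h
        exact absurd (Finset.mem_range.2 hl) h
    have hprod : Ideal.Quotient.mk I (∏ i : Fin d, ρ (Polynomial.aeval (MvPolynomial.X i) (KGr.toddTrunc d))) =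
        Ideal.Quotient.mk I (∏ i : Fin d, rescale (MvPolynomial.X i : U) (bernoulli'PowerSeries U)) := by
      rw [map_prod, map_prod]
      exact Finset.prod_congr rfl fun i _ => hI i
    rw [Ideal.Quotient.eq, Ideal.mem_span_singleton, X_pow_dvd_iff] at hprod
    have := hprod k (by omega)
    rw [map_sub, sub_eq_zero] at this
    exact this
  have hmap : PowerSeries.map (coeffHom d f).toRingHom Pu =
      MvPolynomial.aeval (fun i : Fin d => C (coeff ((i : ℕ) + 1) f) * X ^ ((i : ℕ) + 1)) (KGr.toddPoly d) := by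
    have halg : ((PowerSeries.mapAlgHom (coeffHom d f)).comp (MvPolynomial.aeval
        fun i : Fin d => C (MvPolynomial.X i : U) * X ^ ((i : ℕ) + 1))) =
        MvPolynomial.aeval (fun i : Fin d => C (coeff ((i : ℕ) + 1) f) * X ^ ((i : ℕ) + 1)) := by
      refine MvPolynomial.algHom_ext fun i => ?_
      simp only [AlgHom.comp_apply, MvPolynomial.aeval_X]
      show PowerSeries.map _ _ = _
      rw [map_mul, map_C, map_pow, map_X]
      congr 2
      exact MvPolynomial.aeval_X _ _
    exact DFunLike.congr_fun halg (KGr.toddPoly d)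
  rw [← hmap, coeff_map, hu k hk, ← coeff_map, map_todd (cc_varSer d)]
  refine coeff_todd_congr ((cc_varSer d).map _) hf (fun i hi => ?_) k hk
  rw [map_coeffHom_varSer d hf, coeff_mk, if_pos hi]

end universal

end Groth.Agent.Lambda
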