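import Groth.Agent.Lambda.ToddSer

/-!
# The identity of Todd classes in a truncated graded ring
-/

noncomputable section

set_option autoImplicit false
set_option linter.style.haveILetI false
set_option linter.unusedSectionVars false

open Finset PowerSeries

namespace Groth.Agent.Lambda

universe u

variable {R : Type u} [CommRing R] [Algebra ℚ R]

/-- a grading by submodules vanishing above `d` -/
structure DegData (D : ℕ → Submodule ℚ R) (d : ℕ) : Prop where
  one_mem : (1 : R) ∈ D 0
  mul_mem : ∀ {i j : ℕ} {a b : R}, a ∈ D i → b ∈ D j → a * b ∈ D (i + j)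
  eq_zero : ∀ {k : ℕ}, d < k → ∀ a ∈ D k, a = 0

variable {D : ℕ → Submodule ℚ R} {d : ℕ} (hD : DegData D d)

include hD in
theorem DegData.intCast_mul_mem (z : ℤ) {k : ℕ} {a : R} (ha : a ∈ D k) : (z : R) * a ∈ D k := by
  rw [← zsmul_eq_mul]
  exact zsmul_mem ha z

include hD in
theorem DegData.psi_mem {f : R⟦X⟧} (hf : CC f) (h : ∀ i, coeff i f ∈ D i) {k : ℕ} (hk : 1 ≤ k) :
    psi f k ∈ D k := by
  have key : ∀ m, coeff m (dlog f) ∈ D (m + 1) := by
    intro m
    induction m using Nat.strong_induction_on with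
    | _ m ih =>
      have e := coeff_succ_mul_eq hf m
      rw [Finset.sum_range_succ'] at e
      simp only [hf.coeff_zero, one_mul, Nat.sub_zero] at e
      have e' : coeff m (dlog f) = (((m : ℤ) + 1 : ℤ) : R) * coeff (m + 1) f -
          ∑ k ∈ range m, coeff (k + 1) f * coeff (m - (k + 1)) (dlog f) := by
        push_cast
        linear_combination (-1 : R) * e
      rw [e']
      refine sub_mem (hD.intCast_mul_mem _ (h _)) (sum_mem fun k hk => ?_)
      have hk' := Finset.mem_range.1 hk
      have := hD.mul_mem (h (k + 1)) (ih (m - (k + 1)) (by omega))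
      rwa [show k + 1 + (m - (k + 1) + 1) = m + 1 by omega] at this
  obtain ⟨m, rfl⟩ : ∃ m, k = m + 1 := ⟨k - 1, by omega⟩
  rw [psi_succ, show ((-1 : R) ^ m) = (((-1 : ℤ) ^ m : ℤ) : R) by push_cast; rfl]
  exact hD.intCast_mul_mem _ (key m)

/-- series whose `k`-th coefficient has degree `k` -/
def DegData.series (hD : DegData D d) : Subalgebra ℚ R⟦X⟧ where
  carrier := {f | ∀ k, coeff k f ∈ D k}
  mul_mem' := fun {f g} hf hg k => by
    rw [coeff_mul]
    refine sum_mem fun p hp => ?_
    rw [← Finset.mem_antidiagonal.1 hp]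
    exact hD.mul_mem (hf _) (hg _)
  one_mem' := fun k => by
    rw [coeff_one]
    split_ifs with h
    · subst h; exact hD.one_mem
    · exact zero_mem _
  add_mem' := fun {f g} hf hg k => by rw [map_add]; exact add_mem (hf k) (hg k)
  zero_mem' := fun k => by rw [map_zero]; exact zero_mem _
  algebraMap_mem' := fun q k => by
    rw [PowerSeries.algebraMap_apply, coeff_C]
    split_ifs with h
    · subst h
      rw [Algebra.algebraMap_eq_smul_one]
      exact Submodule.smul_mem _ _ hD.one_mem
    · exact zero_mem _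

theorem DegData.coe_trunc {f : R⟦X⟧} (hf : f ∈ hD.series) :
    ((trunc (d + 1) f : Polynomial R) : R⟦X⟧) = f := by
  ext k
  rw [Polynomial.coeff_coe, coeff_trunc]
  split_ifs with h
  · rfl
  · exact (hD.eq_zero (by omega) _ (hf k)).symm

/-- the total class of a graded series -/
def DegData.tot : hD.series →ₐ[ℚ] R :=
  AlgHom.mk'
    { toFun := fun f => (trunc (d + 1) (f : R⟦X⟧)).eval 1
      map_one' := by rw [OneMemClass.coe_one, trunc_one, Polynomial.eval_one]
      map_zero' := by rw [ZeroMemClass.coe_zero, map_zero, Polynomial.eval_zero]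
      map_add' := fun f g => by rw [AddMemClass.coe_add, map_add, Polynomial.eval_add]
      map_mul' := fun f g => by
        refine Eq.trans (congrArg (Polynomial.eval 1) ?_) Polynomial.eval_mul
        apply Polynomial.coe_inj.1
        rw [Polynomial.coe_mul, hD.coe_trunc f.2, hD.coe_trunc g.2, hD.coe_trunc (f * g).2]
        rfl }
    fun c f => by
      show (trunc (d + 1) (c • (f : R⟦X⟧))).eval 1 = c • (trunc (d + 1) (f : R⟦X⟧)).eval 1
      rw [Algebra.smul_def, PowerSeries.algebraMap_apply, trunc_C_mul, Polynomial.eval_C_mul, ← Algebra.smul_def]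

theorem DegData.tot_apply (f : hD.series) : hD.tot f = (trunc (d + 1) (f : R⟦X⟧)).eval 1 := rfl

theorem DegData.C_mul_X_pow_mem {i : ℕ} {c : R} (hc : c ∈ D i) : C c * X ^ i ∈ hD.series := by
  intro k
  rw [coeff_C_mul, coeff_X_pow]
  split_ifs with h
  · subst h; rwa [mul_one]
  · rw [mul_zero]; exact zero_mem _

theorem DegData.tot_C_mul_X_pow {i : ℕ} {c : R} (hc : c ∈ D i) :
    hD.tot ⟨C c * X ^ i, hD.C_mul_X_pow_mem hc⟩ = c := by
  rw [tot_apply]
  rcases Nat.lt_or_ge d i with h | h
  · obtain rfl := hD.eq_zero h c hc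
    simp
  · have : trunc (d + 1) (C c * X ^ i) = Polynomial.C c * Polynomial.X ^ i := by
      ext k
      rw [coeff_trunc, coeff_C_mul, coeff_X_pow, Polynomial.coeff_C_mul, Polynomial.coeff_X_pow]
      split_ifs <;> first | rfl | omega | simp
    show (trunc (d + 1) (C c * X ^ i)).eval 1 = c
    rw [this]
    simp

theorem DegData.series_ext (f g : hD.series)
    (h : ∀ k ≤ d, coeff k (f : R⟦X⟧) = coeff k (g : R⟦X⟧)) : f = g := by
  refine Subtype.ext (PowerSeries.ext fun k => ?_)
  by_cases hk : k ≤ d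
  · exact h k hk
  · rw [hD.eq_zero (by omega) _ (f.2 k), hD.eq_zero (by omega) _ (g.2 k)]

include hD in
/-- the Todd class times the character of the alternating sum of the exterior powers -/
theorem DegData.todd_mul_eq {f : R⟦X⟧} (hf : CC f) (hfD : ∀ i, coeff i f ∈ D i) {m : ℕ}
    (hm : ∀ i, m < i → coeff i f = 0) {L : R⟦X⟧} (hL : CC L)
    (hpsi : ∀ j, 1 ≤ j → psi L j = ∑ k ∈ range (d + 1), (j : R) ^ k * coeff k (chOf (m : R) f)) :
    MvPolynomial.aeval (fun i : Fin d => coeff ((i : ℕ) + 1) f) (KGr.toddPoly d) *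
        ((-1) ^ m * ∑ i ∈ range (m + 1), (-1) ^ i * coeff i L) =
      coeff m f * coeff m L := by
  have hchD : ∀ j : ℕ, rescale (j : R) (chOf (m : R) f) ∈ hD.series := by
    intro j k
    rw [coeff_rescale, chOf, coeff_mk]
    split_ifs with h
    · subst h
      rw [pow_zero, one_mul, ← mul_one (m : R), ← nsmul_eq_mul]
      exact nsmul_mem hD.one_mem m
    · rw [← Nat.cast_pow, ← nsmul_eq_mul, ← Algebra.smul_def]
      exact nsmul_mem (Submodule.smul_mem _ _ (hD.psi_mem hf hfD (Nat.pos_of_ne_zero h))) _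
  let FG : PowerSeries hD.series := serOf fun j => ⟨rescale (j : R) (chOf (m : R) f), hchD j⟩
  have hFG : PowerSeries.map hD.series.val.toRingHom FG = lamOf (m : R) f :=
    map_serOf (S := R⟦X⟧) hD.series.val.toRingHom _
  have htot : PowerSeries.map hD.tot.toRingHom FG = L := by
    refine (map_serOf (S := R) hD.tot.toRingHom _).trans (serOf_eq hL fun j hj => ?_)
    rw [hpsi j hj]
    show _ = hD.tot ⟨rescale (j : R) (chOf (m : R) f), hchD j⟩
    rw [tot_apply, Polynomial.eval_eq_sum_range' (n := d + 1) (natDegree_trunc_lt _ _)]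
    refine Finset.sum_congr rfl fun k hk => ?_
    rw [coeff_trunc, if_pos (Finset.mem_range.1 hk), coeff_rescale, one_pow, mul_one]
  have hv : ∀ i, ((coeff i FG : hD.series) : R⟦X⟧) = coeff i (lamOf (m : R) f) := fun i => by
    rw [← hFG, coeff_map]; rfl
  have hc : ∀ i, hD.tot (coeff i FG) = coeff i L := fun i => by
    rw [← htot, coeff_map]; rfl
  let TG : hD.series := MvPolynomial.aeval (fun i : Fin d =>
    (⟨C (coeff ((i : ℕ) + 1) f) * X ^ ((i : ℕ) + 1), hD.C_mul_X_pow_mem (hfD _)⟩ : hD.series)) (KGr.toddPoly d)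
  have hTG : hD.tot TG = MvPolynomial.aeval (fun i : Fin d => coeff ((i : ℕ) + 1) f) (KGr.toddPoly d) := by
    refine (DFunLike.congr_fun (MvPolynomial.comp_aeval _ hD.tot) (KGr.toddPoly d)).trans ?_
    congr 1
    refine MvPolynomial.algHom_ext fun i => ?_
    rw [MvPolynomial.aeval_X, MvPolynomial.aeval_X, hD.tot_C_mul_X_pow (hfD _)]
  have hT : (TG : R⟦X⟧) = MvPolynomial.aeval
      (fun i : Fin d => C (coeff ((i : ℕ) + 1) f) * X ^ ((i : ℕ) + 1)) (KGr.toddPoly d) :=
    DFunLike.congr_fun (MvPolynomial.comp_aeval _ hD.series.val) (KGr.toddPoly d)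
  let ΓG : hD.series := (-1) ^ m * ∑ i ∈ range (m + 1), (-1) ^ i * coeff i FG
  let RG : hD.series := ⟨C (coeff m f) * X ^ m, hD.C_mul_X_pow_mem (hfD m)⟩ * coeff m FG
  have heq : TG * ΓG = RG := by
    refine hD.series_ext _ _ fun k hk => ?_
    have hΓv : (ΓG : R⟦X⟧) = (-1) ^ m * ∑ i ∈ range (m + 1), (-1) ^ i * coeff i (lamOf (m : R) f) := by
      simp only [ΓG, ← hv]
      push_cast
      rfl
    have hRv : (RG : R⟦X⟧) = X ^ m * C (coeff m f) * coeff m (lamOf (m : R) f) := by
      show C _ * X ^ m * ((coeff m FG : hD.series) : R⟦X⟧) = _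
      rw [hv, mul_comm (C (coeff m f)) (X ^ m)]
    rw [MulMemClass.coe_mul, hΓv, hRv, ← todd_identity hf hm, coeff_mul, coeff_mul]
    refine Finset.sum_congr rfl fun p hp => ?_
    congr 1
    rw [hT]
    exact coeff_aeval_toddPoly d hf p.1 (by have := Finset.mem_antidiagonal.1 hp; omega)
  have hfin := congrArg hD.tot heq
  simp only [map_mul, hTG, ΓG, RG, map_sum, map_pow, map_neg, map_one, hc, hD.tot_C_mul_X_pow (hfD m)] at hfin
  exact hfin

end Groth.Agent.Lambda
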